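import Cfsg.Agent.Lib.Helper31.BG11a
import Cfsg.Agent.Lib.Helper24.Rank2Main
import Cfsg.Agent.Lib.Helper66.AbelianIndec

set_option autoImplicit false

namespace Cfsg.Agent.Lib.Helper1.BG1211

open Subgroup Cfsg
open scoped commutatorElement
open Cfsg.Agent.Lib
open Cfsg.Agent.Lib.Helper24 Cfsg.Agent.Lib.Helper34 Cfsg.Agent.Lib.Helper31.BG11

universe u

variable {G : Type u} [Group G] [Finite G]

/-- A subgroup `X` normalizing a nontrivial `p`-group `A`, all of whose elements have a `p`-power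
power centralizing `A`, centralizes a nontrivial element of `A`. -/
theorem exists_fixed_of_pow {p : ℕ} [Fact p.Prime] {A X : Subgroup G} (hA : IsPGroup p A)
    (hne : A ≠ ⊥) (hX : X ≤ normalizer (A : Set G))
    (hpow : ∀ x ∈ X, ∃ k : ℕ, x ^ p ^ k ∈ centralizer (A : Set G)) :
    A ⊓ centralizer (X : Set G) ≠ ⊥ := by
  classical
  have hp : p.Prime := Fact.out
  let act : MulAction X A :=
    { smul := fun g a => ⟨(g : G) * a * (g : G)⁻¹,
        (Subgroup.mem_normalizer_iff.mp (hX g.2) a).mp a.2⟩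
      one_smul := fun a => by
        apply Subtype.ext
        change ((1 : X) : G) * a * ((1 : X) : G)⁻¹ = a
        simp
      mul_smul := fun g h a => by
        apply Subtype.ext
        change ((g * h : X) : G) * a * ((g * h : X) : G)⁻¹ = (g : G) * ((h : G) * a * (h : G)⁻¹) * (g : G)⁻¹
        simp [mul_assoc] }
  have hsmul : ∀ (g : X) (a : A), ((g • a : A) : G) = (g : G) * a * (g : G)⁻¹ := fun _ _ => rfl
  let φ : X →* Equiv.Perm A := MulAction.toPermHom X A
  have hR : IsPGroup p φ.range := by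
    rintro ⟨_, ⟨x, rfl⟩⟩
    obtain ⟨k, hk⟩ := hpow x x.2
    refine ⟨k, ?_⟩
    apply Subtype.ext
    change (φ x) ^ p ^ k = 1
    rw [← map_pow]
    ext a
    change (((x ^ p ^ k : X) • a : A) : G) = a
    rw [hsmul]
    have := Subgroup.mem_centralizer_iff.mp hk a a.2
    rw [Subgroup.coe_pow, ← this]
    simp
  have hmod := hR.card_modEq_card_fixedPoints A
  obtain ⟨n, hn⟩ := IsPGroup.iff_card.mp hA
  have hn0 : n ≠ 0 := by
    rintro rfl
    rw [pow_zero] at hn
    exact hne (Subgroup.card_eq_one.mp hn)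
  have hdvd : p ∣ Nat.card (MulAction.fixedPoints φ.range A) := by
    have h1 : p ∣ Nat.card A := by rw [hn]; exact dvd_pow_self p hn0
    exact (Nat.modEq_zero_iff_dvd.mp (hmod.symm.trans (Nat.modEq_zero_iff_dvd.mpr h1)))
  have hone : (1 : A) ∈ MulAction.fixedPoints φ.range A := by
    rintro ⟨_, ⟨x, rfl⟩⟩
    change x • (1 : A) = 1
    apply Subtype.ext
    rw [hsmul]
    simp
  have hlt : 1 < Nat.card (MulAction.fixedPoints φ.range A) := by
    have hpos : 0 < Nat.card (MulAction.fixedPoints φ.range A) :=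
      haveI : Nonempty (MulAction.fixedPoints φ.range A) := ⟨⟨1, hone⟩⟩
      Nat.card_pos
    exact lt_of_lt_of_le hp.one_lt (Nat.le_of_dvd hpos hdvd)
  obtain ⟨⟨a, ha⟩, ⟨b, hb⟩, hab⟩ := Finite.one_lt_card_iff_nontrivial.mp hlt |>.exists_pair_ne
  have key : ∀ c : A, c ∈ MulAction.fixedPoints φ.range A → (c : G) ∈ A ⊓ centralizer (X : Set G) := by
    intro c hc
    refine Subgroup.mem_inf.mpr ⟨c.2, ?_⟩
    rw [Subgroup.mem_centralizer_iff]
    intro x hx
    have h1 : (⟨x, hx⟩ : X) • c = c := hc ⟨φ ⟨x, hx⟩, ⟨_, rfl⟩⟩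
    have h2 := congrArg (Subtype.val) h1
    rw [hsmul] at h2
    change x * c * x⁻¹ = c at h2
    calc x * c = x * c * x⁻¹ * x := by group
      _ = c * x := by rw [h2]
  intro hbot
  have h1 := key a ha
  have h2 := key b hb
  rw [hbot, Subgroup.mem_bot] at h1 h2
  apply hab
  apply Subtype.ext
  apply Subtype.ext
  rw [h1, h2]

/-- (Q5) -/
theorem line_or_abelian {p : ℕ} [Fact p.Prime] (hp2 : p ≠ 2) {A Γ : Subgroup G}
    (hA : IsElementaryAbelian p A) (hcard : Nat.card A = p ^ 2)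
    (hΓ : Γ ≤ normalizer (A : Set G)) (hodd : Odd (Nat.card Γ)) (hsolv : Group.IsSolvable Γ) :
    (∃ A₁ : Subgroup G, A₁ ≤ A ∧ Nat.card A₁ = p ∧ Γ ≤ normalizer (A₁ : Set G)) ∨
      ⁅Γ, Γ⁆ ≤ centralizer (A : Set G) := by
  classical
  have hp : p.Prime := Fact.out
  have hAp : IsPGroup p A := IsPGroup.of_card hcard
  have hpow := rank2_commutator p hp2 A Γ hAp
    (fun F hF _ _ => by
      rw [← hcard]
      exact Nat.le_of_dvd Nat.card_pos (Subgroup.card_dvd_of_le hF)) hΓ hodd hsolv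
  have hΓ' : ⁅Γ, Γ⁆ ≤ Γ := commutator_self_le Γ
  have hne : A ≠ ⊥ := by
    rintro rfl
    rw [Subgroup.card_bot] at hcard
    have := hp.one_lt
    nlinarith [hp.one_lt]
  have hD := exists_fixed_of_pow hAp hne (hΓ'.trans hΓ) hpow
  set D : Subgroup G := A ⊓ centralizer ((⁅Γ, Γ⁆ : Subgroup G) : Set G) with hDdef
  have hDA : D ≤ A := inf_le_left
  have hnorm : Γ ≤ normalizer (D : Set G) := by
    intro g hg
    have aux : ∀ g ∈ Γ, ∀ d ∈ D, g * d * g⁻¹ ∈ D := by
      intro g hg d hd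
      have hd := Subgroup.mem_inf.mp hd
      refine Subgroup.mem_inf.mpr ⟨(Subgroup.mem_normalizer_iff.mp (hΓ hg) d).mp hd.1, ?_⟩
      rw [Subgroup.mem_centralizer_iff]
      intro x hx
      have hx' : g⁻¹ * x * g ∈ ⁅Γ, Γ⁆ := by
        have hn : (⁅Γ, Γ⁆ : Subgroup G) ≤ ⁅Γ, Γ⁆ := le_rfl
        have h1 : ⁅g⁻¹, x⁆ ∈ ⁅Γ, Γ⁆ :=
          Subgroup.commutator_mem_commutator (Γ.inv_mem hg) (hΓ' hx)
        have h2 : g⁻¹ * x * g = ⁅g⁻¹, x⁆ * x := by
          rw [commutatorElement_def]; group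
        rw [h2]
        exact Subgroup.mul_mem _ h1 hx
      have h3 := Subgroup.mem_centralizer_iff.mp hd.2 _ hx'
      calc x * (g * d * g⁻¹) = g * ((g⁻¹ * x * g) * d) * g⁻¹ := by group
        _ = g * (d * (g⁻¹ * x * g)) * g⁻¹ := by rw [h3]
        _ = g * d * g⁻¹ * x := by group
    rw [Subgroup.mem_normalizer_iff]
    intro d
    refine ⟨aux g hg d, fun h => ?_⟩
    have := aux g⁻¹ (Γ.inv_mem hg) _ h
    simpa [mul_assoc] using this
  have hdvd : Nat.card D ∣ p ^ 2 := hcard ▸ Subgroup.card_dvd_of_le hDA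
  obtain ⟨k, hk, hkD⟩ := (Nat.dvd_prime_pow hp).mp hdvd
  interval_cases k
  · exact absurd (Subgroup.card_eq_one.mp (by simpa using hkD)) hD
  · left
    exact ⟨D, hDA, by simpa using hkD, hnorm⟩
  · right
    have hEq : D = A := Subgroup.eq_of_le_of_card_ge hDA (by rw [hkD, hcard])
    have hAC : A ≤ centralizer ((⁅Γ, Γ⁆ : Subgroup G) : Set G) := hEq ▸ inf_le_right
    exact Subgroup.le_centralizer_iff.mp hAC

end Cfsg.Agent.Lib.Helper1.BG1211
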