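import Mathlib

set_option autoImplicit false

/-! Finite groups in which commuting is transitive on non-identity elements (CT-groups):
local structure around the centraliser of an involution. -/

namespace Cfsg.Agent.Lib.Helper1.CT

variable {G : Type*} [Group G]

/-- commuting is a transitive relation on non-identity elements -/
def CTP (G : Type*) [Group G] : Prop :=
  ∀ a b c : G, a ≠ 1 → b ≠ 1 → c ≠ 1 → Commute a b → Commute b c → Commute a c

/-- centraliser of an element -/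
abbrev Cn (x : G) : Subgroup G := Subgroup.centralizer {x}

theorem mem_Cn {x y : G} : y ∈ Cn x ↔ Commute y x := by
  rw [Subgroup.mem_centralizer_singleton_iff]
  exact Iff.rfl

theorem self_mem_Cn (x : G) : x ∈ Cn x := mem_Cn.2 (Commute.refl x)

theorem Cn_comm (h : CTP G) {x a b : G} (hx : x ≠ 1) (ha : a ∈ Cn x) (hb : b ∈ Cn x) :
    Commute a b := by
  by_cases ha1 : a = 1
  · subst ha1; exact Commute.one_left b
  by_cases hb1 : b = 1
  · subst hb1; exact Commute.one_right a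
  exact h a x b ha1 hx hb1 (mem_Cn.1 ha) (mem_Cn.1 hb).symm

theorem Cn_eq (h : CTP G) {x y : G} (hx : x ≠ 1) (hy : y ≠ 1) (hyx : y ∈ Cn x) : Cn y = Cn x := by
  ext z
  rw [mem_Cn, mem_Cn]
  by_cases hz : z = 1
  · subst hz; exact ⟨fun _ => Commute.one_left _, fun _ => Commute.one_left _⟩
  constructor
  · intro hzy
    exact h z y x hz hy hx hzy (mem_Cn.1 hyx)
  · intro hzx
    exact h z x y hz hx hy hzx (mem_Cn.1 hyx).symm

/-- dihedral lemma: two involutions that do not commute are conjugate under an involution. -/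
theorem exists_invol_conj [Finite G] (h : CTP G) {t u : G} (ht1 : t ≠ 1) (ht : t * t = 1)
    (hu1 : u ≠ 1) (hu : u * u = 1) (hnc : ¬ Commute u t) :
    ∃ v : G, v * v = 1 ∧ v * t * v⁻¹ = u := by
  set x := t * u with hx
  have htinv : t⁻¹ = t := inv_eq_of_mul_eq_one_left ht
  have huinv : u⁻¹ = u := inv_eq_of_mul_eq_one_left hu
  have hxinv : x⁻¹ = u * t := by rw [hx, mul_inv_rev, htinv, huinv]
  have htx : t * x * t = x⁻¹ := by
    rw [hxinv, hx, ← mul_assoc, ht, one_mul]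
  have htx' : t * x * t⁻¹ = x⁻¹ := by rw [htinv, htx]
  have hux' : u * x * u⁻¹ = x⁻¹ := by
    rw [hxinv, hx, huinv, mul_assoc, mul_assoc, hu, mul_one]
  have htxk : ∀ k : ℕ, t * x ^ k * t⁻¹ = (x ^ k)⁻¹ := by
    intro k
    rw [← conj_pow, htx', inv_pow]
  have huxk : ∀ k : ℕ, u * x ^ k * u⁻¹ = (x ^ k)⁻¹ := by
    intro k
    rw [← conj_pow, hux', inv_pow]
  have hpos : 0 < orderOf x := orderOf_pos x
  rcases Nat.even_or_odd' (orderOf x) with ⟨j, hj | hj⟩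
  · exfalso
    have hj0 : 0 < j := by omega
    have hz1 : x ^ j ≠ 1 := by
      intro h1
      have := orderOf_le_of_pow_eq_one hj0 h1
      omega
    have hz2 : x ^ j * x ^ j = 1 := by
      rw [← pow_add, ← two_mul, ← hj, pow_orderOf_eq_one]
    have hzinv : (x ^ j)⁻¹ = x ^ j := inv_eq_of_mul_eq_one_left hz2
    have c1 : Commute t (x ^ j) := by
      have := htxk j
      rw [hzinv] at this
      exact mul_inv_eq_iff_eq_mul.1 this
    have c2 : Commute u (x ^ j) := by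
      have := huxk j
      rw [hzinv] at this
      exact mul_inv_eq_iff_eq_mul.1 this
    exact hnc (h u (x ^ j) t hu1 hz1 ht1 c2 c1.symm)
  · refine ⟨x ^ j * t, ?_, ?_⟩
    · have := htxk j
      rw [htinv] at this
      calc x ^ j * t * (x ^ j * t) = x ^ j * (t * x ^ j * t) := by group
        _ = 1 := by rw [this, mul_inv_cancel]
    · have h1 : t * (x ^ j)⁻¹ = x ^ j * t := by
        have := htxk j
        have h2 : t * x ^ j = (x ^ j)⁻¹ * t := mul_inv_eq_iff_eq_mul.1 this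
        calc t * (x ^ j)⁻¹ = x ^ j * ((x ^ j)⁻¹ * t) * (x ^ j)⁻¹ := by group
          _ = x ^ j * (t * x ^ j) * (x ^ j)⁻¹ := by rw [h2]
          _ = x ^ j * t := by group
      have h3 : x ^ j * x ^ j = x⁻¹ := by
        have : x ^ j * x ^ j * x = 1 := by
          rw [← pow_add, ← pow_succ, ← two_mul, ← hj, pow_orderOf_eq_one]
        exact eq_inv_of_mul_eq_one_left this
      calc x ^ j * t * t * (x ^ j * t)⁻¹ = x ^ j * (t * t) * (t⁻¹ * (x ^ j)⁻¹) := by group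
        _ = x ^ j * (t * (x ^ j)⁻¹) := by rw [ht, htinv, mul_one]
        _ = x ^ j * x ^ j * t := by rw [h1, mul_assoc]
        _ = u := by rw [h3, hxinv, mul_assoc, ht, mul_one]

/-- context: a CT-group with an involution `t` -/
structure Ctx (t : G) : Prop where
  ct : CTP G
  t1 : t ≠ 1
  tt : t * t = 1

/-- the normaliser of the centraliser of `t` -/
abbrev NN (t : G) : Subgroup G := Subgroup.normalizer (Cn t : Set G)

namespace Ctx

variable {t : G}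

theorem tinv (C : Ctx t) : t⁻¹ = t := inv_eq_of_mul_eq_one_left C.tt

theorem A_le_N : Cn t ≤ NN t := Subgroup.le_normalizer

theorem comm (C : Ctx t) {a b : G} (ha : a ∈ Cn t) (hb : b ∈ Cn t) : Commute a b :=
  Cn_comm C.ct C.t1 ha hb

theorem Cn_eq (C : Ctx t) {a : G} (ha : a ∈ Cn t) (ha1 : a ≠ 1) : Cn a = Cn t :=
  CT.Cn_eq C.ct C.t1 ha1 ha

theorem conj_mem (_C : Ctx t) {n a : G} (hn : n ∈ NN t) (ha : a ∈ Cn t) : n * a * n⁻¹ ∈ Cn t :=
  (Subgroup.mem_normalizer_iff.1 hn a).1 ha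

theorem mem_N_of (C : Ctx t) {a g : G} (ha : a ∈ Cn t) (ha1 : a ≠ 1) (hg : g * a * g⁻¹ ∈ Cn t) :
    g ∈ NN t := by
  have hg1 : g * a * g⁻¹ ≠ 1 := by
    intro h
    apply ha1
    have : g * a = g := by simpa using mul_inv_eq_one.1 h
    simpa using this
  rw [Subgroup.mem_normalizer_iff]
  intro h
  constructor
  · intro hh
    rw [← C.Cn_eq hg hg1, mem_Cn]
    have : Commute h a := C.comm hh ha
    show g * h * g⁻¹ * (g * a * g⁻¹) = g * a * g⁻¹ * (g * h * g⁻¹)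
    calc g * h * g⁻¹ * (g * a * g⁻¹) = g * (h * a) * g⁻¹ := by group
      _ = g * (a * h) * g⁻¹ := by rw [this.eq]
      _ = _ := by group
  · intro hh
    rw [← C.Cn_eq ha ha1, mem_Cn]
    have : Commute (g * h * g⁻¹) (g * a * g⁻¹) := C.comm hh hg
    show h * a = a * h
    have e : g * (h * a) * g⁻¹ = g * (a * h) * g⁻¹ := by
      calc g * (h * a) * g⁻¹ = g * h * g⁻¹ * (g * a * g⁻¹) := by group
        _ = g * a * g⁻¹ * (g * h * g⁻¹) := this.eq
        _ = _ := by group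
    exact mul_left_cancel (mul_right_cancel e)

/-- involutions of `N` lie in `A` -/
theorem invol_mem_A (C : Ctx t) {v : G} (hv : v * v = 1) (hvN : v ∈ NN t) : v ∈ Cn t := by
  have hvinv : v⁻¹ = v := inv_eq_of_mul_eq_one_left hv
  set t' := v * t * v⁻¹ with ht'
  have ht'A : t' ∈ Cn t := C.conj_mem hvN (self_mem_Cn t)
  by_cases h : t' = t
  · rw [mem_Cn]
    exact mul_inv_eq_iff_eq_mul.1 h
  · have hc : Commute t t' := C.comm (self_mem_Cn t) ht'A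
    have hprod : t * t' ∈ Cn t := mul_mem (self_mem_Cn t) ht'A
    have hne : t * t' ≠ 1 := by
      intro h1
      apply h
      have : t' = t⁻¹ := eq_inv_of_mul_eq_one_right h1
      rw [this, C.tinv]
    rw [← C.Cn_eq hprod hne, mem_Cn]
    have h2 : v * t' * v⁻¹ = t := by
      rw [ht', hvinv]
      calc v * (v * t * v) * v = (v * v) * t * (v * v) := by group
        _ = t := by rw [hv, one_mul, mul_one]
    show v * (t * t') = t * t' * v
    calc v * (t * t') = (v * t * v⁻¹) * (v * t' * v⁻¹) * v := by group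
      _ = t' * t * v := by rw [h2]
      _ = t * t' * v := by rw [hc.eq]

/-- for `g ∉ N` there is an involution in the coset `g A` -/
theorem exists_invol_coset [Finite G] (C : Ctx t) {g : G} (hg : g ∉ NN t) :
    ∃ v : G, v * v = 1 ∧ v ∉ NN t ∧ g⁻¹ * v ∈ Cn t ∧ v * t * v⁻¹ = g * t * g⁻¹ := by
  have h1 : g * t * g⁻¹ ∉ Cn t := fun h => hg (C.mem_N_of (self_mem_Cn t) C.t1 h)
  have hu1 : g * t * g⁻¹ ≠ 1 := fun h => h1 (h ▸ one_mem _)
  have hu : g * t * g⁻¹ * (g * t * g⁻¹) = 1 := by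
    calc g * t * g⁻¹ * (g * t * g⁻¹) = g * (t * t) * g⁻¹ := by group
      _ = 1 := by rw [C.tt]; group
  obtain ⟨v, hv, hvt⟩ := exists_invol_conj C.ct C.t1 C.tt hu1 hu (fun h => h1 (mem_Cn.2 h))
  refine ⟨v, hv, ?_, ?_, hvt⟩
  · intro hvN
    exact h1 (hvt ▸ C.conj_mem hvN (self_mem_Cn t))
  · rw [mem_Cn]
    show g⁻¹ * v * t = t * (g⁻¹ * v)
    have : v * t = g * t * g⁻¹ * v := mul_inv_eq_iff_eq_mul.1 hvt
    calc g⁻¹ * v * t = g⁻¹ * (v * t) := by group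
      _ = g⁻¹ * (g * t * g⁻¹ * v) := by rw [this]
      _ = _ := by group

end Ctx

/-- context: additionally an involution `u` outside `N` -/
structure Ctx2 (t u : G) : Prop extends Ctx t where
  uu : u * u = 1
  uN : u ∉ NN t

/-- the two point stabiliser `N ∩ N^u` -/
def DD (t u : G) : Subgroup G := NN t ⊓ (NN t).comap (MulAut.conj u).toMonoidHom

theorem mem_DD {t u d : G} : d ∈ DD t u ↔ d ∈ NN t ∧ u * d * u⁻¹ ∈ NN t := by
  rw [DD, Subgroup.mem_inf, Subgroup.mem_comap]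
  rfl

namespace Ctx2

variable {t u : G}

theorem uinv (C : Ctx2 t u) : u⁻¹ = u := inv_eq_of_mul_eq_one_left C.uu

theorem ti (C : Ctx2 t u) {x : G} (hx : x ∈ Cn t) (hx' : u * x * u⁻¹ ∈ Cn t) : x = 1 := by
  by_contra h
  exact C.uN (C.toCtx.mem_N_of hx h hx')

theorem D_inf_A (C : Ctx2 t u) {k : G} (hk : k ∈ DD t u) (hkA : k ∈ Cn t) : k = 1 := by
  by_contra hk1
  obtain ⟨hkN, hk'N⟩ := mem_DD.1 hk
  set k' := u * k * u⁻¹ with hk'
  have huk' : u * k' * u⁻¹ = k := by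
    rw [hk', C.uinv]
    calc u * (u * k * u) * u = (u * u) * k * (u * u) := by group
      _ = k := by rw [C.uu, one_mul, mul_one]
  -- the commutator lies in A and in A^u
  have hc1 : k * k' * k⁻¹ * k'⁻¹ ∈ Cn t := by
    have : k' * k⁻¹ * k'⁻¹ ∈ Cn t := C.toCtx.conj_mem hk'N (inv_mem hkA)
    have h2 := mul_mem hkA this
    have e : k * (k' * k⁻¹ * k'⁻¹) = k * k' * k⁻¹ * k'⁻¹ := by group
    rwa [e] at h2
  have hc2 : u * (k * k' * k⁻¹ * k'⁻¹) * u⁻¹ ∈ Cn t := by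
    have e : u * (k * k' * k⁻¹ * k'⁻¹) * u⁻¹
        = (u * k * u⁻¹) * (u * k' * u⁻¹) * (u * k * u⁻¹)⁻¹ * (u * k' * u⁻¹)⁻¹ := by group
    rw [e, huk', ← hk']
    have : k' * k * k'⁻¹ ∈ Cn t := C.toCtx.conj_mem hk'N hkA
    exact mul_mem this (inv_mem hkA)
  have hc : k * k' * k⁻¹ * k'⁻¹ = 1 := C.ti hc1 hc2
  have hcomm : Commute k' k := by
    show k' * k = k * k'
    have : k * k' * k⁻¹ = k' := by simpa using mul_inv_eq_one.1 hc
    exact (mul_inv_eq_iff_eq_mul.1 this).symm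
  have hk'A : k' ∈ Cn t := by
    rw [← C.toCtx.Cn_eq hkA hk1, mem_Cn]
    exact hcomm
  exact hk1 (C.ti hkA hk'A)

theorem exists_D [Finite G] (C : Ctx2 t u) {a : G} (ha : a ∈ Cn t) (ha1 : a ≠ 1)
    (haa : a * a = 1) : ∃ d ∈ DD t u, d * t * d⁻¹ = a ∧ u * d * u⁻¹ = d⁻¹ := by
  have h1 : u * a * u⁻¹ ∉ Cn t := fun h => ha1 (C.ti ha h)
  have hu1 : u * a * u⁻¹ ≠ 1 := fun h => h1 (h ▸ one_mem _)
  have hu : u * a * u⁻¹ * (u * a * u⁻¹) = 1 := by
    calc u * a * u⁻¹ * (u * a * u⁻¹) = u * (a * a) * u⁻¹ := by group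
      _ = 1 := by rw [haa]; group
  obtain ⟨v, hv, hvt⟩ := exists_invol_conj C.ct C.t1 C.tt hu1 hu (fun h => h1 (mem_Cn.2 h))
  have hvinv : v⁻¹ = v := inv_eq_of_mul_eq_one_left hv
  have e1 : (u * v) * t * (u * v)⁻¹ = a := by
    calc (u * v) * t * (u * v)⁻¹ = u * (v * t * v⁻¹) * u⁻¹ := by group
      _ = u * (u * a * u⁻¹) * u⁻¹ := by rw [hvt]
      _ = (u * u) * a * (u * u)⁻¹ := by group
      _ = a := by rw [C.uu]; group
  have e2 : u * (u * v) * u⁻¹ = (u * v)⁻¹ := by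
    rw [mul_inv_rev, hvinv, C.uinv, ← mul_assoc, C.uu, one_mul]
  have hN : u * v ∈ NN t := C.toCtx.mem_N_of (self_mem_Cn t) C.t1 (e1 ▸ ha)
  refine ⟨u * v, mem_DD.2 ⟨hN, ?_⟩, e1, e2⟩
  rw [e2]
  exact inv_mem hN

theorem D_inj (C : Ctx2 t u) {d d' : G} (hd : d ∈ DD t u) (hd' : d' ∈ DD t u)
    (h : d * t * d⁻¹ = d' * t * d'⁻¹) : d = d' := by
  have h1 : d'⁻¹ * d ∈ DD t u := mul_mem (inv_mem hd') hd
  have h2 : d'⁻¹ * d ∈ Cn t := by
    rw [mem_Cn]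
    show d'⁻¹ * d * t = t * (d'⁻¹ * d)
    have : d * t = d' * t * d'⁻¹ * d := mul_inv_eq_iff_eq_mul.1 h
    calc d'⁻¹ * d * t = d'⁻¹ * (d * t) := by group
      _ = d'⁻¹ * (d' * t * d'⁻¹ * d) := by rw [this]
      _ = _ := by group
  have := C.D_inf_A h1 h2
  exact (inv_mul_eq_one.1 this).symm

theorem conj_t (C : Ctx2 t u) {n : G} (hn : n ∈ NN t) :
    n * t * n⁻¹ ∈ Cn t ∧ n * t * n⁻¹ ≠ 1 ∧ (n * t * n⁻¹) * (n * t * n⁻¹) = 1 := by
  refine ⟨C.toCtx.conj_mem hn (self_mem_Cn t), ?_, ?_⟩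
  · intro h
    apply C.t1
    have : n * t = n := by simpa using mul_inv_eq_one.1 h
    simpa using this
  · calc n * t * n⁻¹ * (n * t * n⁻¹) = n * (t * t) * n⁻¹ := by group
      _ = 1 := by rw [C.tt]; group

theorem D_inv [Finite G] (C : Ctx2 t u) {d : G} (hd : d ∈ DD t u) : u * d * u⁻¹ = d⁻¹ := by
  obtain ⟨h1, h2, h3⟩ := C.conj_t (mem_DD.1 hd).1
  obtain ⟨d', hd', e1, e2⟩ := C.exists_D h1 h2 h3
  have := C.D_inj hd' hd e1
  rw [← this]
  exact e2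

theorem D_comm [Finite G] (C : Ctx2 t u) {d d' : G} (hd : d ∈ DD t u) (hd' : d' ∈ DD t u) :
    d * d' = d' * d := by
  have h1 := C.D_inv (mul_mem hd hd')
  have h2 := C.D_inv hd
  have h3 := C.D_inv hd'
  have e : u * (d * d') * u⁻¹ = (u * d * u⁻¹) * (u * d' * u⁻¹) := by group
  rw [e, h2, h3, mul_inv_rev] at h1
  have := congrArg Inv.inv h1
  simpa using this.symm

theorem N_eq [Finite G] (C : Ctx2 t u) {n : G} (hn : n ∈ NN t) :
    ∃ d ∈ DD t u, d⁻¹ * n ∈ Cn t := by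
  obtain ⟨h1, h2, h3⟩ := C.conj_t hn
  obtain ⟨d, hd, e1, -⟩ := C.exists_D h1 h2 h3
  refine ⟨d, hd, ?_⟩
  rw [mem_Cn]
  show d⁻¹ * n * t = t * (d⁻¹ * n)
  have : d * t = n * t * n⁻¹ * d := mul_inv_eq_iff_eq_mul.1 e1
  have h4 : t = d⁻¹ * (n * t * n⁻¹) * d := by
    calc t = d⁻¹ * (d * t) := by group
      _ = d⁻¹ * (n * t * n⁻¹ * d) := by rw [this]
      _ = _ := by group
  calc d⁻¹ * n * t = (d⁻¹ * (n * t * n⁻¹) * d) * (d⁻¹ * n) := by group
    _ = t * (d⁻¹ * n) := by rw [← h4]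

theorem D_sq (C : Ctx2 t u) {d : G} (hd : d ∈ DD t u) (h : d * d = 1) : d = 1 :=
  C.D_inf_A hd (C.toCtx.invol_mem_A h (mem_DD.1 hd).1)

theorem Cn_le_N [Finite G] (C : Ctx2 t u) {d : G} (hd : d ∈ DD t u) (hd1 : d ≠ 1) :
    Cn d ≤ NN t := by
  intro y hy
  by_contra hyN
  obtain ⟨v, hv, hvN, hn, -⟩ := C.toCtx.exists_invol_coset hyN
  have C3 : Ctx2 t v := { C.toCtx with uu := hv, uN := hvN }
  set n := y⁻¹ * v with hndef
  have hvy : v = y * n := by rw [hndef]; group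
  have hvinv : v⁻¹ = v := inv_eq_of_mul_eq_one_left hv
  have hyd : y * d = d * y := mem_Cn.1 hy
  have hydi : y⁻¹ * d * y = d := by
    calc y⁻¹ * d * y = y⁻¹ * (d * y) := by group
      _ = y⁻¹ * (y * d) := by rw [hyd]
      _ = d := by group
  have e : v * d * v⁻¹ = n⁻¹ * d * n := by
    calc v * d * v⁻¹ = v⁻¹ * d * v := by rw [hvinv]
      _ = n⁻¹ * (y⁻¹ * d * y) * n := by rw [hvy]; group
      _ = n⁻¹ * d * n := by rw [hydi]
  have hdN := (mem_DD.1 hd).1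
  have hnN : n ∈ NN t := Ctx.A_le_N hn
  have hd3 : d ∈ DD t v := by
    refine mem_DD.2 ⟨hdN, ?_⟩
    rw [e]
    exact mul_mem (mul_mem (inv_mem hnN) hdN) hnN
  have h1 := C3.D_inv hd3
  rw [e] at h1
  -- d⁻² ∈ A
  have h2 : n⁻¹ * (d * n * d⁻¹) ∈ Cn t := mul_mem (inv_mem hn) (C.toCtx.conj_mem hdN hn)
  have e2 : n⁻¹ * (d * n * d⁻¹) = d⁻¹ * d⁻¹ := by
    calc n⁻¹ * (d * n * d⁻¹) = (n⁻¹ * d * n) * d⁻¹ := by group
      _ = d⁻¹ * d⁻¹ := by rw [h1]
  rw [e2] at h2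
  have h3 : d⁻¹ * d⁻¹ = 1 := C.D_inf_A (mul_mem (inv_mem hd) (inv_mem hd)) h2
  have h4 : d⁻¹ = 1 := C.D_sq (inv_mem hd) h3
  exact hd1 (inv_eq_one.1 h4)

/-- `A` is transitive on the cosets of `N` other than `N` -/
theorem A_trans [Finite G] (C : Ctx2 t u) {d : G} (hd : d ∈ DD t u) (hd1 : d ≠ 1) {u₁ : G}
    (C1 : Ctx2 t u₁) : ∃ a ∈ Cn t, (a * u)⁻¹ * u₁ ∈ NN t := by
  have hdN := (mem_DD.1 hd).1
  obtain ⟨h1, h2, h3⟩ := C.conj_t hdN
  obtain ⟨d₁, hd₁, e1, e2⟩ := C1.exists_D h1 h2 h3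
  -- d₁ = d b with b ∈ A
  have hb : d⁻¹ * d₁ ∈ Cn t := by
    rw [mem_Cn]
    show d⁻¹ * d₁ * t = t * (d⁻¹ * d₁)
    have : d₁ * t = d * t * d⁻¹ * d₁ := mul_inv_eq_iff_eq_mul.1 e1
    calc d⁻¹ * d₁ * t = d⁻¹ * (d₁ * t) := by group
      _ = d⁻¹ * (d * t * d⁻¹ * d₁) := by rw [this]
      _ = _ := by group
  -- the map a ↦ d⁻¹ a d a⁻¹ on A is injective hence surjective
  let φ : Cn t → Cn t := fun a => ⟨d⁻¹ * a * d * (a : G)⁻¹, by
    have : d⁻¹ * (a : G) * (d⁻¹)⁻¹ ∈ Cn t := C.toCtx.conj_mem (inv_mem hdN) a.2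
    rw [inv_inv] at this
    exact mul_mem this (inv_mem a.2)⟩
  have hφ : Function.Injective φ := by
    intro a a' haa
    have h := congrArg Subtype.val haa
    change d⁻¹ * (a : G) * d * (a : G)⁻¹ = d⁻¹ * (a' : G) * d * (a' : G)⁻¹ at h
    have hc : ((a' : G)⁻¹ * a) * d = d * ((a' : G)⁻¹ * a) := by
      have h5 : (a : G) * d * (a : G)⁻¹ = (a' : G) * d * (a' : G)⁻¹ := by
        have := congrArg (fun z => d * z) h
        simpa [mul_assoc] using this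
      have h6 : (a : G) * d = (a' : G) * d * (a' : G)⁻¹ * a := mul_inv_eq_iff_eq_mul.1 h5
      calc ((a' : G)⁻¹ * a) * d = (a' : G)⁻¹ * ((a : G) * d) := by group
        _ = (a' : G)⁻¹ * ((a' : G) * d * (a' : G)⁻¹ * a) := by rw [h6]
        _ = _ := by group
    by_contra hne
    have hx : (a' : G)⁻¹ * a ∈ Cn t := mul_mem (inv_mem a'.2) a.2
    have hx1 : (a' : G)⁻¹ * a ≠ 1 := by
      intro h7
      exact hne (Subtype.ext (inv_mul_eq_one.1 h7).symm)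
    have : d ∈ Cn t := by
      rw [← C.toCtx.Cn_eq hx hx1, mem_Cn]
      exact hc.symm
    exact hd1 (C.D_inf_A hd this)
  obtain ⟨a, ha⟩ := Finite.surjective_of_injective hφ ⟨d⁻¹ * d₁, hb⟩
  have ha' : d⁻¹ * (a : G) * d * (a : G)⁻¹ = d⁻¹ * d₁ := congrArg Subtype.val ha
  have hd₁a : d₁ = (a : G) * d * (a : G)⁻¹ := by
    have := congrArg (fun z => d * z) ha'
    simpa [mul_assoc] using this.symm
  have hd₁1 : d₁ ≠ 1 := by
    intro h
    rw [h] at hd₁a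
    apply hd1
    have : (a : G) * d = a := by simpa using (mul_inv_eq_one.1 hd₁a.symm)
    simpa using this
  refine ⟨a, a.2, ?_⟩
  -- w = (a u a⁻¹)⁻¹ u₁ commutes with d₁
  have hud := C.D_inv hd
  have hw : ((a : G) * u * (a : G)⁻¹)⁻¹ * u₁ ∈ Cn d₁ := by
    rw [mem_Cn]
    have f1 : u₁ * d₁ = d₁⁻¹ * u₁ := mul_inv_eq_iff_eq_mul.1 e2
    have f2 : ((a : G) * u * (a : G)⁻¹) * d₁ * ((a : G) * u * (a : G)⁻¹)⁻¹ = d₁⁻¹ := by
      rw [hd₁a]
      calc ((a : G) * u * (a : G)⁻¹) * ((a : G) * d * (a : G)⁻¹) * ((a : G) * u * (a : G)⁻¹)⁻¹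
          = (a : G) * (u * d * u⁻¹) * (a : G)⁻¹ := by group
        _ = (a : G) * d⁻¹ * (a : G)⁻¹ := by rw [hud]
        _ = _ := by group
    have f3 : ((a : G) * u * (a : G)⁻¹)⁻¹ * d₁⁻¹ = d₁ * ((a : G) * u * (a : G)⁻¹)⁻¹ := by
      rw [← f2]; group
    show ((a : G) * u * (a : G)⁻¹)⁻¹ * u₁ * d₁ = d₁ * (((a : G) * u * (a : G)⁻¹)⁻¹ * u₁)
    rw [mul_assoc, f1, ← mul_assoc, f3, mul_assoc]
  have hwN := C1.Cn_le_N hd₁ hd₁1 hw
  have e : ((a : G) * u)⁻¹ * u₁ = (a : G)⁻¹ * (((a : G) * u * (a : G)⁻¹)⁻¹ * u₁) := by group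
  rw [e]
  exact mul_mem (inv_mem (Ctx.A_le_N a.2)) hwN

end Ctx2

end Cfsg.Agent.Lib.Helper1.CT
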