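import Mathlib

set_option autoImplicit false
open Pointwise

namespace Cfsg.Agent.Lib.Helper1

variable {G : Type*} [Group G]

open MulOpposite in
theorem complement_eq_stabilizer [Finite G] (A : Subgroup G) [A.Normal] [IsMulCommutative A]
    (hA : (Nat.card A).Coprime A.index) (H : Subgroup G) (hH : Subgroup.IsComplement' A H) :
    ∃ α : A.QuotientDiff, MulAction.stabilizer G α = H := by
  let T : A.LeftTransversal := ⟨(H : Set G), hH.symm⟩
  let α : A.QuotientDiff := Quotient.mk'' T
  refine ⟨α, ?_⟩
  have hle : H ≤ MulAction.stabilizer G α := by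
    intro h hh
    rw [MulAction.mem_stabilizer_iff]
    have h1 : (op h⁻¹ • T : A.LeftTransversal) = T := by
      apply Subtype.ext
      change op h⁻¹ • (H : Set G) = (H : Set G)
      exact op_smul_coe_set (H.inv_mem hh)
    change (Quotient.mk'' (op h⁻¹ • T) : A.QuotientDiff) = Quotient.mk'' T
    rw [h1]
  have hc : Subgroup.IsComplement' A (MulAction.stabilizer G α) :=
    Subgroup.isComplement'_stabilizer_of_coprime hA
  symm
  apply Subgroup.eq_of_le_of_card_ge hle
  have h1 := hc.card_mul_card
  have h2 := hH.card_mul_card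
  rw [← h2] at h1
  exact (Nat.eq_of_mul_eq_mul_left Nat.card_pos h1).le

/-- Schur's theorem, conjugacy part for an abelian normal Hall subgroup. -/
theorem schur_conj_abelian [Finite G] (A : Subgroup G) [A.Normal] [IsMulCommutative A]
    (hA : (Nat.card A).Coprime A.index)
    (H K : Subgroup G) (hH : Subgroup.IsComplement' A H) (hK : Subgroup.IsComplement' A K) :
    ∃ a ∈ A, MulAut.conj a • H = K := by
  obtain ⟨α, hα⟩ := complement_eq_stabilizer A hA H hH
  obtain ⟨β, hβ⟩ := complement_eq_stabilizer A hA K hK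
  obtain ⟨a, ha⟩ := Subgroup.exists_smul_eq hA α β
  refine ⟨a, a.2, ?_⟩
  rw [← hα, ← hβ, ← ha]
  exact (MulAction.stabilizer_smul_eq_stabilizer_map_conj (a : G) α).symm

end Cfsg.Agent.Lib.Helper1
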