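import Mathlib
import Cfsg.Prelude.Def_Solvable
import Cfsg.Agent.Lib.Helper1.Tools
import Cfsg.Agent.Lib.Helper1.CoprimeSylow
import Cfsg.Agent.S0034
import Cfsg.Agent.S0039
import Cfsg.Agent.S0041
import Cfsg.Agent.S0016

set_option autoImplicit false
open Pointwise

namespace Cfsg.Agent.Lib.Helper1.FrobComplement

open Cfsg Cfsg.Agent.Lib.Helper1

universe u
variable {G : Type u} [Group G]

/-- In a finite cyclic group two subgroups of the same order coincide. -/
theorem eq_of_card_eq_of_isCyclic {E : Type*} [Group E] [Finite E] [IsCyclic E]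
    {A B : Subgroup E} (h : Nat.card A = Nat.card B) : A = B := by
  classical
  have : Fintype E := Fintype.ofFinite E
  set n := Nat.card A with hn
  have hn0 : 0 < n := Nat.card_pos
  have key : ∀ C : Subgroup E, Nat.card C = n →
      (C : Set E) = ((Finset.univ.filter fun a : E => a ^ n = 1 : Finset E) : Set E) := by
    intro C hC
    apply Set.eq_of_subset_of_ncard_le
    · intro x hx
      simp only [Finset.coe_filter, Finset.mem_univ, true_and, Set.mem_ofPred_eq]
      have := pow_card_eq_one' (x := (⟨x, hx⟩ : C))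
      rw [hC] at this
      exact congrArg Subtype.val this
    · rw [Set.ncard_coe_finset]
      have h1 := IsCyclic.card_pow_eq_one_le (α := E) hn0
      have h2 : (C : Set E).ncard = n := by rw [← hC]; rfl
      rw [h2]
      exact h1
    · exact Set.toFinite _
  apply SetLike.coe_injective
  rw [key A rfl, key B h.symm]

theorem coprime_of_fpf [Finite G] (K H : Subgroup G) [K.Normal]
    (hc : Subgroup.IsComplement' K H) (hK : K ≠ ⊥)
    (hfpf : ∀ h ∈ H, h ≠ 1 → K ⊓ Subgroup.centralizer {h} = ⊥) :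
    (Nat.card H).Coprime (Nat.card K) := by
  by_cases hH : H = ⊥
  · rw [hH]; simp
  have hF := (Cfsg.Agent.S0039.result K H hc hK hH).2 hfpf
  have h1 := (Cfsg.Agent.S0034.result H hF).2
  have h2 : Nat.gcd (Nat.card H) H.index = Nat.gcd (Nat.card H) 1 := by
    rw [Nat.gcd_rec (Nat.card H) H.index, h1, ← Nat.gcd_rec]
  rw [← hc.index_eq_card, Nat.Coprime, h2, Nat.gcd_one_right]

/-- Every abelian subgroup of a Frobenius complement is cyclic. -/
theorem isCyclic_of_abelian_le [Finite G] (K H : Subgroup G) [K.Normal]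
    (hc : Subgroup.IsComplement' K H) (hK : K ≠ ⊥)
    (hfpf : ∀ h ∈ H, h ≠ 1 → K ⊓ Subgroup.centralizer {h} = ⊥)
    (E : Subgroup G) (hEH : E ≤ H) [hE : IsMulCommutative E] : IsCyclic E := by
  have hcop : (Nat.card E).Coprime (Nat.card K) :=
    Nat.Coprime.coprime_dvd_left (Subgroup.card_dvd_of_le hEH) (coprime_of_fpf K H hc hK hfpf)
  have hcard : Nat.card K ≠ 1 := fun h => hK (Subgroup.card_eq_one.1 h)
  have hq : (Nat.card K).minFac.Prime := Nat.minFac_prime hcard
  have : Fact (Nat.card K).minFac.Prime := ⟨hq⟩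
  have hEsolv : Group.IsSolvable E := by
    open scoped IsMulCommutative in infer_instance
  obtain ⟨Q, hQK, hQq, hQi, hEQ⟩ := exists_invariant_sylow E K
    (by rw [Subgroup.normalizer_eq_top K]; exact le_top) hcop (Or.inl hEsolv) (Nat.card K).minFac
  have hQne : Q ≠ ⊥ := by
    intro h
    rw [h, Subgroup.relIndex_bot_left] at hQi
    exact hQi (Nat.minFac_dvd _)
  set V : Subgroup G := Q ⊓ Subgroup.centralizer (Q : Set G) with hV
  have hVne : V ≠ ⊥ := by
    have : Nontrivial Q := (Subgroup.nontrivial_iff_ne_bot Q).2 hQne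
    have hcn := hQq.center_nontrivial
    obtain ⟨⟨z, hz⟩, hz1⟩ := exists_ne (1 : Subgroup.center Q)
    intro hbot
    apply hz1
    have h1 : (z : G) ∈ V := by
      refine Subgroup.mem_inf.2 ⟨z.2, ?_⟩
      rw [Subgroup.mem_centralizer_iff]
      intro y hy
      exact congrArg Subtype.val ((Subgroup.mem_center_iff.1 hz) ⟨y, hy⟩)
    rw [hbot, Subgroup.mem_bot] at h1
    exact Subtype.ext (Subtype.ext h1)
  have hVab : IsMulCommutative V := by
    refine ⟨⟨fun a b => Subtype.ext ?_⟩⟩
    have ha := (Subgroup.mem_inf.1 a.2).2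
    have hb := (Subgroup.mem_inf.1 b.2).1
    exact ((Subgroup.mem_centralizer_iff.1 ha) b hb).symm
  have hEV : E ≤ Subgroup.normalizer (V : Set G) := by
    intro e he
    have h1 := mem_normalizer_iff_conj_smul.1 (hEQ he)
    rw [mem_normalizer_iff_conj_smul, hV, Subgroup.smul_inf, h1]
    congr 1
    ext x
    rw [mem_conj_smul_iff, Subgroup.mem_centralizer_iff, Subgroup.mem_centralizer_iff]
    constructor
    · intro h y hy
      have hy' : e⁻¹ * y * e ∈ Q := by rw [← mem_conj_smul_iff, h1]; exact hy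
      have := h _ hy'
      have h3 : e * (e⁻¹ * y * e * (e⁻¹ * x * e)) * e⁻¹ = e * (e⁻¹ * x * e * (e⁻¹ * y * e)) * e⁻¹ := by
        rw [this]
      simpa [mul_assoc] using h3
    · intro h y hy
      have hy' : e * y * e⁻¹ ∈ Q := by rw [← h1]; exact conj_mem_conj_smul e hy
      have := h _ hy'
      have h3 : e⁻¹ * (e * y * e⁻¹ * x) * e = e⁻¹ * (x * (e * y * e⁻¹)) * e := by rw [this]
      simpa [mul_assoc] using h3
  refine Cfsg.Agent.S0041.result E V hVne hEV ?_ (Or.inl hE)
  intro a ha ha1
  exact le_bot_iff.1 ((hfpf a (hEH ha) ha1) ▸ inf_le_inf_right _ (inf_le_left.trans hQK))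

end Cfsg.Agent.Lib.Helper1.FrobComplement
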