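import Mathlib
import Cfsg.Agent.Lib.Helper1.CTGroup
import Cfsg.Agent.Lib.Helper19.ZassCore
import Cfsg.Agent.S0885
import Cfsg.Agent.S0183

set_option autoImplicit false
set_option linter.style.haveILetI false
set_option linter.unusedSectionVars false

/-! A finite non-abelian simple CT-group is `PSL(2, 2^f)`. -/

namespace Cfsg.Agent.Lib.Helper1.CT

variable {G : Type*} [Group G] [Finite G]

theorem comm_of_Cn_top (h : CTP G) {t : G} (ht : t ≠ 1) (htop : Cn t = ⊤) : IsMulCommutative G :=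
  ⟨⟨fun a b => Cn_comm h ht (htop ▸ Subgroup.mem_top a) (htop ▸ Subgroup.mem_top b)⟩⟩

theorem exists_invol [IsSimpleGroup G] (hG : ¬ IsMulCommutative G) (h : CTP G) :
    ∃ t : G, t ≠ 1 ∧ t * t = 1 := by
  rcases Nat.even_or_odd (Nat.card G) with he | ho
  · haveI : Fact (Nat.Prime 2) := ⟨Nat.prime_two⟩
    obtain ⟨x, hx⟩ := exists_prime_orderOf_dvd_card' (G := G) 2 he.two_dvd
    refine ⟨x, ?_, ?_⟩
    · intro h1
      rw [h1, orderOf_one] at hx
      omega
    · have := pow_orderOf_eq_one x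
      rwa [hx, pow_two] at this
  · exfalso
    have hCN : Cfsg.IsCNGroup G := by
      intro g hg
      letI : CommGroup (Subgroup.centralizer ({g} : Set G)) :=
        { (inferInstance : Group (Subgroup.centralizer ({g} : Set G))) with
          mul_comm := fun a b => Subtype.ext (Cn_comm h hg a.2 b.2) }
      exact CommGroup.isNilpotent
    have hs := Cfsg.Agent.S0183.result ho hCN
    exact hG ⟨⟨IsSimpleGroup.comm_iff_isSolvable.2 hs⟩⟩

namespace Ctx

variable {t : G}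

theorem exists_not_mem_N [IsSimpleGroup G] (hG : ¬ IsMulCommutative G) (C : Ctx t) :
    ∃ g : G, g ∉ NN t := by
  by_contra hcon
  push Not at hcon
  have hn : (Cn t).Normal := by
    constructor
    intro a ha g
    exact C.conj_mem (hcon g) ha
  rcases IsSimpleGroup.eq_bot_or_eq_top_of_normal _ hn with hb | ht
  · have := self_mem_Cn t
    rw [hb, Subgroup.mem_bot] at this
    exact C.t1 this
  · exact hG (comm_of_Cn_top C.ct C.t1 ht)

/-- if `N = A` then Burnside's transfer theorem contradicts simplicity -/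
theorem false_of_N_le_A [IsSimpleGroup G] (hG : ¬ IsMulCommutative G) (C : Ctx t)
    (hNA : NN t ≤ Cn t) : False := by
  haveI : Fact (Nat.Prime 2) := ⟨Nat.prime_two⟩
  have hord : orderOf t = 2 := orderOf_eq_prime (by rw [pow_two, C.tt]) C.t1
  have hp : IsPGroup 2 (Subgroup.zpowers t) := by
    apply IsPGroup.of_card (n := 1)
    rw [Nat.card_zpowers, hord, pow_one]
  obtain ⟨P, hP⟩ := hp.exists_le_sylow
  have htP : t ∈ (P : Subgroup G) := hP (Subgroup.mem_zpowers t)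
  haveI : Nontrivial (P : Subgroup G) := ⟨⟨⟨t, htP⟩, 1, fun h => C.t1 (congrArg Subtype.val h)⟩⟩
  haveI : Nontrivial (Subgroup.center (P : Subgroup G)) := P.2.center_nontrivial
  obtain ⟨z, hz⟩ := exists_ne (1 : Subgroup.center (P : Subgroup G))
  have hz1 : ((z : (P : Subgroup G)) : G) ≠ 1 := by
    intro h
    apply hz
    exact Subtype.ext (Subtype.ext h)
  have hzc : ∀ p ∈ (P : Subgroup G), Commute p ((z : (P : Subgroup G)) : G) := by
    intro p hp
    have := Subgroup.mem_center_iff.1 z.2 ⟨p, hp⟩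
    exact congrArg Subtype.val this
  have hzA : ((z : (P : Subgroup G)) : G) ∈ Cn t := mem_Cn.2 (hzc t htP).symm
  have hPA : (P : Subgroup G) ≤ Cn t := by
    intro p hp
    rw [← C.Cn_eq hzA hz1]
    exact mem_Cn.2 (hzc p hp)
  have hN : Subgroup.normalizer ((P : Subgroup G) : Set G) ≤ Subgroup.centralizer (P : Subgroup G) := by
    intro g hg
    have h1 : g * t * g⁻¹ ∈ (P : Subgroup G) := (Subgroup.mem_normalizer_iff.1 hg t).1 htP
    have h2 : g ∈ Cn t := hNA (C.mem_N_of (self_mem_Cn t) C.t1 (hPA h1))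
    rw [Subgroup.mem_centralizer_iff]
    intro p hp
    exact C.comm (hPA hp) h2
  have hc := MonoidHom.ker_transferSylow_isComplement' P hN
  rcases IsSimpleGroup.eq_bot_or_eq_top_of_normal _
    (MonoidHom.normal_ker (MonoidHom.transferSylow P hN)) with hb | ht
  · rw [hb, Subgroup.isComplement'_bot_left] at hc
    apply hG
    apply comm_of_Cn_top C.ct C.t1
    rw [eq_top_iff, ← hc]
    exact hPA
  · rw [ht, Subgroup.isComplement'_top_left] at hc
    rw [hc, Subgroup.mem_bot] at htP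
    exact C.t1 htP

end Ctx

namespace Ctx2

variable {t u : G}

/-- the point `N` -/
abbrev oI (t : G) : G ⧸ NN t := ((1 : G) : G ⧸ NN t)
/-- the point `uN` -/
abbrev o0 (t u : G) : G ⧸ NN t := ((u : G) : G ⧸ NN t)

theorem smul_mk (g h : G) : g • ((h : G) : G ⧸ NN t) = ((g * h : G) : G ⧸ NN t) := rfl

theorem fix_oI {g : G} : g • oI t = oI t ↔ g ∈ NN t := by
  rw [oI, smul_mk, mul_one, QuotientGroup.eq, mul_one, inv_mem_iff]

theorem fix_o0 (C : Ctx2 t u) {g : G} : g • o0 t u = o0 t u ↔ u * g * u⁻¹ ∈ NN t := by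
  rw [o0, smul_mk, QuotientGroup.eq, ← inv_mem_iff]
  have : ((g * u)⁻¹ * u)⁻¹ = u * g * u⁻¹ := by
    rw [mul_inv_rev, inv_inv, C.uinv, mul_assoc]
  rw [this]

theorem o0_ne (C : Ctx2 t u) : o0 t u ≠ oI t := by
  intro h
  rw [o0, oI, QuotientGroup.eq, mul_one, inv_mem_iff] at h
  exact C.uN h

theorem mem_DD_iff (C : Ctx2 t u) {g : G} :
    g ∈ DD t u ↔ g • oI t = oI t ∧ g • o0 t u = o0 t u := by
  rw [mem_DD, fix_oI, C.fix_o0]

theorem T_free (C : Ctx2 t u) {a : G} (ha : a ∈ Cn t) (h : a • o0 t u = o0 t u) : a = 1 :=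
  C.D_inf_A (C.mem_DD_iff.2 ⟨fix_oI.2 (Ctx.A_le_N ha), h⟩) ha

theorem T_trans (C : Ctx2 t u) {d : G} (hd : d ∈ DD t u) (hd1 : d ≠ 1) (x : G ⧸ NN t)
    (hx : x ≠ oI t) : ∃ a ∈ Cn t, a • o0 t u = x := by
  induction x using QuotientGroup.induction_on with
  | H g =>
    have hg : g ∉ NN t := by
      intro h
      apply hx
      rw [oI, QuotientGroup.eq, mul_one, inv_mem_iff]
      exact h
    obtain ⟨v, hv, hvN, hn, -⟩ := C.toCtx.exists_invol_coset hg
    have C1 : Ctx2 t v := { C.toCtx with uu := hv, uN := hvN }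
    obtain ⟨a, ha, h⟩ := C.A_trans hd hd1 C1
    refine ⟨a, ha, ?_⟩
    rw [o0, smul_mk]
    have e1 : ((a * u : G) : G ⧸ NN t) = ((v : G) : G ⧸ NN t) := QuotientGroup.eq.2 h
    have e2 : ((g : G) : G ⧸ NN t) = ((v : G) : G ⧸ NN t) := QuotientGroup.eq.2 (Ctx.A_le_N hn)
    rw [e1, e2]

theorem two_trans' (C : Ctx2 t u) {d : G} (hd : d ∈ DD t u) (hd1 : d ≠ 1) {x y : G ⧸ NN t}
    (hxy : x ≠ y) : ∃ g : G, g • x = oI t ∧ g • y = o0 t u := by
  induction x using QuotientGroup.induction_on with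
  | H k =>
    have h1 : k⁻¹ • ((k : G) : G ⧸ NN t) = oI t := by rw [smul_mk, inv_mul_cancel]
    have h2 : k⁻¹ • y ≠ oI t := by
      intro h
      apply hxy
      rw [← h1] at h
      exact (smul_left_cancel _ h).symm
    obtain ⟨a, ha, h⟩ := C.T_trans hd hd1 _ h2
    refine ⟨a⁻¹ * k⁻¹, ?_, ?_⟩
    · rw [mul_smul, h1]
      exact fix_oI.2 (inv_mem (Ctx.A_le_N ha))
    · rw [mul_smul, ← h, inv_smul_smul]

theorem D_fix (C : Ctx2 t u) {g a : G} (hg : g ∈ DD t u) (ha : a ∈ Cn t) (ha1 : a ≠ 1)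
    (h : g • (a • o0 t u) = a • o0 t u) : g = 1 := by
  have hgN := (mem_DD.1 hg).1
  have h0 : g⁻¹ • o0 t u = o0 t u := by
    have := (C.mem_DD_iff.1 hg).2
    rw [inv_smul_eq_iff, this]
  have h1 : (a⁻¹ * (g * a * g⁻¹)) • o0 t u = o0 t u := by
    rw [mul_smul, mul_smul, mul_smul, h0, h, inv_smul_smul]
  have h2 : a⁻¹ * (g * a * g⁻¹) = 1 :=
    C.T_free (mul_mem (inv_mem ha) (C.toCtx.conj_mem hgN ha)) h1
  have h3 : g * a * g⁻¹ = a := (inv_mul_eq_one.1 h2).symm
  apply C.D_inf_A hg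
  rw [← C.toCtx.Cn_eq ha ha1, mem_Cn]
  exact mul_inv_eq_iff_eq_mul.1 h3

theorem faithful [IsSimpleGroup G] (C : Ctx2 t u) : FaithfulSMul G (G ⧸ NN t) := by
  constructor
  intro g₁ g₂ h
  have hk : g₂⁻¹ * g₁ ∈ (MulAction.toPermHom G (G ⧸ NN t)).ker := by
    rw [MonoidHom.mem_ker]
    ext x
    show (g₂⁻¹ * g₁) • x = x
    rw [mul_smul, h, inv_smul_smul]
  rcases IsSimpleGroup.eq_bot_or_eq_top_of_normal _
    (MonoidHom.normal_ker (MulAction.toPermHom G (G ⧸ NN t))) with hb | ht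
  · rw [hb, Subgroup.mem_bot] at hk
    exact (inv_mul_eq_one.1 hk).symm
  · exfalso
    have : u ∈ (MulAction.toPermHom G (G ⧸ NN t)).ker := ht ▸ Subgroup.mem_top u
    rw [MonoidHom.mem_ker] at this
    have h2 : u • oI t = oI t := by
      have := congrArg (fun σ : Equiv.Perm (G ⧸ NN t) => σ (oI t)) this
      exact this
    exact C.uN (fix_oI.1 h2)

theorem zassenhaus [IsSimpleGroup G] (C : Ctx2 t u) {d : G} (hd : d ∈ DD t u) (hd1 : d ≠ 1) :
    Cfsg.IsZassenhausGroup G (G ⧸ NN t) := by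
  refine ⟨C.faithful, ?_, ?_, ?_, ?_⟩
  · rw [MulAction.is_two_pretransitive_iff]
    intro a b c e hab hce
    obtain ⟨g, g1, g2⟩ := C.two_trans' hd hd1 hab
    obtain ⟨k, k1, k2⟩ := C.two_trans' hd hd1 hce
    refine ⟨k⁻¹ * g, ?_, ?_⟩
    · rw [mul_smul, g1, ← k1, inv_smul_smul]
    · rw [mul_smul, g2, ← k2, inv_smul_smul]
  · intro g a b c hab hbc hac ha hb hc
    obtain ⟨k, k1, k2⟩ := C.two_trans' hd hd1 hab
    have f : ∀ x : G ⧸ NN t, g • x = x → (k * g * k⁻¹) • (k • x) = k • x := by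
      intro x hx
      rw [mul_smul, mul_smul, inv_smul_smul, hx]
    have hD : k * g * k⁻¹ ∈ DD t u := by
      rw [C.mem_DD_iff, ← k1, ← k2]
      exact ⟨f a ha, f b hb⟩
    have hc1 : k • c ≠ oI t := by
      rw [← k1]
      intro h
      exact hac (smul_left_cancel _ h).symm
    obtain ⟨a', ha', e⟩ := C.T_trans hd hd1 _ hc1
    have ha'1 : a' ≠ 1 := by
      intro h
      rw [h, one_smul, ← k2] at e
      exact hbc (smul_left_cancel _ e)
    have := C.D_fix hD ha' ha'1 (by rw [e]; exact f c hc)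
    have h2 : k * g = k := by simpa using mul_inv_eq_one.1 this
    simpa using h2
  · exact ⟨d, hd1, oI t, o0 t u, C.o0_ne.symm, (C.mem_DD_iff.1 hd).1, (C.mem_DD_iff.1 hd).2⟩
  · intro K hK hKt
    rcases IsSimpleGroup.eq_bot_or_eq_top_of_normal K hK with hb | ht
    · exfalso
      obtain ⟨k, hk⟩ := hKt.exists_smul_eq (oI t) (o0 t u)
      have : (k : G) = 1 := by
        have h3 : (k : G) ∈ (⊥ : Subgroup G) := hb ▸ k.2
        exact Subgroup.mem_bot.1 h3
      have h2 : (k : G) • oI t = o0 t u := hk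
      rw [this, one_smul] at h2
      exact C.o0_ne h2.symm
    · refine ⟨oI t, ?_⟩
      intro h
      have h1 : (⟨t, ht ▸ Subgroup.mem_top t⟩ : K) ∈ MulAction.stabilizer K (oI t) := by
        rw [MulAction.mem_stabilizer_iff]
        exact fix_oI.2 (Ctx.A_le_N (self_mem_Cn t))
      have h2 : (⟨t, ht ▸ Subgroup.mem_top t⟩ : K) ∈ (⊥ : Subgroup K) := h ▸ h1
      exact C.t1 (congrArg Subtype.val (Subgroup.mem_bot.1 h2))

theorem card_points (C : Ctx2 t u) {d : G} (hd : d ∈ DD t u) (hd1 : d ≠ 1) :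
    Nat.card (G ⧸ NN t) = Nat.card (Cn t) + 1 := by
  let f : Option (Cn t) → G ⧸ NN t := fun o => o.elim (oI t) (fun a => (a : G) • o0 t u)
  have hne : ∀ a : Cn t, (a : G) • o0 t u ≠ oI t := by
    intro a h
    have h1 : (a : G) • oI t = oI t := fix_oI.2 (Ctx.A_le_N a.2)
    rw [← h1] at h
    exact C.o0_ne (smul_left_cancel _ h)
  have hf : Function.Bijective f := by
    constructor
    · intro x y hxy
      cases x with
      | none =>
        cases y with
        | none => rfl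
        | some b => exact absurd hxy.symm (hne b)
      | some a =>
        cases y with
        | none => exact absurd hxy (hne a)
        | some b =>
          have h1 : (a : G) • o0 t u = (b : G) • o0 t u := hxy
          have h2 : ((b : G)⁻¹ * a) • o0 t u = o0 t u := by rw [mul_smul, h1, inv_smul_smul]
          have h3 := C.T_free (mul_mem (inv_mem b.2) a.2) h2
          congr 1
          exact Subtype.ext (inv_mul_eq_one.1 h3).symm
    · intro x
      by_cases hx : x = oI t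
      · exact ⟨none, hx.symm⟩
      · obtain ⟨a, ha, e⟩ := C.T_trans hd hd1 x hx
        exact ⟨some ⟨a, ha⟩, e⟩
  rw [← Nat.card_congr (Equiv.ofBijective f hf), Finite.card_option]

theorem odd_card_D (C : Ctx2 t u) : Odd (Nat.card (DD t u)) := by
  by_contra h
  rw [Nat.not_odd_iff_even] at h
  haveI : Fact (Nat.Prime 2) := ⟨Nat.prime_two⟩
  obtain ⟨x, hx⟩ := exists_prime_orderOf_dvd_card' (G := DD t u) 2 h.two_dvd
  have h1 : x * x = 1 := by
    have := pow_orderOf_eq_one x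
    rwa [hx, pow_two] at this
  have h2 : (x : G) = 1 := C.D_sq x.2 (congrArg Subtype.val h1)
  have h3 : x = 1 := Subtype.ext h2
  rw [h3, orderOf_one] at hx
  omega

theorem stab_eq (C : Ctx2 t u) :
    MulAction.stabilizer G (oI t) ⊓ MulAction.stabilizer G (o0 t u) = DD t u := by
  ext g
  rw [Subgroup.mem_inf, MulAction.mem_stabilizer_iff, MulAction.mem_stabilizer_iff, C.mem_DD_iff]

theorem feit [IsSimpleGroup G] (C : Ctx2 t u) {d : G} (hd : d ∈ DD t u) (hd1 : d ≠ 1) :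
    Nat.card (Cn t) - 1 ≤ 2 * Nat.card (DD t u) := by
  haveI : Fintype (G ⧸ NN t) := Fintype.ofFinite _
  have hcard : Fintype.card (G ⧸ NN t) = Nat.card (Cn t) + 1 := by
    rw [← Nat.card_eq_fintype_card, C.card_points hd hd1]
  have := Cfsg.Agent.S0885.result (C.zassenhaus hd hd1) C.o0_ne.symm (Nat.card (Cn t))
    (Nat.card (DD t u)) hcard (by rw [C.stab_eq]) C.odd_card_D (Cn t)
    (by
      intro a ha
      rw [MulAction.mem_stabilizer_iff]
      exact fix_oI.2 (Ctx.A_le_N ha))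
    hcard.symm
    (by
      intro a ha ha1 c hc
      by_contra hne
      obtain ⟨b, hb, e⟩ := C.T_trans hd hd1 c hne
      apply ha1
      apply C.T_free ha
      have hab : a * b = b * a := C.toCtx.comm ha hb
      rw [← e, ← mul_smul, hab, mul_smul] at hc
      exact smul_left_cancel _ hc)
  rcases this with h | ⟨-, ⟨x, y, hxy⟩, -⟩
  · exact h
  · exact absurd (Subtype.ext (C.toCtx.comm x.2 y.2).eq) hxy

theorem D_reg [IsSimpleGroup G] (C : Ctx2 t u) {d : G} (hd : d ∈ DD t u) (hd1 : d ≠ 1)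
    {b : G} (hb : b ∈ Cn t) (hb1 : b ≠ 1) : ∃ e ∈ DD t u, e * t * e⁻¹ = b := by
  by_contra hcon
  push Not at hcon
  have hconj1 : ∀ (e x : G), x ≠ 1 → e * x * e⁻¹ ≠ 1 := by
    intro e x hx h
    apply hx
    have : e * x = e := by simpa using mul_inv_eq_one.1 h
    simpa using this
  let f : Option (DD t u ⊕ DD t u) → Cn t := fun o =>
    o.elim 1 (fun s => s.elim
      (fun e : DD t u => ⟨(e : G) * t * (e : G)⁻¹, C.toCtx.conj_mem (mem_DD.1 e.2).1 (self_mem_Cn t)⟩)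
      (fun e : DD t u => ⟨(e : G) * b * (e : G)⁻¹, C.toCtx.conj_mem (mem_DD.1 e.2).1 hb⟩))
  have hinjb : ∀ e e' : DD t u, (e : G) * b * (e : G)⁻¹ = (e' : G) * b * (e' : G)⁻¹ → e = e' := by
    intro e e' h
    have h1 : (e' : G)⁻¹ * e ∈ DD t u := mul_mem (inv_mem e'.2) e.2
    have h2 : (e' : G)⁻¹ * e ∈ Cn t := by
      rw [← C.toCtx.Cn_eq hb hb1, mem_Cn]
      show (e' : G)⁻¹ * e * b = b * ((e' : G)⁻¹ * e)
      have : (e : G) * b = (e' : G) * b * (e' : G)⁻¹ * e := mul_inv_eq_iff_eq_mul.1 h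
      calc (e' : G)⁻¹ * e * b = (e' : G)⁻¹ * ((e : G) * b) := by group
        _ = (e' : G)⁻¹ * ((e' : G) * b * (e' : G)⁻¹ * e) := by rw [this]
        _ = _ := by group
    exact Subtype.ext (inv_mul_eq_one.1 (C.D_inf_A h1 h2)).symm
  have hcross : ∀ e e' : DD t u, (e : G) * t * (e : G)⁻¹ ≠ (e' : G) * b * (e' : G)⁻¹ := by
    intro e e' h
    apply hcon ((e' : G)⁻¹ * e) (mul_mem (inv_mem e'.2) e.2)
    calc (e' : G)⁻¹ * e * t * ((e' : G)⁻¹ * e)⁻¹ = (e' : G)⁻¹ * ((e : G) * t * (e : G)⁻¹) * e' := by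
          group
      _ = (e' : G)⁻¹ * ((e' : G) * b * (e' : G)⁻¹) * e' := by rw [h]
      _ = b := by group
  have hf : Function.Injective f := by
    intro x y hxy
    have hxy' : ((f x : Cn t) : G) = f y := congrArg Subtype.val hxy
    rcases x with _ | (e | e) <;> rcases y with _ | (e' | e')
    · rfl
    · exact absurd hxy'.symm (hconj1 _ _ C.t1)
    · exact absurd hxy'.symm (hconj1 _ _ hb1)
    · exact absurd hxy' (hconj1 _ _ C.t1)
    · have : e = e' := Subtype.ext (C.D_inj e.2 e'.2 hxy')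
      rw [this]
    · exact absurd hxy' (hcross e e')
    · exact absurd hxy' (hconj1 _ _ hb1)
    · exact absurd hxy'.symm (hcross e' e)
    · rw [hinjb e e' hxy']
  have h1 := Nat.card_le_card_of_injective f hf
  rw [Finite.card_option, Nat.card_sum] at h1
  have h2 := C.feit hd hd1
  have h3 : 2 ∣ Nat.card (Cn t) := by
    have hord : orderOf t = 2 := orderOf_eq_prime (by rw [pow_two, C.tt]) C.t1
    rw [← hord]
    exact Subgroup.orderOf_dvd_natCard _ (self_mem_Cn t)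
  omega

theorem three_trans' [IsSimpleGroup G] (C : Ctx2 t u) {d : G} (hd : d ∈ DD t u) (hd1 : d ≠ 1)
    {x y z : G ⧸ NN t} (hxy : x ≠ y) (hxz : x ≠ z) (hyz : y ≠ z) :
    ∃ g : G, g • x = oI t ∧ g • y = o0 t u ∧ g • z = t • o0 t u := by
  obtain ⟨k, k1, k2⟩ := C.two_trans' hd hd1 hxy
  have hz1 : k • z ≠ oI t := by
    rw [← k1]
    intro h
    exact hxz (smul_left_cancel _ h).symm
  obtain ⟨a, ha, e⟩ := C.T_trans hd hd1 _ hz1
  have ha1 : a ≠ 1 := by
    intro h
    rw [h, one_smul, ← k2] at e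
    exact hyz (smul_left_cancel _ e)
  obtain ⟨c, hc, e2⟩ := C.D_reg hd hd1 ha ha1
  have hc' := C.mem_DD_iff.1 hc
  refine ⟨c⁻¹ * k, ?_, ?_, ?_⟩
  · rw [mul_smul, k1, inv_smul_eq_iff, hc'.1]
  · rw [mul_smul, k2, inv_smul_eq_iff, hc'.2]
  · rw [mul_smul, ← e, inv_smul_eq_iff, ← e2, mul_smul, mul_smul, inv_smul_eq_iff.2 hc'.2.symm]

theorem gen (C : Ctx2 t u) {d : G} (hd : d ∈ DD t u) (hd1 : d ≠ 1) :
    Subgroup.closure (((Cn t : Subgroup G) : Set G) ∪ ((DD t u : Subgroup G) : Set G) ∪ {u}) = ⊤ := by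
  set K := Subgroup.closure (((Cn t : Subgroup G) : Set G) ∪ ((DD t u : Subgroup G) : Set G) ∪ {u})
    with hK
  have hA : ∀ a ∈ Cn t, a ∈ K := fun a ha => Subgroup.subset_closure (Or.inl (Or.inl ha))
  have hD : ∀ a ∈ DD t u, a ∈ K := fun a ha => Subgroup.subset_closure (Or.inl (Or.inr ha))
  have hu : u ∈ K := Subgroup.subset_closure (Or.inr rfl)
  have hN : ∀ n ∈ NN t, n ∈ K := by
    intro n hn
    obtain ⟨c, hc, h⟩ := C.N_eq hn
    have : n = c * (c⁻¹ * n) := by group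
    rw [this]
    exact mul_mem (hD c hc) (hA _ h)
  rw [eq_top_iff]
  intro g _
  by_cases hg : g ∈ NN t
  · exact hN g hg
  · have h1 : g • oI t ≠ oI t := fun h => hg (fix_oI.1 h)
    obtain ⟨a, ha, e⟩ := C.T_trans hd hd1 _ h1
    rw [o0, oI, smul_mk, smul_mk, mul_one, QuotientGroup.eq] at e
    have : g = a * u * ((a * u)⁻¹ * g) := by group
    rw [this]
    exact mul_mem (mul_mem (hA a ha) hu) (hN _ e)

end Ctx2

theorem forward [IsSimpleGroup G] (hG : ¬ IsMulCommutative G) (h : CTP G) :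
    ∃ (F : Type) (_ : Field F) (_ : Fintype F) (f : ℕ), 2 ≤ f ∧ Fintype.card F = 2 ^ f ∧
      Nonempty (G ≃* Matrix.ProjectiveSpecialLinearGroup (Fin 2) F) := by
  classical
  obtain ⟨t, ht1, htt⟩ := exists_invol hG h
  have C : Ctx t := ⟨h, ht1, htt⟩
  obtain ⟨g, hg⟩ := C.exists_not_mem_N hG
  obtain ⟨u, huu, huN, -, -⟩ := C.exists_invol_coset hg
  have C2 : Ctx2 t u := { C with uu := huu, uN := huN }
  have hex : ∃ d ∈ DD t u, d ≠ 1 := by
    by_contra hcon
    push Not at hcon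
    apply C.false_of_N_le_A hG
    intro n hn
    obtain ⟨c, hc, h1⟩ := C2.N_eq hn
    rw [hcon c hc, inv_one, one_mul] at h1
    exact h1
  obtain ⟨d, hd, hd1⟩ := hex
  haveI := C2.faithful
  obtain ⟨F, iF, iFt, hcard, ⟨φ⟩⟩ := Cfsg.Agent.Lib.Helper19.zassenhaus_core (G := G)
    (X := G ⧸ NN t) (Cn t) (DD t u) u (Ctx2.oI t) (Ctx2.o0 t u) C2.o0_ne
    (fun a ha b hb => (C.comm ha hb).eq)
    (fun a ha => Ctx2.fix_oI.2 (Ctx.A_le_N ha))
    (fun x hx => C2.T_trans hd hd1 x hx)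
    (fun a ha h0 => C2.T_free ha h0)
    (fun a ha b hb => (C2.D_comm ha hb))
    (fun a ha => (C2.mem_DD_iff.1 ha).1)
    (fun a ha => (C2.mem_DD_iff.1 ha).2)
    (fun a ha b hb => C.conj_mem (mem_DD.1 ha).1 hb)
    t (self_mem_Cn t) ht1
    (fun b hb hb1 => C2.D_reg hd hd1 hb hb1)
    (by rw [Ctx2.oI, Ctx2.smul_mk, mul_one])
    (by rw [Ctx2.o0, Ctx2.smul_mk, huu])
    (fun a ha => C2.D_inv ha)
    (C2.gen hd hd1)
    (by
      intro x₁ x₂ x₃ y₁ y₂ y₃ h12 h13 h23 k12 k13 k23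
      obtain ⟨g, g1, g2, g3⟩ := C2.three_trans' hd hd1 h12 h13 h23
      obtain ⟨k, k1, k2, k3⟩ := C2.three_trans' hd hd1 k12 k13 k23
      refine ⟨k⁻¹ * g, ?_, ?_, ?_⟩
      · rw [mul_smul, g1, ← k1, inv_smul_smul]
      · rw [mul_smul, g2, ← k2, inv_smul_smul]
      · rw [mul_smul, g3, ← k3, inv_smul_smul])
  have hp : IsPGroup 2 (Cn t) := by
    intro a
    refine ⟨1, ?_⟩
    by_cases ha : (a : G) = 1
    · have : a = 1 := Subtype.ext ha
      rw [this, one_pow]
    · obtain ⟨c, hc, e⟩ := C2.D_reg hd hd1 a.2 ha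
      apply Subtype.ext
      rw [pow_one, pow_two]
      show (a : G) * a = 1
      rw [← e]
      calc c * t * c⁻¹ * (c * t * c⁻¹) = c * (t * t) * c⁻¹ := by group
        _ = 1 := by rw [htt]; group
  haveI : Fact (Nat.Prime 2) := ⟨Nat.prime_two⟩
  obtain ⟨f, hf⟩ := IsPGroup.iff_card.1 hp
  have hne : d * t * d⁻¹ ≠ t := by
    intro e
    apply hd1
    apply C2.D_inf_A hd
    rw [mem_Cn]
    exact mul_inv_eq_iff_eq_mul.1 e
  have hne1 : d * t * d⁻¹ ≠ 1 := by
    intro e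
    apply ht1
    have : d * t = d := by simpa using mul_inv_eq_one.1 e
    simpa using this
  have hf2 : 2 ≤ f := by
    by_contra hlt
    have hf01 : f = 0 ∨ f = 1 := by omega
    rcases hf01 with rfl | rfl
    · rw [pow_zero, Nat.card_eq_one_iff_unique] at hf
      have := hf.1.elim (⟨t, self_mem_Cn t⟩ : Cn t) 1
      exact ht1 (congrArg Subtype.val this)
    · rw [pow_one, Nat.card_eq_two_iff' (1 : Cn t)] at hf
      obtain ⟨y, -, hy⟩ := hf
      have e1 := hy (⟨t, self_mem_Cn t⟩ : Cn t) (fun e => ht1 (congrArg Subtype.val e))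
      have e2 := hy (⟨d * t * d⁻¹, C.conj_mem (mem_DD.1 hd).1 (self_mem_Cn t)⟩ : Cn t)
        (fun e => hne1 (congrArg Subtype.val e))
      exact hne (congrArg Subtype.val (e2.trans e1.symm))
  have hcF : Fintype.card F = 2 ^ f := by rw [hcard, hf]
  have hev : Even (Fintype.card F) := by
    rw [hcF]
    exact (Nat.even_pow.2 ⟨even_two, by omega⟩)
  obtain ⟨ψ⟩ := Cfsg.Agent.Lib.Helper19.nonempty_PGL_mulEquiv_PSL (F := F) hev
  exact ⟨F, iF, iFt, f, hf2, hcF, ⟨φ.trans ψ⟩⟩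

end Cfsg.Agent.Lib.Helper1.CT
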