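import Mathlib

set_option autoImplicit false

/-! `PSL(2, 2^f)` is a CT-group. -/

namespace Cfsg.Agent.Lib.Helper1.CT

open Matrix

variable {F : Type*} [Field F]

theorem mat_comm_trans (A B C : Matrix (Fin 2) (Fin 2) F)
    (hB : B 0 1 ≠ 0 ∨ B 1 0 ≠ 0 ∨ B 0 0 ≠ B 1 1) (h1 : A * B = B * A) (h2 : B * C = C * B) :
    A * C = C * A := by
  have e00 := congrFun (congrFun h1 0) 0
  have e01 := congrFun (congrFun h1 0) 1
  have e10 := congrFun (congrFun h1 1) 0
  have e11 := congrFun (congrFun h1 1) 1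
  have f00 := congrFun (congrFun h2 0) 0
  have f01 := congrFun (congrFun h2 0) 1
  have f10 := congrFun (congrFun h2 1) 0
  have f11 := congrFun (congrFun h2 1) 1
  simp only [Matrix.mul_apply, Fin.sum_univ_two] at e00 e01 e10 e11 f00 f01 f10 f11
  ext i j
  fin_cases i <;> fin_cases j <;> simp only [Matrix.mul_apply, Fin.sum_univ_two, Fin.zero_eta,
    Fin.mk_one, Fin.isValue] <;> rcases hB with hB | hB | hB <;> grind

theorem sq_eq_one_char_two (h2 : (2 : F) = 0) {r : F} (hr : r * r = 1) : r = 1 := by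
  have h : (r - 1) * (r - 1) = 0 := by
    linear_combination hr - (r - 1) * h2
  have := mul_self_eq_zero.1 h
  exact sub_eq_zero.1 this

theorem SL2_nonscalar (h2 : (2 : F) = 0) {B : Matrix.SpecialLinearGroup (Fin 2) F} (hB : B ≠ 1) :
    (B : Matrix (Fin 2) (Fin 2) F) 0 1 ≠ 0 ∨ (B : Matrix (Fin 2) (Fin 2) F) 1 0 ≠ 0 ∨
      (B : Matrix (Fin 2) (Fin 2) F) 0 0 ≠ (B : Matrix (Fin 2) (Fin 2) F) 1 1 := by
  by_contra hcon
  push Not at hcon
  obtain ⟨h01, h10, h00⟩ := hcon
  have hdet := B.2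
  rw [Matrix.det_fin_two, h01, h10, ← h00, mul_zero, sub_zero] at hdet
  have hr := sq_eq_one_char_two h2 hdet
  apply hB
  ext i j
  fin_cases i <;> fin_cases j
  · simpa using hr
  · simpa using h01
  · simpa using h10
  · simpa using (h00 ▸ hr)

theorem SL2_center_eq_bot (h2 : (2 : F) = 0) :
    Subgroup.center (Matrix.SpecialLinearGroup (Fin 2) F) = ⊥ := by
  rw [eq_bot_iff]
  intro A hA
  rw [Matrix.SpecialLinearGroup.mem_center_iff] at hA
  obtain ⟨r, hr, hA⟩ := hA
  rw [Fintype.card_fin, pow_two] at hr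
  have hr1 := sq_eq_one_char_two h2 hr
  rw [Subgroup.mem_bot]
  apply Subtype.ext
  rw [← hA, hr1]
  simp

theorem SL2_CT (h2 : (2 : F) = 0) {A B C : Matrix.SpecialLinearGroup (Fin 2) F} (hB : B ≠ 1)
    (h1 : A * B = B * A) (h3 : B * C = C * B) : A * C = C * A := by
  apply Subtype.ext
  have e1 : (A : Matrix (Fin 2) (Fin 2) F) * B = B * A := congrArg Subtype.val h1
  have e2 : (B : Matrix (Fin 2) (Fin 2) F) * C = C * B := congrArg Subtype.val h3
  exact mat_comm_trans _ _ _ (SL2_nonscalar h2 hB) e1 e2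

theorem PSL2_CT (h2 : (2 : F) = 0) (a b c : Matrix.ProjectiveSpecialLinearGroup (Fin 2) F)
    (hb : b ≠ 1) (h1 : Commute a b) (h3 : Commute b c) : Commute a c := by
  have hc := SL2_center_eq_bot h2
  induction a using QuotientGroup.induction_on with
  | H A =>
  induction b using QuotientGroup.induction_on with
  | H B =>
  induction c using QuotientGroup.induction_on with
  | H C =>
  have key : ∀ X Y : Matrix.SpecialLinearGroup (Fin 2) F,
      ((X : Matrix.SpecialLinearGroup (Fin 2) F) :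
        Matrix.ProjectiveSpecialLinearGroup (Fin 2) F) = (Y : Matrix.SpecialLinearGroup (Fin 2) F)
        → X = Y := by
    intro X Y h
    rw [QuotientGroup.eq, hc, Subgroup.mem_bot] at h
    exact (inv_mul_eq_one.1 h)
  have hB : B ≠ 1 := by
    intro h
    apply hb
    rw [h]
    rfl
  have e1 : A * B = B * A := key _ _ h1
  have e2 : B * C = C * B := key _ _ h3
  have := SL2_CT h2 hB e1 e2
  exact congrArg (fun X : Matrix.SpecialLinearGroup (Fin 2) F =>
    (X : Matrix.ProjectiveSpecialLinearGroup (Fin 2) F)) this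

theorem two_eq_zero_of_card [Fintype F] {f : ℕ} (hc : Fintype.card F = 2 ^ f) : (2 : F) = 0 := by
  have := Nat.cast_card_eq_zero F
  rw [hc] at this
  push_cast at this
  exact eq_zero_of_pow_eq_zero this

theorem backward {G : Type*} [Group G] [Fintype F] {f : ℕ} (hc : Fintype.card F = 2 ^ f)
    (φ : G ≃* Matrix.ProjectiveSpecialLinearGroup (Fin 2) F) (a b c : G) (hb : b ≠ 1)
    (h1 : Commute a b) (h3 : Commute b c) : Commute a c := by
  have h2 := two_eq_zero_of_card hc
  have hb' : φ b ≠ 1 := by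
    intro h
    exact hb (φ.injective (h.trans (map_one φ).symm))
  have := PSL2_CT h2 (φ a) (φ b) (φ c) hb' (h1.map φ) (h3.map φ)
  apply φ.injective
  rw [map_mul, map_mul]
  exact this

end Cfsg.Agent.Lib.Helper1.CT
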