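import Mathlib
import Cfsg.Agent.Lib.Helper1.Tools
import Cfsg.Agent.Lib.Helper1.MinimalNormal
import Cfsg.Agent.Lib.Lead.CosetSum
import Cfsg.Agent.S0031
import Cfsg.Agent.S0032
import Cfsg.Agent.S0658
import Cfsg.Agent.Lib.Lead.Residual
import Cfsg.Agent.Lib.Helper11.PStable2

set_option autoImplicit false
open Pointwise

namespace Cfsg.Agent.Lib.Helper1.FPF

open Cfsg Cfsg.Agent.Lib.Helper1
open MonoidHom (FixedPointFree)

universe u
variable {G : Type u} [Group G]

/-- restriction of an automorphism to an invariant subgroup -/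
noncomputable def restr (φ : G ≃* G) (H : Subgroup G) (h : H.map (φ : G →* G) = H) : H ≃* H :=
  (φ.subgroupMap H).trans (MulEquiv.subgroupCongr h)

@[simp] theorem restr_coe (φ : G ≃* G) (H : Subgroup G) (h : H.map (φ : G →* G) = H) (x : H) :
    ((restr φ H h x : H) : G) = φ x := rfl

theorem restr_iterate (φ : G ≃* G) (H : Subgroup G) (h : H.map (φ : G →* G) = H) (k : ℕ) (x : H) :
    (((restr φ H h)^[k] x : H) : G) = φ^[k] x := by
  induction k with
  | zero => rfl
  | succ k ih => rw [Function.iterate_succ_apply', Function.iterate_succ_apply', restr_coe, ih]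

theorem restr_fpf {φ : G ≃* G} (hφ : FixedPointFree φ) (H : Subgroup G)
    (h : H.map (φ : G →* G) = H) : FixedPointFree (restr φ H h) := by
  intro x hx
  apply Subtype.ext
  apply hφ
  have := congrArg Subtype.val hx
  simpa using this

theorem restr_iterate_eq_id {φ : G ≃* G} {r : ℕ} (hr : φ^[r] = _root_.id) (H : Subgroup G)
    (h : H.map (φ : G →* G) = H) : (restr φ H h)^[r] = _root_.id := by
  funext x
  apply Subtype.ext
  rw [restr_iterate, hr]; rfl

/-- the automorphism induced on a quotient -/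
noncomputable def quot (φ : G ≃* G) (N : Subgroup G) [N.Normal] (h : N.map (φ : G →* G) = N) :
    G ⧸ N ≃* G ⧸ N := QuotientGroup.congr N N φ h

@[simp] theorem quot_mk (φ : G ≃* G) (N : Subgroup G) [N.Normal] (h : N.map (φ : G →* G) = N)
    (x : G) : quot φ N h (x : G ⧸ N) = ((φ x : G) : G ⧸ N) := rfl

theorem quot_iterate (φ : G ≃* G) (N : Subgroup G) [N.Normal] (h : N.map (φ : G →* G) = N)
    (k : ℕ) (x : G) : (quot φ N h)^[k] (x : G ⧸ N) = ((φ^[k] x : G) : G ⧸ N) := by
  induction k with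
  | zero => rfl
  | succ k ih => rw [Function.iterate_succ_apply', Function.iterate_succ_apply', ih, quot_mk]

theorem quot_iterate_eq_id {φ : G ≃* G} {r : ℕ} (hr : φ^[r] = _root_.id) (N : Subgroup G) [N.Normal]
    (h : N.map (φ : G →* G) = N) : (quot φ N h)^[r] = _root_.id := by
  funext x
  obtain ⟨x, rfl⟩ := QuotientGroup.mk_surjective x
  rw [quot_iterate, hr]; rfl

theorem quot_fpf [Finite G] {φ : G ≃* G} (hφ : FixedPointFree φ) (N : Subgroup G) [N.Normal]
    (h : N.map (φ : G →* G) = N) : FixedPointFree (quot φ N h) := by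
  intro x hx
  obtain ⟨x, rfl⟩ := QuotientGroup.mk_surjective x
  rw [quot_mk, QuotientGroup.eq] at hx
  rw [QuotientGroup.eq_one_iff]
  exact Cfsg.Agent.S0032.result φ hφ N
    (fun n hn => by rw [← h]; exact Subgroup.mem_map_of_mem _ hn) x hx

theorem mulAut_pow_apply {A : Type*} [Group A] (X : MulAut A) (k : ℕ) (a : A) :
    (X ^ k) a = X^[k] a := by
  induction k with
  | zero => rfl
  | succ k ih => rw [pow_succ', MulAut.mul_apply, ih, Function.iterate_succ_apply']

/-- **Key lemma**: an invariant `p'`-subgroup centralises an invariant normal elementary abelian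
`p`-subgroup. -/
theorem le_centralizer_of_fpf [Finite G] {φ : G ≃* G} (hφ : FixedPointFree φ) {r : ℕ}
    (hr : r.Prime) (hφr : φ^[r] = _root_.id) {p : ℕ} (V : Subgroup G) [V.Normal]
    (hV : V.map (φ : G →* G) = V) (hVc : ∀ a ∈ V, ∀ b ∈ V, a * b = b * a)
    (hVp : ∀ a ∈ V, a ^ p = 1) (Q : Subgroup G) (hQ : Q.map (φ : G →* G) = Q)
    (hcop : (Nat.card Q).Coprime p) : Q ≤ Subgroup.centralizer (V : Set G) := by
  set X : MulAut V := restr φ V hV with hX
  set c : G →* MulAut V := MulAut.conjNormal with hc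
  set T : Subgroup (MulAut V) := Q.map c with hT
  have hXc : ∀ z : G, X * c z = c (φ z) * X := by
    intro z
    ext v
    simp [hX, hc, MulAut.conjNormal_apply]
  have hTbot : T = ⊥ := by
    apply Cfsg.Agent.Lib.Lead.mulAut_eq_bot_of_norm_coset_eq_one (p := p) (n := r)
      (fun a b => Subtype.ext (hVc a a.2 b b.2))
      (fun a => Subtype.ext (by simpa using hVp a a.2)) X T
    · exact Nat.Coprime.coprime_dvd_left (Subgroup.card_map_dvd _ _) hcop
    · rintro _ ⟨z, hz, rfl⟩
      have hz' : z ∈ Q.map (φ : G →* G) := by rw [hQ]; exact hz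
      obtain ⟨w, hw, rfl⟩ := hz'
      refine ⟨w, hw, ?_⟩
      have := hXc w
      rw [mul_assoc, eq_inv_mul_iff_mul_eq]
      exact this
    · exact hr
    · rintro _ ⟨z, hz, rfl⟩ a
      -- `X * c z` is conjugate to `X`
      have hφz : φ z ∈ Q := by rw [← hQ]; exact Subgroup.mem_map_of_mem _ hz
      obtain ⟨u, hu⟩ := (restr_fpf hφ Q hQ).commutatorMap_surjective (⟨φ z, hφz⟩ : Q)
      have hu' : (u : G) * (φ u)⁻¹ = φ z := by
        have := congrArg Subtype.val hu
        simpa [div_eq_mul_inv] using this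
      have hconj : X * c z = c u * X * (c u)⁻¹ := by
        rw [hXc, ← hu', map_mul, mul_assoc, mul_assoc, ← map_inv c (u : G), hXc, map_inv φ]
      have hk : ∀ k : ℕ, ((X * c z) ^ k) a = c u (X^[k] ((c u)⁻¹ a)) := by
        intro k
        rw [hconj, conj_pow, MulAut.mul_apply, MulAut.mul_apply, mulAut_pow_apply]
      simp only [hk]
      have h1 := (restr_fpf hφ V hV).prod_pow_eq_one (restr_iterate_eq_id hφr V hV) ((c u)⁻¹ a)
      have h2 := congrArg (c u) h1
      rw [map_list_prod, List.map_map, map_one] at h2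
      exact h2
  intro z hz
  rw [Subgroup.mem_centralizer_iff]
  intro v hv
  have h1 : c z ∈ T := Subgroup.mem_map_of_mem _ hz
  rw [hTbot, Subgroup.mem_bot] at h1
  have h2 := congrArg (fun f : MulAut V => ((f ⟨v, hv⟩ : V) : G)) h1
  simp only [hc, MulAut.conjNormal_apply, MulAut.one_apply] at h2
  rw [mul_inv_eq_iff_eq_mul] at h2
  exact h2.symm

theorem hasNormalPComplement_of_isNilpotent [Finite G] [hG : Group.IsNilpotent G] (p : ℕ)
    [hp : Fact p.Prime] : HasNormalPComplement p G := by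
  by_cases hdvd : p ∣ Nat.card G
  swap
  · exact Cfsg.Agent.Lib.Lead.hasNormalPComplement_of_coprime_card
      ((Nat.Prime.coprime_iff_not_dvd hp.out).2 hdvd).symm
  rw [Cfsg.Agent.Lib.Lead.hasNormalPComplement_iff]
  have q := (Group.isNilpotent_of_finite_tfae (G := G)).out 0 4
  obtain ⟨e⟩ := q.1 hG
  let pp : (Nat.card G).primeFactors :=
    ⟨p, Nat.mem_primeFactors.2 ⟨hp.out, hdvd, Nat.card_pos.ne'⟩⟩
  let P : Sylow (pp : ℕ) G := (default : Sylow p G)
  let π : G →* (P : Subgroup G) :=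
    ((Pi.evalMonoidHom _ P).comp (Pi.evalMonoidHom _ pp)).comp e.symm.toMonoidHom
  have hπ : Function.Surjective π := by
    intro y
    classical
    refine ⟨e (Function.update 1 pp (Function.update 1 P y)), ?_⟩
    simp [π]
  have hidx : π.ker.index = p ^ (Nat.card G).factorization p := by
    rw [Subgroup.index_ker, MonoidHom.range_eq_top.2 hπ, Subgroup.card_top]
    exact Sylow.card_eq_multiplicity (p := p) P
  refine ⟨π.ker, inferInstance, ?_, _, hidx⟩
  have h1 := Subgroup.card_mul_index π.ker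
  rw [hidx] at h1
  have h2 : Nat.card π.ker = Nat.card G / p ^ (Nat.card G).factorization p :=
    (Nat.div_eq_of_eq_mul_left (pow_pos hp.out.pos _) h1.symm).symm
  rw [h2]
  exact (Nat.coprime_ordCompl hp.out Nat.card_pos.ne').symm

/-- The statement of Glauberman's `ZJ` normal `p`-complement theorem (S0659). -/
def GlaubermanHyp : Prop :=
  ∀ (G : Type u) [Group G] [Finite G] (p : ℕ) [Fact p.Prime], p ≠ 2 → ∀ P : Sylow p G,
    HasNormalPComplement p ↥(Subgroup.normalizer (centerThompsonAOf (P : Subgroup G) : Set G)) →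
      HasNormalPComplement p G

theorem isNilpotent_of_sylow_eq_top [Finite G] {p : ℕ} [Fact p.Prime] (P : Sylow p G)
    (h : (P : Subgroup G) = ⊤) : Group.IsNilpotent G := by
  have h1 : IsPGroup p (⊤ : Subgroup G) := h ▸ P.isPGroup'
  exact (h1.of_equiv Subgroup.topEquiv).isNilpotent

theorem thompson_aux (hGl : GlaubermanHyp.{u}) {r : ℕ} (hr : r.Prime) (n : ℕ) :
    ∀ (G : Type u) [Group G] [Finite G] (φ : G ≃* G), FixedPointFree φ → φ^[r] = _root_.id →
      Nat.card G = n → Group.IsNilpotent G := by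
  induction n using Nat.strong_induction_on with
  | _ n ih =>
  intro G _ _ φ hφ hφr hn
  subst hn
  by_cases hnt : Nontrivial G
  swap
  · rw [not_nontrivial_iff_subsingleton] at hnt
    infer_instance
  have ihsub : ∀ L : Subgroup G, L.map (φ : G →* G) = L → L ≠ ⊤ → Group.IsNilpotent L :=
    fun L hL hne => ih _ (card_subgroup_lt_of_ne_top hne) L (restr φ L hL) (restr_fpf hφ L hL)
      (restr_iterate_eq_id hφr L hL) rfl
  have ihquot : ∀ (N : Subgroup G) [N.Normal], N.map (φ : G →* G) = N → N ≠ ⊥ →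
      Group.IsNilpotent (G ⧸ N) :=
    fun N _ hN hne => ih _ (card_quotient_lt_of_ne_bot hne) (G ⧸ N) (quot φ N hN)
      (quot_fpf hφ N hN) (quot_iterate_eq_id hφr N hN) rfl
  let S : Set (Subgroup G) := {S | S.Normal ∧ S.map (φ : G →* G) = S ∧ S ≠ ⊥}
  obtain ⟨V, hV⟩ := (Set.toFinite S).exists_minimal
    ⟨⊤, inferInstance, Subgroup.map_top_of_surjective _ φ.surjective, top_ne_bot⟩
  obtain ⟨hVn, hVφ, hVne⟩ := hV.prop
  have hmin : ∀ M : Subgroup G, M.Normal → M.map (φ : G →* G) = M → M ≤ V → M = ⊥ ∨ M = V := by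
    intro M h1 h2 h3
    by_cases hM0 : M = ⊥
    · exact Or.inl hM0
    · exact Or.inr (le_antisymm h3 (hV.le_of_le ⟨h1, h2, hM0⟩ h3))
  by_cases hVtop : V = ⊤
  · -- the `φ`-simple case
    subst hVtop
    by_cases h2 : IsPGroup 2 G
    · have : Fact (Nat.Prime 2) := ⟨Nat.prime_two⟩
      exact h2.isNilpotent
    obtain ⟨p, hp, hpG, hp2⟩ : ∃ q : ℕ, q.Prime ∧ q ∣ Nat.card G ∧ q ≠ 2 := by
      by_contra hcon
      push Not at hcon
      apply h2
      have := Nat.eq_prime_pow_of_unique_prime_dvd (n := Nat.card G) (p := 2) Nat.card_pos.ne'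
        (fun {d} hd hdvd => hcon d hd hdvd)
      exact IsPGroup.of_card this
    have : Fact p.Prime := ⟨hp⟩
    obtain ⟨P, hP⟩ := Cfsg.Agent.S0031.result φ hφ p
    have hPne : (P : Subgroup G) ≠ ⊥ := P.ne_bot_of_dvd_card hpG
    set Z := centerThompsonAOf (P : Subgroup G) with hZ
    have hZne : Z ≠ ⊥ := Cfsg.Agent.S0658.centerThompsonAOf_ne_bot P.isPGroup' hPne
    have hZP : Z ≤ P := Cfsg.Agent.S0658.centerThompsonAOf_le _
    have hZφ : Z.map (φ : G →* G) = Z := by
      rw [hZ, ← Cfsg.Agent.Lib.Helper11.centerThompsonAOf_map (φ : G →* G) _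
        (by rw [(MonoidHom.ker_eq_bot_iff _).2 φ.injective, inf_bot_eq]), hP]
    have hLφ : (Subgroup.normalizer (Z : Set G)).map (φ : G →* G)
        = Subgroup.normalizer (Z : Set G) := by
      have := Subgroup.map_equiv_normalizer_eq Z φ
      change (Subgroup.normalizer (Z : Set G)).map (φ : G →* G)
        = Subgroup.normalizer ((Z.map (φ : G →* G) : Subgroup G) : Set G) at this
      rw [this, hZφ]
    by_cases hL : Subgroup.normalizer (Z : Set G) = ⊤
    · have hZn : Z.Normal := Subgroup.normalizer_eq_top_iff.1 hL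
      rcases hmin Z hZn hZφ le_top with h | h
      · exact absurd h hZne
      · exact isNilpotent_of_sylow_eq_top P (top_le_iff.1 (h ▸ hZP))
    · have hnil := ihsub _ hLφ hL
      have hc := hGl G p hp2 P (hasNormalPComplement_of_isNilpotent p)
      rw [Cfsg.Agent.Lib.Lead.hasNormalPComplement_iff] at hc
      obtain ⟨K, hKn, hK1, k, hK2⟩ := hc
      have hKφ : K.map (φ : G →* G) = K := by
        ext x
        rw [Cfsg.Agent.Lib.Lead.mem_iff_coprime_orderOf_of_normal_complement hK1 hK2]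
        constructor
        · rintro ⟨y, hy, rfl⟩
          rw [SetLike.mem_coe,
            Cfsg.Agent.Lib.Lead.mem_iff_coprime_orderOf_of_normal_complement hK1 hK2] at hy
          change (orderOf (φ y)).Coprime p
          rw [MulEquiv.orderOf_eq]
          exact hy
        · intro hx
          refine ⟨φ.symm x, ?_, by simp⟩
          rw [SetLike.mem_coe,
            Cfsg.Agent.Lib.Lead.mem_iff_coprime_orderOf_of_normal_complement hK1 hK2,
            MulEquiv.orderOf_eq]
          exact hx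
      rcases hmin K hKn hKφ le_top with h | h
      · rw [h, Subgroup.index_bot] at hK2
        exact (IsPGroup.of_card hK2).isNilpotent
      · rw [h, Subgroup.card_top] at hK1
        exact absurd hpG ((Nat.Prime.coprime_iff_not_dvd hp).1 hK1.symm)
  -- `V` is a proper invariant normal subgroup
  have hVnil := ihsub V hVφ hVtop
  have hVsolv : Group.IsSolvable V := inferInstance
  have hQnil := ihquot V hVφ hVne
  have hlt := commutator_lt_of_isSolvable hVsolv hVne
  have hbot : ⁅V, V⁆ = ⊥ := by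
    rcases hmin ⁅V, V⁆ inferInstance (by rw [Subgroup.map_commutator, hVφ]) hlt.le with h | h
    · exact h
    · exact absurd h hlt.ne
  have hcomm : ∀ x ∈ V, ∀ y ∈ V, x * y = y * x := by
    rw [Subgroup.commutator_eq_bot_iff_le_centralizer] at hbot
    intro x hx y hy
    exact ((Subgroup.mem_centralizer_iff.1 (hbot hx)) y hy).symm
  have hcard : Nat.card V ≠ 1 := fun h => hVne (Subgroup.card_eq_one.1 h)
  let p := (Nat.card V).minFac
  have hp : p.Prime := Nat.minFac_prime hcard
  have : Fact p.Prime := ⟨hp⟩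
  let Ω : Subgroup G :=
    { carrier := {x | x ∈ V ∧ x ^ p = 1}
      mul_mem' := by
        rintro a b ⟨ha, ha'⟩ ⟨hb, hb'⟩
        refine ⟨V.mul_mem ha hb, ?_⟩
        rw [(show Commute a b from hcomm a ha b hb).mul_pow, ha', hb', one_mul]
      one_mem' := ⟨V.one_mem, one_pow _⟩
      inv_mem' := by
        rintro a ⟨ha, ha'⟩
        exact ⟨V.inv_mem ha, by rw [inv_pow, ha', inv_one]⟩ }
  have hΩn : Ω.Normal := by
    constructor
    rintro x ⟨hx, hx'⟩ g
    exact ⟨hVn.conj_mem x hx g, by rw [conj_pow, hx', mul_one, mul_inv_cancel]⟩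
  have hΩle : Ω ≤ V := fun x hx => hx.1
  have hΩφ : Ω.map (φ : G →* G) = Ω := by
    apply le_antisymm
    · rintro _ ⟨x, ⟨hx, hx'⟩, rfl⟩
      refine ⟨by rw [← hVφ]; exact Subgroup.mem_map_of_mem _ hx, ?_⟩
      rw [← map_pow, hx', map_one]
    · rintro x ⟨hx, hx'⟩
      rw [← hVφ] at hx
      obtain ⟨y, hy, rfl⟩ := hx
      refine ⟨y, ⟨hy, ?_⟩, rfl⟩
      apply φ.injective
      rw [map_pow, map_one]
      exact hx'
  obtain ⟨x, hx⟩ := exists_prime_orderOf_dvd_card' (G := V) p (Nat.minFac_dvd _)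
  have hΩne : Ω ≠ ⊥ := by
    intro h
    have h1 : (x : G) ∈ Ω := ⟨x.2, by
      rw [← Subgroup.coe_pow, ← hx, pow_orderOf_eq_one, Subgroup.coe_one]⟩
    rw [h, Subgroup.mem_bot] at h1
    have h2 : x = 1 := Subtype.ext h1
    rw [h2, orderOf_one] at hx
    exact hp.one_lt.ne hx
  have hVp : ∀ y ∈ V, y ^ p = 1 := by
    rcases hmin Ω hΩn hΩφ hΩle with h | h
    · exact absurd h hΩne
    · intro y hy
      rw [← h] at hy
      exact hy.2
  have hVpg : IsPGroup p V := isPGroup_of_forall_pow_eq_one hVp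
  have q := (Group.isNilpotent_of_finite_tfae (G := G)).out 0 3
  rw [q]
  intro q' hq' Q
  have hQV : ((Q : Subgroup G) ⊔ V).Normal := by
    have h1 : ((Sylow.mapSurjective (QuotientGroup.mk'_surjective V) Q : Sylow q' (G ⧸ V)) :
        Subgroup (G ⧸ V)).Normal := inferInstance
    have h2 := h1.comap (QuotientGroup.mk' V)
    rwa [Sylow.coe_mapSurjective, Subgroup.comap_map_eq, QuotientGroup.ker_mk'] at h2
  by_cases hqp : q' = p
  · subst hqp
    rwa [sup_of_le_left (hVpg.le_sylow_of_normal Q)] at hQV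
  obtain ⟨Q₀, hQ₀⟩ := Cfsg.Agent.S0031.result φ hφ q'
  have hcop : (Nat.card (Q₀ : Subgroup G)).Coprime p := by
    obtain ⟨k, hk⟩ := IsPGroup.iff_card.1 Q₀.isPGroup'
    rw [hk]
    exact Nat.Coprime.pow_left _ ((Nat.coprime_primes hq'.out hp).2 hqp)
  have hQ₀C := le_centralizer_of_fpf hφ hr hφr V hVφ hcomm hVp Q₀ hQ₀ hcop
  have hQC : (Q : Subgroup G) ≤ Subgroup.centralizer (V : Set G) := by
    obtain ⟨g, hg⟩ := MulAction.exists_smul_eq G Q₀ Q
    rw [← hg, Sylow.coe_subgroup_smul,
      ← Subgroup.Normal.conj_smul_eq_self g (Subgroup.centralizer (V : Set G))]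
    exact Subgroup.pointwise_smul_le_pointwise_smul_iff.2 hQ₀C
  have hQVN : (Q : Subgroup G) ⊔ V ≤ Subgroup.normalizer ((Q : Subgroup G) : Set G) :=
    sup_le Subgroup.le_normalizer
      ((Subgroup.le_centralizer_iff.1 hQC).trans (Subgroup.centralizer_le_normalizer _))
  rw [← Subgroup.normalizer_eq_top_iff, eq_top_iff]
  intro g _
  rw [mem_normalizer_iff_conj_smul]
  have h1 : MulAut.conj g • (Q : Subgroup G) ≤ (Q : Subgroup G) ⊔ V := by
    rw [← Subgroup.Normal.conj_smul_eq_self g ((Q : Subgroup G) ⊔ V)]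
    exact Subgroup.pointwise_smul_le_pointwise_smul_iff.2 le_sup_left
  have hi : ∀ R : Sylow q' G, (R : Subgroup G) ≤ (Q : Subgroup G) ⊔ V →
      ¬ q' ∣ (R : Subgroup G).relIndex ((Q : Subgroup G) ⊔ V) :=
    fun R hR hd => R.not_dvd_index (hd.trans (Subgroup.relIndex_dvd_index_of_le hR))
  have h2 := hi (g • Q) (by rw [Sylow.coe_subgroup_smul]; exact h1)
  rw [Sylow.coe_subgroup_smul] at h2
  obtain ⟨m, hm, hmQ⟩ := exists_conj_of_sylow_rel (p := q') le_sup_left h1 Q.isPGroup'
    (by rw [← Sylow.coe_subgroup_smul]; exact (g • Q).isPGroup') (hi Q le_sup_left) h2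
  have h3 := mem_normalizer_iff_conj_smul.1 (hQVN hm)
  exact smul_left_cancel _ (hmQ.trans h3.symm)

/-- **Thompson's theorem** on fixed-point-free automorphisms of prime order, assuming
Glauberman's `ZJ` normal `p`-complement theorem. -/
theorem thompson_fpf (hGl : GlaubermanHyp.{u}) [Finite G] (φ : G ≃* G) (hφ : FixedPointFree φ)
    {r : ℕ} (hr : r.Prime) (hφr : φ ^ r = 1) : Group.IsNilpotent G := by
  apply thompson_aux hGl hr _ G φ hφ _ rfl
  funext x
  have := mulAut_pow_apply (φ : MulAut G) r x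
  rw [hφr] at this
  exact this.symm

end Cfsg.Agent.Lib.Helper1.FPF
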