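import Mathlib
import Cfsg.Prelude.Def_Solvable
import Cfsg.Agent.Lib.Helper1.Tools
import Cfsg.Agent.Lib.Helper1.SchurZassenhaus
import Cfsg.Agent.Lib.Helper1.FPF
import Cfsg.Agent.S0034
import Cfsg.Agent.S0035

set_option autoImplicit false
open Pointwise
open scoped commutatorElement

namespace Cfsg.Agent.Lib.Helper1.Frob

open Cfsg Cfsg.Agent.Lib.Helper1

universe u
variable {G : Type u} [Group G]

/-- an element commuting with a nonidentity element of a Frobenius complement lies in it -/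
theorem mem_of_commute {H : Subgroup G} (hH : IsFrobeniusComplement H) {h n : G} (hh : h ∈ H)
    (h1 : h ≠ 1) (hc : n * h = h * n) : n ∈ H := by
  by_contra hn
  have h2 := hH.2.2 n hn
  have h3 : h ∈ H ⊓ (MulAut.conj n • H) := by
    refine Subgroup.mem_inf.2 ⟨hh, ?_⟩
    rw [mem_conj_smul_iff, mul_assoc, ← hc, inv_mul_cancel_left]
    exact hh
  rw [h2, Subgroup.mem_bot] at h3
  exact h1 h3

theorem coprime_card_index [Finite G] {H : Subgroup G} (hH : IsFrobeniusComplement H) :
    (Nat.card H).Coprime H.index := by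
  have h1 := (Cfsg.Agent.S0034.result H hH).2
  have h2 : Nat.gcd (Nat.card H) H.index = Nat.gcd (Nat.card H) 1 := by
    rw [Nat.gcd_rec (Nat.card H) H.index, h1, ← Nat.gcd_rec]
  rw [Nat.Coprime, h2, Nat.gcd_one_right]

/-- The Frobenius kernel is nilpotent (Thompson), assuming S0659. -/
theorem kernel_isNilpotent (hGl : FPF.GlaubermanHyp.{u}) [Finite G] {H : Subgroup G}
    (hH : IsFrobeniusComplement H) (N : Subgroup G) [N.Normal] (hd : N ⊓ H = ⊥) :
    Group.IsNilpotent N := by
  have hcard : Nat.card H ≠ 1 := fun h => hH.1 (Subgroup.card_eq_one.1 h)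
  have hr : (Nat.card H).minFac.Prime := Nat.minFac_prime hcard
  have : Fact (Nat.card H).minFac.Prime := ⟨hr⟩
  obtain ⟨h, hh⟩ := exists_prime_orderOf_dvd_card' (G := H) _ (Nat.minFac_dvd (Nat.card H))
  have h1 : (h : G) ≠ 1 := by
    intro h0
    have : h = 1 := Subtype.ext h0
    rw [this, orderOf_one] at hh
    exact hr.one_lt.ne hh
  apply FPF.thompson_fpf hGl (MulAut.conjNormal (h : G) : MulAut N) _ hr
  · rw [← map_pow, ← Subgroup.coe_pow, ← hh, pow_orderOf_eq_one]; simp
  · intro n hn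
    have h2 : (h : G) * n * (h : G)⁻¹ = n := by
      have := congrArg Subtype.val hn
      rwa [MulAut.conjNormal_apply] at this
    have h3 : (n : G) ∈ H := mem_of_commute hH h.2 h1 (by
      conv_lhs => rw [← h2]
      simp)
    have h4 : (n : G) ∈ N ⊓ H := ⟨n.2, h3⟩
    rw [hd, Subgroup.mem_bot] at h4
    exact Subtype.ext h4

/-- A nilpotent normal subgroup of a Frobenius group lies in the kernel. -/
theorem nilpotent_normal_le_kernel [Finite G] {H : Subgroup G} (hH : IsFrobeniusComplement H)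
    (K : Subgroup G) [hKn : K.Normal] (hK : (K : Set G) = frobeniusKernel H)
    (hc : Subgroup.IsComplement' K H) (M : Subgroup G) [hMn : M.Normal]
    (hM : Group.IsNilpotent M) : M ≤ K := by
  by_contra hcon
  obtain ⟨x, hxM, hxK⟩ := SetLike.not_le_iff_exists.1 hcon
  have hx : x ∉ frobeniusKernel H := by rw [← hK]; exact hxK
  simp only [frobeniusKernel, Set.mem_ofPred_eq, not_or, not_forall, not_not] at hx
  obtain ⟨hx1, g, hg⟩ := hx
  rw [mem_conj_smul_iff] at hg
  set y := g⁻¹ * x * g with hy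
  have hyM : y ∈ M := by
    have := hMn.conj_mem x hxM g⁻¹
    simpa [hy] using this
  have hy1 : y ≠ 1 := by
    intro h
    apply hx1
    have : x = g * y * g⁻¹ := by rw [hy]; group
    rw [this, h]; simp
  have hd : K ⊓ H = ⊥ := hc.disjoint.eq_bot
  -- the commutator map is onto `K`
  let f : K → K := fun k => ⟨⁅(k : G), y⁆, by
    rw [commutatorElement_def, mul_assoc, mul_assoc]
    refine K.mul_mem k.2 ?_
    rw [← mul_assoc]
    exact hKn.conj_mem _ (K.inv_mem k.2) y⟩
  have hf : Function.Injective f := by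
    intro a b hab
    have h1 : ⁅(a : G), y⁆ = ⁅(b : G), y⁆ := congrArg Subtype.val hab
    rw [commutatorElement_def, commutatorElement_def] at h1
    have h2 : ((b : G)⁻¹ * a) * y = y * ((b : G)⁻¹ * a) := by
      have h3 : (a : G) * y * (a : G)⁻¹ = b * y * (b : G)⁻¹ := mul_right_cancel h1
      calc ((b : G)⁻¹ * a) * y = (b : G)⁻¹ * (a * y * (a : G)⁻¹) * a := by group
        _ = (b : G)⁻¹ * (b * y * (b : G)⁻¹) * a := by rw [h3]
        _ = y * ((b : G)⁻¹ * a) := by group
    have h4 : (b : G)⁻¹ * a ∈ K ⊓ H :=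
      ⟨K.mul_mem (K.inv_mem b.2) a.2, mem_of_commute hH hg hy1 h2⟩
    rw [hd, Subgroup.mem_bot, inv_mul_eq_one] at h4
    exact (Subtype.ext h4).symm
  have hfs : Function.Surjective f := Finite.surjective_of_injective hf
  have hall : ∀ i : ℕ, K ≤ M.lowerCentralSeries i := by
    intro i
    induction i with
    | zero =>
      intro k hk
      obtain ⟨k', hk'⟩ := hfs ⟨k, hk⟩
      have h1 : ⁅(k' : G), y⁆ = k := congrArg Subtype.val hk'
      rw [Subgroup.lowerCentralSeries_zero, ← h1, commutatorElement_def]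
      exact M.mul_mem (hMn.conj_mem y hyM _) (M.inv_mem hyM)
    | succ i ih =>
      intro k hk
      obtain ⟨k', hk'⟩ := hfs ⟨k, hk⟩
      have h1 : ⁅(k' : G), y⁆ = k := congrArg Subtype.val hk'
      rw [Subgroup.lowerCentralSeries_succ, ← h1]
      exact Subgroup.commutator_mem_commutator (ih k'.2) hyM
  obtain ⟨n, hn⟩ := (Subgroup.isNilpotent_iff_lowerCentralSeries M).1 hM
  have hKbot : K = ⊥ := le_bot_iff.1 (hn ▸ hall n)
  apply hH.2.1
  have := hc.sup_eq_top
  rwa [hKbot, bot_sup_eq] at this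

/-- All Frobenius complements are conjugate (assuming S0659). -/
theorem complements_conj (hGl : FPF.GlaubermanHyp.{u}) [Finite G] {H H₀ : Subgroup G}
    (hH : IsFrobeniusComplement H) (hH₀ : IsFrobeniusComplement H₀) :
    ∃ g : G, MulAut.conj g • H₀ = H := by
  obtain ⟨K, hK1, hK2, hK3⟩ := Cfsg.Agent.S0035.result H hH
  obtain ⟨K₀, hL1, hL2, hL3⟩ := Cfsg.Agent.S0035.result H₀ hH₀
  have hKnil := kernel_isNilpotent hGl hH K hK3.disjoint.eq_bot
  have hLnil := kernel_isNilpotent hGl hH₀ K₀ hL3.disjoint.eq_bot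
  have heq : K₀ = K := le_antisymm (nilpotent_normal_le_kernel hH K hK1 hK3 K₀ hLnil)
    (nilpotent_normal_le_kernel hH₀ K₀ hL1 hL3 K hKnil)
  subst heq
  have hcop : (Nat.card K₀).Coprime K₀.index := by
    have h1 := coprime_card_index hH
    rw [hK3.index_eq_card] at h1
    rw [← card_eq_index_of_isComplement' hK3]
    exact h1.symm
  obtain ⟨g, -, hg⟩ := sz_conj K₀ hcop (Or.inl inferInstance) H₀ H hL3 hK3
  exact ⟨g, hg⟩

end Cfsg.Agent.Lib.Helper1.Frob
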