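import Mathlib
import Cfsg.Agent.Lib.Helper24.PGroup
import Cfsg.Agent.Lib.Lead.FrobeniusComplement

set_option autoImplicit false

namespace Cfsg.Agent.Lib.Helper1.OmegaLemma

open scoped commutatorElement
open Cfsg Cfsg.Agent.Lib.Helper24

variable {G : Type*} [Group G]

/-- if `⁅y, x⁆` commutes with `x` and `y`, and `y ^ 2` commutes with `x`, then
`(x y)^4 = x^4 y^4`. -/
theorem mul_pow_four_of_commute (x y : G)
    (hx : Commute ⁅y, x⁆ x) (hy : Commute ⁅y, x⁆ y) (hyp : Commute (y ^ 2) x) :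
    (x * y) ^ 4 = x ^ 4 * y ^ 4 := by
  have h1 := pow_mul_eq_of_commute x y hx hy 2
  have hcp : ⁅y, x⁆ ^ 2 = 1 := by
    rw [hyp.eq, mul_assoc] at h1
    exact (mul_eq_right.1 h1.symm)
  rw [mul_pow_of_commute x y hx hy 4]
  have : (4 : ℕ).choose 2 = 2 * 3 := by decide
  rw [this, pow_mul, hcp, one_pow, mul_one]

/-- A group `A` of odd order normalizing a `2`-group `P` and centralizing all elements `x ∈ P`
with `x ^ 4 = 1` centralizes `P`. -/
theorem le_centralizer_of_centralizes_omega_two [Finite G]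
    (A : Subgroup G) (hcop : (Nat.card A).Coprime 2) (P : Subgroup G) (hP : IsPGroup 2 P)
    (hA : A ≤ Subgroup.normalizer (P : Set G))
    (hfix : ∀ x ∈ P, x ^ 4 = 1 → x ∈ Subgroup.centralizer (A : Set G)) :
    P ≤ Subgroup.centralizer (A : Set G) := by
  have : Fact (Nat.Prime 2) := ⟨Nat.prime_two⟩
  induction hn : Nat.card P using Nat.strong_induction_on generalizing P with
  | _ n ih =>
  subst hn
  have hcopP := coprime_card_of_isPGroup hcop hP
  have hle : ⁅P, A⁆ ≤ P := Subgroup.le_normalizer_iff_commutator_le_left.1 hA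
  suffices h : ⁅P, A⁆ ≤ Subgroup.centralizer (A : Set G) by
    have h1 : ⁅⁅P, A⁆, A⁆ = ⊥ := Subgroup.commutator_eq_bot_iff_le_centralizer.2 h
    exact Subgroup.commutator_eq_bot_iff_le_centralizer.1
      (commutator_eq_bot_of_coprime hA hcopP h1)
  have ihQ : ∀ Q : Subgroup G, Q < P → A ≤ Subgroup.normalizer (Q : Set G) →
      Q ≤ Subgroup.centralizer (A : Set G) := fun Q hQ hAQ =>
    ih _ (card_lt_of_lt hQ) Q (hP.to_le hQ.le) hAQ (fun x hx => hfix x (hQ.le hx)) rfl
  by_cases hPA : ⁅P, A⁆ = P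
  swap
  · exact ihQ _ (lt_of_le_of_ne hle hPA) (Subgroup.normalizer_commutator_ge_right _ _)
  by_cases hbot : P = ⊥
  · rw [hPA, hbot]; exact bot_le
  obtain ⟨M, -, hMP, -, -, hpow, hcomm⟩ := exists_maximal_normal 2 hP (bot_lt_iff_ne_bot.2 hbot)
  have hN1 : ⁅P, P⁆ < P := lt_of_le_of_lt hcomm hMP
  have hN1n : Subgroup.normalizer (P : Set G) ≤ Subgroup.normalizer ((⁅P, P⁆ : Subgroup G) : Set G) :=
    le_trans (le_inf le_rfl le_rfl) (normalizer_inf_le_normalizer_commutator P P)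
  have hN1A := ihQ _ hN1 (hA.trans hN1n)
  have hN1P := le_centralizer_of_commutator_eq hPA (Subgroup.le_normalizer.trans hN1n) hN1A
  set N2 := Subgroup.closure ((fun x => x ^ 2) '' (P : Set G)) with hN2def
  have hN2 : N2 < P := by
    refine lt_of_le_of_lt ?_ hMP
    rw [hN2def, Subgroup.closure_le]
    rintro _ ⟨x, hx, rfl⟩
    exact hpow x hx
  have hN2n := normalizer_le_normalizer_closure_pow P 2
  have hN2A := ihQ _ hN2 (hA.trans hN2n)
  have hN2P := le_centralizer_of_commutator_eq hPA (Subgroup.le_normalizer.trans hN2n) hN2A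
  have hpowmem : ∀ x ∈ P, x ^ 2 ∈ N2 := fun x hx => Subgroup.subset_closure ⟨x, hx, rfl⟩
  rw [Subgroup.commutator_le]
  intro x hx a ha
  apply hfix _ (hle (Subgroup.commutator_mem_commutator hx ha))
  have hx' : a * x⁻¹ * a⁻¹ ∈ P := by
    have := (Subgroup.mem_normalizer_iff.1 (hA ha) x⁻¹).1 (P.inv_mem hx)
    exact this
  have hdecomp : ⁅x, a⁆ = x * (a * x⁻¹ * a⁻¹) := by rw [commutatorElement_def]; group
  have hcc : ∀ u ∈ P, ∀ v ∈ P, ∀ w ∈ P, Commute ⁅u, v⁆ w := by
    intro u hu v hv w hw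
    have := hN1P (Subgroup.commutator_mem_commutator hu hv)
    rw [Subgroup.mem_centralizer_iff] at this
    exact (this w hw).symm
  have hpc : ∀ u ∈ P, ∀ w ∈ P, Commute (u ^ 2) w := by
    intro u hu w hw
    have := hN2P (hpowmem u hu)
    rw [Subgroup.mem_centralizer_iff] at this
    exact (this w hw).symm
  rw [hdecomp, mul_pow_four_of_commute x _ (hcc _ hx' _ hx _ hx) (hcc _ hx' _ hx _ hx')
    (hpc _ hx' _ hx), conj_pow, inv_pow]
  have h4 : x ^ 4 ∈ N2 := by
    have : x ^ 4 = x ^ 2 * x ^ 2 := by rw [← pow_add]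
    rw [this]; exact N2.mul_mem (hpowmem x hx) (hpowmem x hx)
  have h5 := hN2A h4
  rw [Subgroup.mem_centralizer_iff] at h5
  have h6 : a * (x ^ 4)⁻¹ * a⁻¹ = (x ^ 4)⁻¹ := by
    have h7 : a * x ^ 4 = x ^ 4 * a := h5 a ha
    have h8 : Commute a (x ^ 4) := h7
    rw [h8.inv_right.eq]; group
  rw [h6, mul_inv_cancel]

/-- A `p'`-group `A` normalizing a `p`-group `P` and centralizing all elements of order dividing
`p` (dividing `4` if `p = 2`) centralizes `P`. -/
theorem le_centralizer_of_centralizes_small [Finite G] (p : ℕ) [Fact p.Prime]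
    (A : Subgroup G) (hcop : (Nat.card A).Coprime p) (P : Subgroup G) (hP : IsPGroup p P)
    (hA : A ≤ Subgroup.normalizer (P : Set G))
    (hfix : ∀ x ∈ P, (x ^ p = 1 ∨ (p = 2 ∧ x ^ 4 = 1)) → x ∈ Subgroup.centralizer (A : Set G)) :
    P ≤ Subgroup.centralizer (A : Set G) := by
  by_cases hp2 : p = 2
  · subst hp2
    exact le_centralizer_of_centralizes_omega_two A hcop P hP hA
      (fun x hx h => hfix x hx (Or.inr ⟨rfl, h⟩))
  · exact le_centralizer_of_centralizes_omega p hp2 A hcop P hP hA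
      (fun x hx h => hfix x hx (Or.inl h))

/-- Frobenius-type criterion: it suffices that `p'`-elements normalising a subgroup `Q` of a Sylow
`p`-subgroup centralise the elements of `Q` of order dividing `p` (or `4`). -/
theorem hasNormalPComplement_of_small [Finite G] {p : ℕ} [Fact p.Prime] (P : Sylow p G)
    (h : ∀ Q : Subgroup G, Q ≤ (P : Subgroup G) → ∀ g ∈ Subgroup.normalizer (Q : Set G),
      Nat.Coprime (orderOf g) p → ∀ a ∈ Q, (a ^ p = 1 ∨ (p = 2 ∧ a ^ 4 = 1)) → g * a = a * g) :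
    HasNormalPComplement p G := by
  apply Cfsg.Agent.Lib.Lead.FrobHyp.hasNormalPComplement
  apply Cfsg.Agent.Lib.Lead.frobHyp_of_sylow P
  intro Q hQP g hg hgo
  have h1 := le_centralizer_of_centralizes_small p (Subgroup.zpowers g)
    (by rw [Nat.card_zpowers]; exact hgo) Q (P.isPGroup'.to_le hQP)
    (by rw [Subgroup.zpowers_le]; exact hg) (by
      intro x hx hsmall
      rw [Subgroup.mem_centralizer_iff]
      rintro _ ⟨k, rfl⟩
      have hc : Commute g x := h Q hQP g hg hgo x hx hsmall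
      exact (hc.zpow_left k).eq)
  rw [Subgroup.mem_centralizer_iff]
  intro x hx
  exact ((Subgroup.mem_centralizer_iff.1 (h1 hx)) g (Subgroup.mem_zpowers g)).symm

end Cfsg.Agent.Lib.Helper1.OmegaLemma
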