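import Mathlib
import Cfsg.Agent.Lib.Helper1.OmegaLemma

set_option autoImplicit false

namespace Cfsg.Agent.Lib.Helper1.OmegaLemma

open scoped commutatorElement
open Cfsg Cfsg.Agent.Lib.Helper24

variable {G : Type*} [Group G]

/-- the subgroup generated by the `A`-conjugates of `a` is normalised by `A` -/
theorem le_normalizer_closure_conj (A : Subgroup G) (a : G) :
    A ≤ Subgroup.normalizer
      ((Subgroup.closure {u | ∃ h ∈ A, u = h * a * h⁻¹} : Subgroup G) : Set G) := by
  refine le_trans ?_ (Subgroup.normalizer_le_normalizer_closure _)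
  intro g hg
  rw [Subgroup.mem_normalizer_iff_conj_image_eq]
  ext u
  constructor
  · rintro ⟨_, ⟨h, hh, rfl⟩, rfl⟩
    exact ⟨g * h, A.mul_mem hg hh, by simp [mul_assoc]⟩
  · rintro ⟨h, hh, rfl⟩
    exact ⟨g⁻¹ * h * a * (g⁻¹ * h)⁻¹, ⟨g⁻¹ * h, A.mul_mem (A.inv_mem hg) hh, rfl⟩,
      by simp [mul_assoc]⟩

/-- If a Sylow `p`-subgroup controls the fusion of its elements of order dividing `p` (or `4`),
then the group has a normal `p`-complement. -/
theorem hasNormalPComplement_of_controls_small [Finite G] {p : ℕ} [Fact p.Prime] (P : Sylow p G)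
    (h : ∀ a ∈ (P : Subgroup G), (a ^ p = 1 ∨ (p = 2 ∧ a ^ 4 = 1)) → ∀ g : G,
      g * a * g⁻¹ ∈ (P : Subgroup G) → ∃ x ∈ (P : Subgroup G), g * a * g⁻¹ = x * a * x⁻¹) :
    HasNormalPComplement p G := by
  have main : ∀ n : ℕ, ∀ Q : Subgroup G, Nat.card Q = n → Q ≤ (P : Subgroup G) →
      ∀ g ∈ Subgroup.normalizer (Q : Set G), Nat.Coprime (orderOf g) p →
        Q ≤ Subgroup.centralizer ((Subgroup.zpowers g : Subgroup G) : Set G) := by
    intro n
    induction n using Nat.strong_induction_on with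
    | _ n ih =>
    intro Q hn hQP g hg hgo
    subst hn
    set A := Subgroup.zpowers g with hAdef
    have hQp : IsPGroup p Q := P.isPGroup'.to_le hQP
    have hAQ : A ≤ Subgroup.normalizer (Q : Set G) := by
      rw [hAdef, Subgroup.zpowers_le]; exact hg
    have hcop : (Nat.card A).Coprime p := by
      rw [hAdef, Nat.card_zpowers]; exact hgo
    have hcopQ := coprime_card_of_isPGroup hcop hQp
    have ihQ : ∀ Q' : Subgroup G, Q' < Q → A ≤ Subgroup.normalizer (Q' : Set G) →
        Q' ≤ Subgroup.centralizer (A : Set G) := fun Q' hlt hA' =>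
      ih _ (card_lt_of_lt hlt) Q' rfl (hlt.le.trans hQP) g (hA' (Subgroup.mem_zpowers g)) hgo
    have hle : ⁅Q, A⁆ ≤ Q := Subgroup.le_normalizer_iff_commutator_le_left.1 hAQ
    by_cases hQA : ⁅Q, A⁆ = Q
    swap
    · have h1 := ihQ _ (lt_of_le_of_ne hle hQA) (Subgroup.normalizer_commutator_ge_right _ _)
      exact Subgroup.commutator_eq_bot_iff_le_centralizer.1
        (commutator_eq_bot_of_coprime hAQ hcopQ
          (Subgroup.commutator_eq_bot_iff_le_centralizer.2 h1))
    apply le_centralizer_of_centralizes_small p A hcop Q hQp hAQ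
    intro a ha hsmall
    set U : Set G := {u | ∃ h ∈ A, u = h * a * h⁻¹} with hU
    set B := Subgroup.closure U with hB
    have hUQ : ∀ u ∈ U, u ∈ Q := by
      rintro _ ⟨h', hh', rfl⟩
      exact (Subgroup.mem_normalizer_iff.1 (hAQ hh') a).1 ha
    have hBQ : B ≤ Q := (Subgroup.closure_le Q).2 hUQ
    have hAB : A ≤ Subgroup.normalizer (B : Set G) := le_normalizer_closure_conj A a
    have haB : a ∈ B := Subgroup.subset_closure ⟨1, A.one_mem, by simp⟩
    by_cases hBeq : B = Q
    swap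
    · exact ihQ B (lt_of_le_of_ne hBQ hBeq) hAB haB
    set N := Subgroup.closure {u | ∃ y ∈ (P : Subgroup G), u = y * a * y⁻¹} with hN
    have haP : a ∈ (P : Subgroup G) := hQP ha
    have hNP : N ≤ (P : Subgroup G) := by
      rw [hN, Subgroup.closure_le]
      rintro _ ⟨y, hy, rfl⟩
      exact (P : Subgroup G).mul_mem ((P : Subgroup G).mul_mem hy haP) ((P : Subgroup G).inv_mem hy)
    have haN : a ∈ N := Subgroup.subset_closure ⟨1, (P : Subgroup G).one_mem, by simp⟩
    have hPN : (P : Subgroup G) ≤ Subgroup.normalizer (N : Set G) :=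
      le_normalizer_closure_conj (P : Subgroup G) a
    have hPC : (P : Subgroup G) ≤ Subgroup.normalizer ((⁅N, (P : Subgroup G)⁆ : Subgroup G) : Set G) :=
      le_trans (le_inf hPN Subgroup.le_normalizer) (normalizer_inf_le_normalizer_commutator N P)
    set C := ⁅N, (P : Subgroup G)⁆ with hC
    have hconjC : ∀ b ∈ (P : Subgroup G), ∀ c ∈ C, b * c * b⁻¹ ∈ C := fun b hb c hc =>
      (Subgroup.mem_normalizer_iff.1 (hPC hb) c).1 hc
    have hUC : ∀ u ∈ U, u * a⁻¹ ∈ C := by
      intro u hu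
      have huP := hQP (hUQ u hu)
      obtain ⟨h', hh', rfl⟩ := hu
      obtain ⟨y, hy, hy'⟩ := h a haP hsmall h' huP
      rw [hy', hC, Subgroup.commutator_comm]
      exact Subgroup.commutator_mem_commutator hy haN
    have hT : ∀ h' ∈ A, ∀ b ∈ B, h' * b * h'⁻¹ * b⁻¹ ∈ C := by
      intro h' hh' b hb
      induction hb using Subgroup.closure_induction with
      | mem u hu =>
        have h1 : h' * u * h'⁻¹ ∈ U := by
          obtain ⟨k, hk, rfl⟩ := hu
          exact ⟨h' * k, A.mul_mem hh' hk, by simp [mul_assoc]⟩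
        have h2 := C.mul_mem (hUC _ h1) (C.inv_mem (hUC u hu))
        simpa [mul_assoc] using h2
      | one => simpa using C.one_mem
      | mul x y hx hy ihx ihy =>
        have h1 := C.mul_mem ihx (hconjC x (hQP (hBQ hx)) _ ihy)
        have h2 : h' * x * h'⁻¹ * x⁻¹ * (x * (h' * y * h'⁻¹ * y⁻¹) * x⁻¹)
            = h' * (x * y) * h'⁻¹ * (x * y)⁻¹ := by group
        rwa [h2] at h1
      | inv x hx ihx =>
        have h1 := hconjC x⁻¹ ((P : Subgroup G).inv_mem (hQP (hBQ hx))) _ (C.inv_mem ihx)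
        have h2 : x⁻¹ * (h' * x * h'⁻¹ * x⁻¹)⁻¹ * x⁻¹⁻¹ = h' * x⁻¹ * h'⁻¹ * x⁻¹⁻¹ := by group
        rwa [h2] at h1
    have hQC : Q ≤ C := by
      conv_lhs => rw [← hQA]
      rw [Subgroup.commutator_le]
      intro b hb h' hh'
      have h1 := C.inv_mem (hT h' hh' b (hBeq ▸ hb))
      have h2 : (h' * b * h'⁻¹ * b⁻¹)⁻¹ = ⁅b, h'⁆ := by rw [commutatorElement_def]; group
      rwa [h2] at h1
    have hNC : N ≤ C := by
      rw [hN, Subgroup.closure_le]
      rintro _ ⟨y, hy, rfl⟩
      exact hconjC y hy a (hQC ha)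
    have hNbot : N = ⊥ := eq_bot_of_le_commutator (H := (P : Subgroup G))
      P.isPGroup'.isNilpotent hNP hNC
    rw [hNbot, Subgroup.mem_bot] at haN
    rw [haN]; exact Subgroup.one_mem _
  apply Cfsg.Agent.Lib.Lead.FrobHyp.hasNormalPComplement
  apply Cfsg.Agent.Lib.Lead.frobHyp_of_sylow P
  intro Q hQP g hg hgo
  have h1 := main _ Q rfl hQP g hg hgo
  rw [Subgroup.mem_centralizer_iff]
  intro x hx
  exact ((Subgroup.mem_centralizer_iff.1 (h1 hx)) g (Subgroup.mem_zpowers g)).symm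

end Cfsg.Agent.Lib.Helper1.OmegaLemma
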