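import Mathlib
import Cfsg.Agent.Lib.Helper1.InvAb2
import Cfsg.Agent.Lib.Helper1.CTGroup2

set_option autoImplicit false
set_option linter.style.haveILetI false
set_option linter.unusedSectionVars false

/-! Involution centralisers abelian and `C(t)` a TI-subgroup: `G ≅ PSL(2, 2^f)`. -/

namespace Cfsg.Agent.Lib.Helper1.IA

open Cfsg.Agent.Lib.Helper1.CT (Cn mem_Cn self_mem_Cn NN DD mem_DD)
open Cfsg.Agent.Lib.Helper1.CT.Ctx2 (oI o0 smul_mk fix_oI)

variable {G : Type*} [Group G] [Finite G]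

namespace Ctx2T

variable {t u : G}

theorem fix_o0 (C : Ctx2T t u) {g : G} : g • o0 t u = o0 t u ↔ u * g * u⁻¹ ∈ NN t := by
  rw [o0, smul_mk, QuotientGroup.eq, ← inv_mem_iff]
  have : ((g * u)⁻¹ * u)⁻¹ = u * g * u⁻¹ := by
    rw [mul_inv_rev, inv_inv, C.uinv, mul_assoc]
  rw [this]

theorem o0_ne (C : Ctx2T t u) : o0 t u ≠ oI t := by
  intro h
  rw [o0, oI, QuotientGroup.eq, mul_one, inv_mem_iff] at h
  exact C.uN h

theorem mem_DD_iff (C : Ctx2T t u) {g : G} :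
    g ∈ DD t u ↔ g • oI t = oI t ∧ g • o0 t u = o0 t u := by
  rw [mem_DD, fix_oI, C.fix_o0]

theorem T_free (C : Ctx2T t u) {a : G} (ha : a ∈ Cn t) (h : a • o0 t u = o0 t u) : a = 1 :=
  C.D_inf_A (C.mem_DD_iff.2 ⟨fix_oI.2 (Ctx.A_le_N ha), h⟩) ha

theorem T_trans (C : Ctx2T t u) {d : G} (hd : d ∈ DD t u) (hd1 : d ≠ 1) (x : G ⧸ NN t)
    (hx : x ≠ oI t) : ∃ a ∈ Cn t, a • o0 t u = x := by
  induction x using QuotientGroup.induction_on with
  | H g =>
    have hg : g ∉ NN t := by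
      intro h
      apply hx
      rw [oI, QuotientGroup.eq, mul_one, inv_mem_iff]
      exact h
    obtain ⟨v, hv, hvN, hn, -⟩ := C.toCtx'.exists_invol_coset hg
    have C1 : Ctx2T t v := { C.toCtx' with uu := hv, uN := hvN, ti := C.ti }
    obtain ⟨a, ha, h⟩ := C.A_trans hd hd1 C1
    refine ⟨a, ha, ?_⟩
    rw [o0, smul_mk]
    have e1 : ((a * u : G) : G ⧸ NN t) = ((v : G) : G ⧸ NN t) := QuotientGroup.eq.2 h
    have e2 : ((g : G) : G ⧸ NN t) = ((v : G) : G ⧸ NN t) := QuotientGroup.eq.2 (Ctx.A_le_N hn)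
    rw [e1, e2]

theorem two_trans' (C : Ctx2T t u) {d : G} (hd : d ∈ DD t u) (hd1 : d ≠ 1) {x y : G ⧸ NN t}
    (hxy : x ≠ y) : ∃ g : G, g • x = oI t ∧ g • y = o0 t u := by
  induction x using QuotientGroup.induction_on with
  | H k =>
    have h1 : k⁻¹ • ((k : G) : G ⧸ NN t) = oI t := by rw [smul_mk, inv_mul_cancel]
    have h2 : k⁻¹ • y ≠ oI t := by
      intro h
      apply hxy
      rw [← h1] at h
      exact (smul_left_cancel _ h).symm
    obtain ⟨a, ha, h⟩ := C.T_trans hd hd1 _ h2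
    refine ⟨a⁻¹ * k⁻¹, ?_, ?_⟩
    · rw [mul_smul, h1]
      exact fix_oI.2 (inv_mem (Ctx.A_le_N ha))
    · rw [mul_smul, ← h, inv_smul_smul]

theorem D_fix (C : Ctx2T t u) {g a : G} (hg : g ∈ DD t u) (ha : a ∈ Cn t) (ha1 : a ≠ 1)
    (h : g • (a • o0 t u) = a • o0 t u) : g = 1 := by
  have hgN := (mem_DD.1 hg).1
  have h0 : g⁻¹ • o0 t u = o0 t u := by
    have := (C.mem_DD_iff.1 hg).2
    rw [inv_smul_eq_iff, this]
  have h1 : (a⁻¹ * (g * a * g⁻¹)) • o0 t u = o0 t u := by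
    rw [mul_smul, mul_smul, mul_smul, h0, h, inv_smul_smul]
  have h2 : a⁻¹ * (g * a * g⁻¹) = 1 :=
    C.T_free (mul_mem (inv_mem ha) (C.toCtx'.conj_mem hgN ha)) h1
  have h3 : g * a * g⁻¹ = a := (inv_mul_eq_one.1 h2).symm
  apply C.D_inf_A hg
  rw [← C.Cn_eq' ha ha1, mem_Cn]
  exact mul_inv_eq_iff_eq_mul.1 h3

theorem faithful (C : Ctx2T t u) : FaithfulSMul G (G ⧸ NN t) := by
  constructor
  intro g₁ g₂ h
  have hx : ∀ x : G ⧸ NN t, (g₂⁻¹ * g₁) • x = x := by
    intro x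
    rw [mul_smul, h, inv_smul_smul]
  have hD : g₂⁻¹ * g₁ ∈ DD t u := C.mem_DD_iff.2 ⟨hx _, hx _⟩
  have := C.D_fix hD (self_mem_Cn t) C.t1 (hx _)
  exact (inv_mul_eq_one.1 this).symm

theorem zassenhaus (C : Ctx2T t u) {d : G} (hd : d ∈ DD t u) (hd1 : d ≠ 1) :
    Cfsg.IsZassenhausGroup G (G ⧸ NN t) := by
  refine ⟨C.faithful, ?_, ?_, ?_, ?_⟩
  · rw [MulAction.is_two_pretransitive_iff]
    intro a b c e hab hce
    obtain ⟨g, g1, g2⟩ := C.two_trans' hd hd1 hab
    obtain ⟨k, k1, k2⟩ := C.two_trans' hd hd1 hce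
    refine ⟨k⁻¹ * g, ?_, ?_⟩
    · rw [mul_smul, g1, ← k1, inv_smul_smul]
    · rw [mul_smul, g2, ← k2, inv_smul_smul]
  · intro g a b c hab hbc hac ha hb hc
    obtain ⟨k, k1, k2⟩ := C.two_trans' hd hd1 hab
    have f : ∀ x : G ⧸ NN t, g • x = x → (k * g * k⁻¹) • (k • x) = k • x := by
      intro x hx
      rw [mul_smul, mul_smul, inv_smul_smul, hx]
    have hD : k * g * k⁻¹ ∈ DD t u := by
      rw [C.mem_DD_iff, ← k1, ← k2]
      exact ⟨f a ha, f b hb⟩
    have hc1 : k • c ≠ oI t := by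
      rw [← k1]
      intro h
      exact hac (smul_left_cancel _ h).symm
    obtain ⟨a', ha', e⟩ := C.T_trans hd hd1 _ hc1
    have ha'1 : a' ≠ 1 := by
      intro h
      rw [h, one_smul, ← k2] at e
      exact hbc (smul_left_cancel _ e)
    have := C.D_fix hD ha' ha'1 (by rw [e]; exact f c hc)
    have h2 : k * g = k := by simpa using mul_inv_eq_one.1 this
    simpa using h2
  · exact ⟨d, hd1, oI t, o0 t u, C.o0_ne.symm, (C.mem_DD_iff.1 hd).1, (C.mem_DD_iff.1 hd).2⟩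
  · intro K hK hKt
    by_contra hcon
    push Not at hcon
    have hreg : ∀ k ∈ K, k ∈ NN t → k = 1 := by
      intro k hk hkN
      have h1 : (⟨k, hk⟩ : K) ∈ MulAction.stabilizer K (oI t) := by
        rw [MulAction.mem_stabilizer_iff]
        exact fix_oI.2 hkN
      have h2 : (⟨k, hk⟩ : K) ∈ (⊥ : Subgroup K) := (hcon (oI t)) ▸ h1
      exact congrArg Subtype.val (Subgroup.mem_bot.1 h2)
    have hinv : ∀ r ∈ Cn t, r ≠ 1 → r * r = 1 → ∀ x ∈ K, r * x * r⁻¹ = x⁻¹ := by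
      intro r hr hr1 hrr
      let ψ : K → K := fun k => ⟨(k : G)⁻¹ * (r * k * r⁻¹), mul_mem (inv_mem k.2) (hK.conj_mem k k.2 r)⟩
      have hψ : Function.Injective ψ := by
        intro k k' hkk
        have h := congrArg Subtype.val hkk
        change (k : G)⁻¹ * (r * k * r⁻¹) = (k' : G)⁻¹ * (r * k' * r⁻¹) at h
        have h2 : ((k' : G) * (k : G)⁻¹) * r = r * ((k' : G) * (k : G)⁻¹) := by
          have h3 : (k' : G) * (k : G)⁻¹ = r * k' * r⁻¹ * (r * k * r⁻¹)⁻¹ := by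
            calc (k' : G) * (k : G)⁻¹ = k' * ((k : G)⁻¹ * (r * k * r⁻¹)) * (r * k * r⁻¹)⁻¹ := by group
              _ = k' * ((k' : G)⁻¹ * (r * k' * r⁻¹)) * (r * k * r⁻¹)⁻¹ := by rw [h]
              _ = _ := by group
          calc ((k' : G) * (k : G)⁻¹) * r = (r * k' * r⁻¹ * (r * k * r⁻¹)⁻¹) * r := by rw [← h3]
            _ = r * ((k' : G) * (k : G)⁻¹) := by group
        have h4 : (k' : G) * (k : G)⁻¹ ∈ Cn t := by
          rw [← C.toCtx'.Cn_eq hr hr1 hrr]
          exact mem_Cn.2 h2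
        have h5 := hreg _ (mul_mem k'.2 (inv_mem k.2)) (Ctx.A_le_N h4)
        exact Subtype.ext (mul_inv_eq_one.1 h5).symm
      intro x hx
      obtain ⟨k, hk⟩ := Finite.surjective_of_injective hψ ⟨x, hx⟩
      have hk' : (k : G)⁻¹ * (r * k * r⁻¹) = x := congrArg Subtype.val hk
      have hrinv : r⁻¹ = r := inv_eq_of_mul_eq_one_left hrr
      rw [← hk', hrinv]
      have e1 : r * ((k : G)⁻¹ * (r * k * r)) * r = r * (k : G)⁻¹ * r * k := by
        calc r * ((k : G)⁻¹ * (r * k * r)) * r = r * (k : G)⁻¹ * r * k * (r * r) := by group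
          _ = r * (k : G)⁻¹ * r * k := by rw [hrr, mul_one]
      have e2 : ((k : G)⁻¹ * (r * k * r))⁻¹ = r * (k : G)⁻¹ * r * k := by
        rw [mul_inv_rev, mul_inv_rev, mul_inv_rev, hrinv, inv_inv]
        group
      rw [e1, e2]
    obtain ⟨hs, hs1, hss⟩ := C.toCtx2.conj_t (mem_DD.1 hd).1
    have hst : d * t * d⁻¹ ≠ t := by
      intro e
      apply hd1
      apply C.D_inf_A hd
      rw [mem_Cn]
      exact mul_inv_eq_iff_eq_mul.1 e
    set s := d * t * d⁻¹ with hsdef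
    have hts : t * s ∈ Cn t := mul_mem (self_mem_Cn t) hs
    have hc : t * s = s * t := (C.toCtx'.comm (self_mem_Cn t) hs).eq
    have hts1 : t * s ≠ 1 := by
      intro h
      apply hst
      have : s = t⁻¹ := eq_inv_of_mul_eq_one_right h
      rw [this, C.toCtx'.tinv]
    have htss : t * s * (t * s) = 1 := by
      calc t * s * (t * s) = t * (s * t) * s := by group
        _ = t * (t * s) * s := by rw [hc]
        _ = (t * t) * (s * s) := by group
        _ = 1 := by rw [C.tt, hss, one_mul]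
    have hK1 : ∀ x ∈ K, x = 1 := by
      intro x hx
      apply hreg x hx
      apply Ctx.A_le_N
      rw [← C.toCtx'.Cn_eq hts hts1 htss, mem_Cn]
      have h1 := hinv t (self_mem_Cn t) C.t1 C.tt x⁻¹ (inv_mem hx)
      have h2 := hinv s hs hs1 hss x hx
      rw [inv_inv] at h1
      have h3 : t * s * x * (t * s)⁻¹ = x := by
        calc t * s * x * (t * s)⁻¹ = t * (s * x * s⁻¹) * t⁻¹ := by group
          _ = x := by rw [h2, h1]
      exact (mul_inv_eq_iff_eq_mul.1 h3).symm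
    obtain ⟨k, hk⟩ := hKt.exists_smul_eq (oI t) (o0 t u)
    have h2 : (k : G) • oI t = o0 t u := hk
    rw [hK1 k k.2, one_smul] at h2
    exact C.o0_ne h2.symm

theorem card_points (C : Ctx2T t u) {d : G} (hd : d ∈ DD t u) (hd1 : d ≠ 1) :
    Nat.card (G ⧸ NN t) = Nat.card (Cn t) + 1 := by
  let f : Option (Cn t) → G ⧸ NN t := fun o => o.elim (oI t) (fun a => (a : G) • o0 t u)
  have hne : ∀ a : Cn t, (a : G) • o0 t u ≠ oI t := by
    intro a h
    have h1 : (a : G) • oI t = oI t := fix_oI.2 (Ctx.A_le_N a.2)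
    rw [← h1] at h
    exact C.o0_ne (smul_left_cancel _ h)
  have hf : Function.Bijective f := by
    constructor
    · intro x y hxy
      cases x with
      | none =>
        cases y with
        | none => rfl
        | some b => exact absurd hxy.symm (hne b)
      | some a =>
        cases y with
        | none => exact absurd hxy (hne a)
        | some b =>
          have h1 : (a : G) • o0 t u = (b : G) • o0 t u := hxy
          have h2 : ((b : G)⁻¹ * a) • o0 t u = o0 t u := by rw [mul_smul, h1, inv_smul_smul]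
          have h3 := C.T_free (mul_mem (inv_mem b.2) a.2) h2
          congr 1
          exact Subtype.ext (inv_mul_eq_one.1 h3).symm
    · intro x
      by_cases hx : x = oI t
      · exact ⟨none, hx.symm⟩
      · obtain ⟨a, ha, e⟩ := C.T_trans hd hd1 x hx
        exact ⟨some ⟨a, ha⟩, e⟩
  rw [← Nat.card_congr (Equiv.ofBijective f hf), Finite.card_option]

theorem odd_card_D (C : Ctx2T t u) : Odd (Nat.card (DD t u)) := by
  by_contra h
  rw [Nat.not_odd_iff_even] at h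
  haveI : Fact (Nat.Prime 2) := ⟨Nat.prime_two⟩
  obtain ⟨x, hx⟩ := exists_prime_orderOf_dvd_card' (G := DD t u) 2 h.two_dvd
  have h1 : x * x = 1 := by
    have := pow_orderOf_eq_one x
    rwa [hx, pow_two] at this
  have h2 : (x : G) = 1 := C.D_sq x.2 (congrArg Subtype.val h1)
  have h3 : x = 1 := Subtype.ext h2
  rw [h3, orderOf_one] at hx
  omega

theorem stab_eq (C : Ctx2T t u) :
    MulAction.stabilizer G (oI t) ⊓ MulAction.stabilizer G (o0 t u) = DD t u := by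
  ext g
  rw [Subgroup.mem_inf, MulAction.mem_stabilizer_iff, MulAction.mem_stabilizer_iff, C.mem_DD_iff]

theorem feit (C : Ctx2T t u) {d : G} (hd : d ∈ DD t u) (hd1 : d ≠ 1) :
    Nat.card (Cn t) - 1 ≤ 2 * Nat.card (DD t u) := by
  haveI : Fintype (G ⧸ NN t) := Fintype.ofFinite _
  have hcard : Fintype.card (G ⧸ NN t) = Nat.card (Cn t) + 1 := by
    rw [← Nat.card_eq_fintype_card, C.card_points hd hd1]
  have := Cfsg.Agent.S0885.result (C.zassenhaus hd hd1) C.o0_ne.symm (Nat.card (Cn t))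
    (Nat.card (DD t u)) hcard (by rw [C.stab_eq]) C.odd_card_D (Cn t)
    (by
      intro a ha
      rw [MulAction.mem_stabilizer_iff]
      exact fix_oI.2 (Ctx.A_le_N ha))
    hcard.symm
    (by
      intro a ha ha1 c hc
      by_contra hne
      obtain ⟨b, hb, e⟩ := C.T_trans hd hd1 c hne
      apply ha1
      apply C.T_free ha
      have hab : a * b = b * a := C.toCtx'.comm ha hb
      rw [← e, ← mul_smul, hab, mul_smul] at hc
      exact smul_left_cancel _ hc)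
  rcases this with h | ⟨-, ⟨x, y, hxy⟩, -⟩
  · exact h
  · exact absurd (Subtype.ext (C.toCtx'.comm x.2 y.2).eq) hxy

theorem D_reg (C : Ctx2T t u) {d : G} (hd : d ∈ DD t u) (hd1 : d ≠ 1)
    {b : G} (hb : b ∈ Cn t) (hb1 : b ≠ 1) : ∃ e ∈ DD t u, e * t * e⁻¹ = b := by
  by_contra hcon
  push Not at hcon
  have hconj1 : ∀ (e x : G), x ≠ 1 → e * x * e⁻¹ ≠ 1 := by
    intro e x hx h
    apply hx
    have : e * x = e := by simpa using mul_inv_eq_one.1 h
    simpa using this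
  let f : Option (DD t u ⊕ DD t u) → Cn t := fun o =>
    o.elim 1 (fun s => s.elim
      (fun e : DD t u => ⟨(e : G) * t * (e : G)⁻¹, C.toCtx'.conj_mem (mem_DD.1 e.2).1 (self_mem_Cn t)⟩)
      (fun e : DD t u => ⟨(e : G) * b * (e : G)⁻¹, C.toCtx'.conj_mem (mem_DD.1 e.2).1 hb⟩))
  have hinjb : ∀ e e' : DD t u, (e : G) * b * (e : G)⁻¹ = (e' : G) * b * (e' : G)⁻¹ → e = e' := by
    intro e e' h
    have h1 : (e' : G)⁻¹ * e ∈ DD t u := mul_mem (inv_mem e'.2) e.2
    have h2 : (e' : G)⁻¹ * e ∈ Cn t := by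
      rw [← C.Cn_eq' hb hb1, mem_Cn]
      show (e' : G)⁻¹ * e * b = b * ((e' : G)⁻¹ * e)
      have : (e : G) * b = (e' : G) * b * (e' : G)⁻¹ * e := mul_inv_eq_iff_eq_mul.1 h
      calc (e' : G)⁻¹ * e * b = (e' : G)⁻¹ * ((e : G) * b) := by group
        _ = (e' : G)⁻¹ * ((e' : G) * b * (e' : G)⁻¹ * e) := by rw [this]
        _ = _ := by group
    exact Subtype.ext (inv_mul_eq_one.1 (C.D_inf_A h1 h2)).symm
  have hcross : ∀ e e' : DD t u, (e : G) * t * (e : G)⁻¹ ≠ (e' : G) * b * (e' : G)⁻¹ := by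
    intro e e' h
    apply hcon ((e' : G)⁻¹ * e) (mul_mem (inv_mem e'.2) e.2)
    calc (e' : G)⁻¹ * e * t * ((e' : G)⁻¹ * e)⁻¹ = (e' : G)⁻¹ * ((e : G) * t * (e : G)⁻¹) * e' := by
          group
      _ = (e' : G)⁻¹ * ((e' : G) * b * (e' : G)⁻¹) * e' := by rw [h]
      _ = b := by group
  have hf : Function.Injective f := by
    intro x y hxy
    have hxy' : ((f x : Cn t) : G) = f y := congrArg Subtype.val hxy
    rcases x with _ | (e | e) <;> rcases y with _ | (e' | e')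
    · rfl
    · exact absurd hxy'.symm (hconj1 _ _ C.t1)
    · exact absurd hxy'.symm (hconj1 _ _ hb1)
    · exact absurd hxy' (hconj1 _ _ C.t1)
    · have : e = e' := Subtype.ext (C.D_inj e.2 e'.2 hxy')
      rw [this]
    · exact absurd hxy' (hcross e e')
    · exact absurd hxy' (hconj1 _ _ hb1)
    · exact absurd hxy'.symm (hcross e' e)
    · rw [hinjb e e' hxy']
  have h1 := Nat.card_le_card_of_injective f hf
  rw [Finite.card_option, Nat.card_sum] at h1
  have h2 := C.feit hd hd1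
  have h3 : 2 ∣ Nat.card (Cn t) := by
    have hord : orderOf t = 2 := orderOf_eq_prime (by rw [pow_two, C.tt]) C.t1
    rw [← hord]
    exact Subgroup.orderOf_dvd_natCard _ (self_mem_Cn t)
  omega

theorem three_trans' (C : Ctx2T t u) {d : G} (hd : d ∈ DD t u) (hd1 : d ≠ 1)
    {x y z : G ⧸ NN t} (hxy : x ≠ y) (hxz : x ≠ z) (hyz : y ≠ z) :
    ∃ g : G, g • x = oI t ∧ g • y = o0 t u ∧ g • z = t • o0 t u := by
  obtain ⟨k, k1, k2⟩ := C.two_trans' hd hd1 hxy
  have hz1 : k • z ≠ oI t := by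
    rw [← k1]
    intro h
    exact hxz (smul_left_cancel _ h).symm
  obtain ⟨a, ha, e⟩ := C.T_trans hd hd1 _ hz1
  have ha1 : a ≠ 1 := by
    intro h
    rw [h, one_smul, ← k2] at e
    exact hyz (smul_left_cancel _ e)
  obtain ⟨c, hc, e2⟩ := C.D_reg hd hd1 ha ha1
  have hc' := C.mem_DD_iff.1 hc
  refine ⟨c⁻¹ * k, ?_, ?_, ?_⟩
  · rw [mul_smul, k1, inv_smul_eq_iff, hc'.1]
  · rw [mul_smul, k2, inv_smul_eq_iff, hc'.2]
  · rw [mul_smul, ← e, inv_smul_eq_iff, ← e2, mul_smul, mul_smul, inv_smul_eq_iff.2 hc'.2.symm]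

theorem gen (C : Ctx2T t u) {d : G} (hd : d ∈ DD t u) (hd1 : d ≠ 1) :
    Subgroup.closure (((Cn t : Subgroup G) : Set G) ∪ ((DD t u : Subgroup G) : Set G) ∪ {u}) = ⊤ := by
  set K := Subgroup.closure (((Cn t : Subgroup G) : Set G) ∪ ((DD t u : Subgroup G) : Set G) ∪ {u})
    with hK
  have hA : ∀ a ∈ Cn t, a ∈ K := fun a ha => Subgroup.subset_closure (Or.inl (Or.inl ha))
  have hD : ∀ a ∈ DD t u, a ∈ K := fun a ha => Subgroup.subset_closure (Or.inl (Or.inr ha))
  have hu : u ∈ K := Subgroup.subset_closure (Or.inr rfl)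
  have hN : ∀ n ∈ NN t, n ∈ K := by
    intro n hn
    obtain ⟨c, hc, h⟩ := C.N_eq hn
    have : n = c * (c⁻¹ * n) := by group
    rw [this]
    exact mul_mem (hD c hc) (hA _ h)
  rw [eq_top_iff]
  intro g _
  by_cases hg : g ∈ NN t
  · exact hN g hg
  · have h1 : g • oI t ≠ oI t := fun h => hg (fix_oI.1 h)
    obtain ⟨a, ha, e⟩ := C.T_trans hd hd1 _ h1
    rw [o0, oI, smul_mk, smul_mk, mul_one, QuotientGroup.eq] at e
    have : g = a * u * ((a * u)⁻¹ * g) := by group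
    rw [this]
    exact mul_mem (mul_mem (hA a ha) hu) (hN _ e)

end Ctx2T

theorem main_TI {t u s : G} (C2 : Ctx2T t u) (hs : s ∈ Cn t) (hs1 : s ≠ 1) (hss : s * s = 1)
    (hst : s ≠ t) :
    ∃ (F : Type) (_ : Field F) (_ : Fintype F) (f : ℕ), 2 ≤ f ∧ Fintype.card F = 2 ^ f ∧
      Nonempty (G ≃* Matrix.ProjectiveSpecialLinearGroup (Fin 2) F) := by
  classical
  have C : Ctx t := C2.toCtx'
  have ht1 := C.t1
  have htt := C.tt
  have huu := C2.uu
  obtain ⟨d, hd, hdt, -⟩ := C2.exists_D' hs hs1 hss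
  have hd1 : d ≠ 1 := by
    intro h
    rw [h] at hdt
    apply hst
    rw [← hdt]
    group
  haveI := C2.faithful
  obtain ⟨F, iF, iFt, hcard, ⟨φ⟩⟩ := Cfsg.Agent.Lib.Helper19.zassenhaus_core (G := G)
    (X := G ⧸ NN t) (Cn t) (DD t u) u (oI t) (o0 t u) C2.o0_ne
    (fun a ha b hb => (C.comm ha hb).eq)
    (fun a ha => fix_oI.2 (Ctx.A_le_N ha))
    (fun x hx => C2.T_trans hd hd1 x hx)
    (fun a ha h0 => C2.T_free ha h0)
    (fun a ha b hb => (C2.D_comm ha hb))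
    (fun a ha => (C2.mem_DD_iff.1 ha).1)
    (fun a ha => (C2.mem_DD_iff.1 ha).2)
    (fun a ha b hb => C.conj_mem (mem_DD.1 ha).1 hb)
    t (self_mem_Cn t) ht1
    (fun b hb hb1 => C2.D_reg hd hd1 hb hb1)
    (by rw [oI, smul_mk, mul_one])
    (by rw [o0, smul_mk, huu])
    (fun a ha => C2.D_inv ha)
    (C2.gen hd hd1)
    (by
      intro x₁ x₂ x₃ y₁ y₂ y₃ h12 h13 h23 k12 k13 k23
      obtain ⟨g, g1, g2, g3⟩ := C2.three_trans' hd hd1 h12 h13 h23
      obtain ⟨k, k1, k2, k3⟩ := C2.three_trans' hd hd1 k12 k13 k23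
      refine ⟨k⁻¹ * g, ?_, ?_, ?_⟩
      · rw [mul_smul, g1, ← k1, inv_smul_smul]
      · rw [mul_smul, g2, ← k2, inv_smul_smul]
      · rw [mul_smul, g3, ← k3, inv_smul_smul])
  have hp : IsPGroup 2 (Cn t) := by
    intro a
    refine ⟨1, ?_⟩
    by_cases ha : (a : G) = 1
    · have : a = 1 := Subtype.ext ha
      rw [this, one_pow]
    · obtain ⟨c, hc, e⟩ := C2.D_reg hd hd1 a.2 ha
      apply Subtype.ext
      rw [pow_one, pow_two]
      show (a : G) * a = 1
      rw [← e]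
      calc c * t * c⁻¹ * (c * t * c⁻¹) = c * (t * t) * c⁻¹ := by group
        _ = 1 := by rw [htt]; group
  haveI : Fact (Nat.Prime 2) := ⟨Nat.prime_two⟩
  obtain ⟨f, hf⟩ := IsPGroup.iff_card.1 hp
  have hne : d * t * d⁻¹ ≠ t := by
    intro e
    apply hd1
    apply C2.D_inf_A hd
    rw [mem_Cn]
    exact mul_inv_eq_iff_eq_mul.1 e
  have hne1 : d * t * d⁻¹ ≠ 1 := by
    intro e
    apply ht1
    have : d * t = d := by simpa using mul_inv_eq_one.1 e
    simpa using this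
  have hf2 : 2 ≤ f := by
    by_contra hlt
    have hf01 : f = 0 ∨ f = 1 := by omega
    rcases hf01 with rfl | rfl
    · rw [pow_zero, Nat.card_eq_one_iff_unique] at hf
      have := hf.1.elim (⟨t, self_mem_Cn t⟩ : Cn t) 1
      exact ht1 (congrArg Subtype.val this)
    · rw [pow_one, Nat.card_eq_two_iff' (1 : Cn t)] at hf
      obtain ⟨y, -, hy⟩ := hf
      have e1 := hy (⟨t, self_mem_Cn t⟩ : Cn t) (fun e => ht1 (congrArg Subtype.val e))
      have e2 := hy (⟨d * t * d⁻¹, C.conj_mem (mem_DD.1 hd).1 (self_mem_Cn t)⟩ : Cn t)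
        (fun e => hne1 (congrArg Subtype.val e))
      exact hne (congrArg Subtype.val (e2.trans e1.symm))
  have hcF : Fintype.card F = 2 ^ f := by rw [hcard, hf]
  have hev : Even (Fintype.card F) := by
    rw [hcF]
    exact (Nat.even_pow.2 ⟨even_two, by omega⟩)
  obtain ⟨ψ⟩ := Cfsg.Agent.Lib.Helper19.nonempty_PGL_mulEquiv_PSL (F := F) hev
  exact ⟨F, iF, iFt, f, hf2, hcF, ⟨φ.trans ψ⟩⟩

end Cfsg.Agent.Lib.Helper1.IA
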