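import Mathlib
import Cfsg.Agent.Lib.Helper1.InvAb3

set_option autoImplicit false
set_option linter.style.haveILetI false
set_option linter.unusedSectionVars false

/-! In the TI situation no subgroup without involutions is transitive on the involutions. -/

namespace Cfsg.Agent.Lib.Helper1.IA

open Cfsg.Agent.Lib.Helper1.CT (Cn mem_Cn self_mem_Cn NN DD mem_DD)

variable {G : Type*} [Group G] [Finite G]

namespace Ctx2T

variable {t u : G}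

theorem A_sq (C : Ctx2T t u) {s : G} (hs : s ∈ Cn t) (hs1 : s ≠ 1) (hss : s * s = 1)
    (hst : s ≠ t) {a : G} (ha : a ∈ Cn t) : a * a = 1 := by
  obtain ⟨d, hd, hdt, -⟩ := C.exists_D' hs hs1 hss
  have hd1 : d ≠ 1 := by
    intro h
    rw [h] at hdt
    apply hst
    rw [← hdt]
    group
  by_cases ha1 : a = 1
  · rw [ha1, one_mul]
  · obtain ⟨c, hc, e⟩ := C.D_reg hd hd1 ha ha1
    rw [← e]
    exact Ctx.conj_sq C.tt

theorem no_odd_core (C : Ctx2T t u) (hA2 : ∀ a ∈ Cn t, a * a = 1) (X : Subgroup G)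
    (hodd : ∀ x ∈ X, x * x = 1 → x = 1) {x₁ : G} (h1 : x₁ ∈ X) (h1D : x₁ ∈ DD t u)
    (h11 : x₁ ≠ 1) {x₂ : G} (h2 : x₂ ∈ X) (h2t : x₂ * t * x₂⁻¹ = u * t * u⁻¹) : False := by
  set a := u⁻¹ * x₂ with ha
  have haA : a ∈ Cn t := by
    rw [mem_Cn]
    show a * t = t * a
    have e : x₂ * t = u * t * u⁻¹ * x₂ := mul_inv_eq_iff_eq_mul.1 h2t
    calc a * t = u⁻¹ * (x₂ * t) := by rw [ha]; group
      _ = u⁻¹ * (u * t * u⁻¹ * x₂) := by rw [e]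
      _ = t * a := by rw [ha]; group
  have hx2 : x₂ = u * a := by rw [ha]; group
  have hinv := C.D_inv h1D
  have hy : x₂⁻¹ * x₁ * x₂ * x₁ = a⁻¹ * (x₁⁻¹ * a * x₁⁻¹⁻¹) := by
    have e : u⁻¹ * x₁ * u = x₁⁻¹ := by
      have := hinv
      rw [C.uinv] at this ⊢
      exact this
    calc x₂⁻¹ * x₁ * x₂ * x₁ = a⁻¹ * (u⁻¹ * x₁ * u) * a * x₁ := by rw [hx2]; group
      _ = a⁻¹ * (x₁⁻¹ * a * x₁⁻¹⁻¹) := by rw [e]; group
  have hyX : x₂⁻¹ * x₁ * x₂ * x₁ ∈ X := mul_mem (mul_mem (mul_mem (inv_mem h2) h1) h2) h1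
  have hyA : x₂⁻¹ * x₁ * x₂ * x₁ ∈ Cn t := by
    rw [hy]
    exact mul_mem (inv_mem haA) (C.toCtx'.conj_mem (inv_mem (mem_DD.1 h1D).1) haA)
  have hy1 := hodd _ hyX (hA2 _ hyA)
  rw [hy] at hy1
  have hc : a * x₁ = x₁ * a := by
    have e : x₁⁻¹ * a * x₁⁻¹⁻¹ = a := by
      have := inv_mul_eq_one.1 hy1
      exact this.symm
    calc a * x₁ = x₁ * (x₁⁻¹ * a * x₁⁻¹⁻¹) := by group
      _ = x₁ * a := by rw [e]
  have ha1 := C.A_free h1D h11 haA hc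
  rw [ha1, mul_one] at hx2
  rw [hx2] at h2
  exact C.toCtx2.u1 (hodd u h2 C.uu)

theorem no_odd_trans (C : Ctx2T t u) {s : G} (hs : s ∈ Cn t) (hs1 : s ≠ 1) (hss : s * s = 1)
    (hst : s ≠ t) (X : Subgroup G) (hodd : ∀ x ∈ X, x * x = 1 → x = 1)
    (htr : ∀ v : G, v ≠ 1 → v * v = 1 → ∃ x ∈ X, x * t * x⁻¹ = v) : False := by
  have hA2 : ∀ a ∈ Cn t, a * a = 1 := fun a ha => C.A_sq hs hs1 hss hst ha
  obtain ⟨x₁, h1, e1⟩ := htr s hs1 hss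
  have h1N : x₁ ∈ NN t := C.toCtx'.mem_N_of (self_mem_Cn t) C.t1 C.tt (by rw [e1]; exact hs)
  obtain ⟨d, hd, hda⟩ := C.N_eq h1N
  set a := d⁻¹ * x₁ with ha
  have hx1 : x₁ = d * a := by rw [ha]; group
  have hd1 : d ≠ 1 := by
    intro h
    apply hst
    rw [← e1]
    have : x₁ ∈ Cn t := by rw [hx1, h, one_mul]; exact hda
    have hc : x₁ * t = t * x₁ := (mem_Cn.1 this).eq
    rw [hc]; group
  have hdN := (mem_DD.1 hd).1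
  let ψ : Cn t → Cn t := fun b => ⟨d⁻¹ * b * d⁻¹⁻¹ * (b : G)⁻¹,
    mul_mem (C.toCtx'.conj_mem (inv_mem hdN) b.2) (inv_mem b.2)⟩
  have hψ : Function.Injective ψ := by
    intro b b' hbb
    have h := congrArg Subtype.val hbb
    change d⁻¹ * (b : G) * d⁻¹⁻¹ * (b : G)⁻¹ = d⁻¹ * (b' : G) * d⁻¹⁻¹ * (b' : G)⁻¹ at h
    have hc : ((b' : G)⁻¹ * b) * d = d * ((b' : G)⁻¹ * b) := by
      have h2 : (d⁻¹ * (b' : G) * d⁻¹⁻¹)⁻¹ * (d⁻¹ * (b : G) * d⁻¹⁻¹) = (b' : G)⁻¹ * b := by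
        calc (d⁻¹ * (b' : G) * d⁻¹⁻¹)⁻¹ * (d⁻¹ * (b : G) * d⁻¹⁻¹)
            = (d⁻¹ * (b' : G) * d⁻¹⁻¹)⁻¹ * (d⁻¹ * (b : G) * d⁻¹⁻¹ * (b : G)⁻¹) * b := by group
          _ = (d⁻¹ * (b' : G) * d⁻¹⁻¹)⁻¹ * (d⁻¹ * (b' : G) * d⁻¹⁻¹ * (b' : G)⁻¹) * b := by rw [h]
          _ = (b' : G)⁻¹ * b := by group
      calc ((b' : G)⁻¹ * b) * d = d * ((d⁻¹ * (b' : G) * d⁻¹⁻¹)⁻¹ * (d⁻¹ * (b : G) * d⁻¹⁻¹)) := by
            group
        _ = d * ((b' : G)⁻¹ * b) := by rw [h2]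
    have := C.A_free hd hd1 (mul_mem (inv_mem b'.2) b.2) hc
    exact Subtype.ext (inv_mul_eq_one.1 this).symm
  obtain ⟨a', ha'⟩ := Finite.surjective_of_injective hψ ⟨a⁻¹, inv_mem hda⟩
  have ha'' : d⁻¹ * (a' : G) * d⁻¹⁻¹ * (a' : G)⁻¹ = a⁻¹ := congrArg Subtype.val ha'
  have hconj : (a' : G) * x₁ * (a' : G)⁻¹ = d := by
    have hcm : a * (a' : G)⁻¹ = (a' : G)⁻¹ * a := (C.toCtx'.comm hda (inv_mem a'.2)).eq
    calc (a' : G) * x₁ * (a' : G)⁻¹ = d * (d⁻¹ * (a' : G) * d⁻¹⁻¹) * (a * (a' : G)⁻¹) := by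
          rw [hx1]; group
      _ = d * (d⁻¹ * (a' : G) * d⁻¹⁻¹ * (a' : G)⁻¹) * a := by rw [hcm]; group
      _ = d := by rw [ha'']; group
  have hx1' : x₁ = (a' : G)⁻¹ * d * a' := by rw [← hconj]; group
  have ha'N : (a' : G) ∈ NN t := Ctx.A_le_N a'.2
  set u' := (a' : G)⁻¹ * u * (a' : G)⁻¹⁻¹ with hu'
  have C' : Ctx2T t u' :=
    { hi := C.hi
      t1 := C.t1
      tt := C.tt
      uu := Ctx.conj_sq C.uu
      uN := by
        intro h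
        apply C.uN
        have : u = (a' : G) * u' * (a' : G)⁻¹ := by rw [hu']; group
        rw [this]
        exact mul_mem (mul_mem ha'N h) (inv_mem ha'N)
      ti := C.ti }
  have h1D : x₁ ∈ DD t u' := by
    refine mem_DD.2 ⟨h1N, ?_⟩
    have : u' * x₁ * u'⁻¹ = (a' : G)⁻¹ * (u * d * u⁻¹) * a' := by
      rw [hu', hx1']; group
    rw [this]
    exact mul_mem (mul_mem (inv_mem ha'N) (mem_DD.1 hd).2) ha'N
  have h11 : x₁ ≠ 1 := by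
    intro h
    apply hd1
    rw [← hconj, h]; group
  obtain ⟨x₂, h2, e2⟩ := htr (u' * t * u'⁻¹) (Ctx.conj_ne_one C.t1) (Ctx.conj_sq C.tt)
  exact C'.no_odd_core hA2 X hodd h1 h1D h11 h2 e2

end Ctx2T

end Cfsg.Agent.Lib.Helper1.IA
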