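import Mathlib
import Cfsg.Agent.Lib.Helper1.InvAb4

set_option autoImplicit false
set_option linter.style.haveILetI false
set_option linter.unusedSectionVars false

/-! Passing to the quotient by the centre. -/

namespace Cfsg.Agent.Lib.Helper1.IA

open Cfsg.Agent.Lib.Helper1.CT (Cn mem_Cn self_mem_Cn NN DD mem_DD)

variable {G : Type*} [Group G] [Finite G]

namespace Ctx2

variable {t u : G}

theorem center_sq (C : Ctx2 t u) {z : G} (hz : z ∈ Subgroup.center G) (hzz : z * z = 1) :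
    z = 1 := by
  by_contra hz1
  have hzA : z ∈ Cn t := mem_Cn.2 ((Subgroup.mem_center_iff.1 hz t).symm)
  have h := C.toCtx.Cn_eq hzA hz1 hzz
  apply C.uN
  apply Ctx.A_le_N
  rw [← h]
  exact mem_Cn.2 (Subgroup.mem_center_iff.1 hz u)

theorem exists_odd (C : Ctx2 t u) : ∃ m : ℕ, ∀ z ∈ Subgroup.center G, z ^ (2 * m + 1) = 1 := by
  have hodd : Odd (Nat.card (Subgroup.center G)) := by
    by_contra hne
    rw [Nat.not_odd_iff_even, even_iff_two_dvd] at hne
    haveI : Fact (Nat.Prime 2) := ⟨Nat.prime_two⟩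
    obtain ⟨x, hx⟩ := exists_prime_orderOf_dvd_card' 2 hne
    have h1 : x ^ 2 = 1 := by rw [← hx]; exact pow_orderOf_eq_one x
    have h2 : (x : G) * x = 1 := by
      have := congrArg Subtype.val h1
      rw [pow_two] at this
      exact this
    have h3 := C.center_sq x.2 h2
    have h4 : x = 1 := Subtype.ext h3
    rw [h4, orderOf_one] at hx
    omega
  obtain ⟨m, hm⟩ := hodd
  refine ⟨m, fun z hz => ?_⟩
  have : (⟨z, hz⟩ : Subgroup.center G) ^ (2 * m + 1) = 1 := by
    rw [← hm]; exact pow_card_eq_one'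
  exact congrArg Subtype.val this

variable {Q : Type*} [Group Q] (π : G →* Q)

theorem pow_odd_of_sq {H : Type*} [Group H] {x : H} (h : x * x = 1) (m : ℕ) :
    x ^ (2 * m + 1) = x := by
  rw [pow_succ, pow_mul, pow_two, h, one_pow, one_mul]

theorem lift_invol (C : Ctx2 t u) (hπ : Function.Surjective π)
    (hker : ∀ z, π z = 1 ↔ z ∈ Subgroup.center G) {z' : Q} (h1 : z' ≠ 1) (h2 : z' * z' = 1) :
    ∃ z : G, π z = z' ∧ z ≠ 1 ∧ z * z = 1 := by
  obtain ⟨m, hm⟩ := C.exists_odd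
  obtain ⟨z₀, rfl⟩ := hπ z'
  have hc : z₀ * z₀ ∈ Subgroup.center G := by
    rw [← hker, map_mul, h2]
  have e : π (z₀ ^ (2 * m + 1)) = π z₀ := by
    rw [map_pow, pow_odd_of_sq h2]
  refine ⟨z₀ ^ (2 * m + 1), e, ?_, ?_⟩
  · intro h
    rw [h, map_one] at e
    exact h1 e.symm
  · rw [← (Commute.refl z₀).mul_pow]
    exact hm _ hc

theorem comm_of_map (C : Ctx2 t u) (hker : ∀ z, π z = 1 ↔ z ∈ Subgroup.center G) {z a : G}
    (hzz : z * z = 1) : π a ∈ Cn (π z) ↔ a ∈ Cn z := by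
  constructor
  · intro h
    have h' : π a * π z = π z * π a := (mem_Cn.1 h).eq
    set c := a * z * a⁻¹ * z⁻¹ with hc
    have hcc : c ∈ Subgroup.center G := by
      rw [← hker, hc, map_mul, map_mul, map_mul, h', map_inv, map_inv]
      group
    have e : a * z * a⁻¹ = c * z := by rw [hc]; group
    have hsq : c * c = 1 := by
      have h3 : a * z * a⁻¹ * (a * z * a⁻¹) = 1 := Ctx.conj_sq hzz
      rw [e] at h3
      have h4 : z * c = c * z := Subgroup.mem_center_iff.1 hcc z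
      calc c * c = c * c * (z * z) := by rw [hzz, mul_one]
        _ = c * (c * z) * z := by group
        _ = c * (z * c) * z := by rw [h4]
        _ = c * z * (c * z) := by group
        _ = 1 := h3
    have hc1 := C.center_sq hcc hsq
    rw [hc1, one_mul] at e
    exact mem_Cn.2 (mul_inv_eq_iff_eq_mul.1 e)
  · intro h
    have h' : a * z = z * a := (mem_Cn.1 h).eq
    rw [mem_Cn]
    show π a * π z = π z * π a
    rw [← map_mul, ← map_mul, h']

theorem map_HI (C : Ctx2 t u) (hπ : Function.Surjective π)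
    (hker : ∀ z, π z = 1 ↔ z ∈ Subgroup.center G) : HI Q := by
  intro z' a' b' h1 h2 ha hb
  obtain ⟨z, rfl, hz1, hzz⟩ := C.lift_invol π hπ hker h1 h2
  obtain ⟨a, rfl⟩ := hπ a'
  obtain ⟨b, rfl⟩ := hπ b'
  have ha' := (C.comm_of_map π hker hzz).1 (mem_Cn.2 ha)
  have hb' := (C.comm_of_map π hker hzz).1 (mem_Cn.2 hb)
  have := C.hi z a b hz1 hzz (mem_Cn.1 ha') (mem_Cn.1 hb')
  exact this.map π

theorem map_ne_one (C : Ctx2 t u) (hker : ∀ z, π z = 1 ↔ z ∈ Subgroup.center G) {z : G}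
    (hz1 : z ≠ 1) (hzz : z * z = 1) : π z ≠ 1 := by
  intro h
  exact hz1 (C.center_sq ((hker z).1 h) hzz)

theorem map_Ctx2 (C : Ctx2 t u) (hπ : Function.Surjective π)
    (hker : ∀ z, π z = 1 ↔ z ∈ Subgroup.center G) : Ctx2 (π t) (π u) :=
  { hi := C.map_HI π hπ hker
    t1 := C.map_ne_one π hker C.t1 C.tt
    tt := by rw [← map_mul, C.tt, map_one]
    uu := by rw [← map_mul, C.uu, map_one]
    uN := by
      intro h
      have h1 := (Subgroup.mem_normalizer_iff.1 h (π t)).1 (self_mem_Cn _)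
      rw [← map_inv, ← map_mul, ← map_mul] at h1
      have h2 := (C.comm_of_map π hker C.tt).1 h1
      exact C.uN (C.toCtx.mem_N_of (self_mem_Cn t) C.t1 C.tt h2) }

theorem map_Ctx2T (C : Ctx2 t u) (hπ : Function.Surjective π)
    (hker : ∀ z, π z = 1 ↔ z ∈ Subgroup.center G)
    (htiz : ∀ a ∈ Cn t, ∀ g : G, g ∉ NN t → g * a * g⁻¹ ∈ Cn t → a ∈ Subgroup.center G) :
    Ctx2T (π t) (π u) :=
  { C.map_Ctx2 π hπ hker with
    ti := by
      intro a' ha' ha'1 g' hg'
      obtain ⟨a, rfl⟩ := hπ a'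
      obtain ⟨g, rfl⟩ := hπ g'
      have ha := (C.comm_of_map π hker C.tt).1 ha'
      rw [← map_inv, ← map_mul, ← map_mul] at hg'
      have hg := (C.comm_of_map π hker C.tt).1 hg'
      have hgN : g ∈ NN t := by
        by_contra hgN
        exact ha'1 ((hker a).2 (htiz a ha g hgN hg))
      rw [Subgroup.mem_normalizer_iff]
      intro x'
      obtain ⟨x, rfl⟩ := hπ x'
      rw [← map_inv, ← map_mul, ← map_mul]
      change π x ∈ Cn (π t) ↔ π (g * x * g⁻¹) ∈ Cn (π t)
      rw [C.comm_of_map π hker C.tt, C.comm_of_map π hker C.tt]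
      exact Subgroup.mem_normalizer_iff.1 hgN x }

theorem map_ne (C : Ctx2 t u) (hker : ∀ z, π z = 1 ↔ z ∈ Subgroup.center G) {s : G}
    (hs : s ∈ Cn t) (hss : s * s = 1) (hst : s ≠ t) : π s ≠ π t := by
  intro h
  have h1 : π (s * t) = 1 := by
    rw [map_mul, h, ← map_mul, C.tt, map_one]
  have hc : s * t = t * s := (mem_Cn.1 hs).eq
  have h2 : s * t * (s * t) = 1 := by
    calc s * t * (s * t) = s * (t * s) * t := by group
      _ = s * (s * t) * t := by rw [hc]
      _ = (s * s) * (t * t) := by group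
      _ = 1 := by rw [hss, C.tt, one_mul]
  have h3 := C.center_sq ((hker _).1 h1) h2
  apply hst
  have : s = t⁻¹ := eq_inv_of_mul_eq_one_left h3
  rw [this, C.toCtx.tinv]

/-- TI modulo the centre: no subgroup without involutions is transitive on the involutions -/
theorem no_odd_trans (C : Ctx2 t u)
    (htiz : ∀ a ∈ Cn t, ∀ g : G, g ∉ NN t → g * a * g⁻¹ ∈ Cn t → a ∈ Subgroup.center G)
    {s : G} (hs : s ∈ Cn t) (hs1 : s ≠ 1) (hss : s * s = 1)
    (hst : s ≠ t) (X : Subgroup G) (hodd : ∀ x ∈ X, x * x = 1 → x = 1)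
    (htr : ∀ v : G, v ≠ 1 → v * v = 1 → ∃ x ∈ X, x * t * x⁻¹ = v) : False := by
  set π := QuotientGroup.mk' (Subgroup.center G) with hπdef
  have hπ : Function.Surjective π := QuotientGroup.mk'_surjective _
  have hker : ∀ z, π z = 1 ↔ z ∈ Subgroup.center G := fun z => QuotientGroup.eq_one_iff z
  have CT := C.map_Ctx2T π hπ hker htiz
  obtain ⟨m, hm⟩ := C.exists_odd
  refine CT.no_odd_trans ((C.comm_of_map π hker C.tt).2 hs) (C.map_ne_one π hker hs1 hss)
    (by rw [← map_mul, hss, map_one]) (C.map_ne π hker hs hss hst) (X.map π) ?_ ?_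
  · rintro _ ⟨x, hx, rfl⟩ h
    have hc : x * x ∈ Subgroup.center G := by rw [← hker, map_mul, h]
    have h1 : x ^ (2 * m + 1) * x ^ (2 * m + 1) = 1 := by
      rw [← (Commute.refl x).mul_pow]
      exact hm _ hc
    have h2 := hodd _ (pow_mem hx _) h1
    rw [← pow_odd_of_sq h m, ← map_pow, h2, map_one]
  · intro v' hv1 hvv
    obtain ⟨v, rfl, h1, h2⟩ := C.lift_invol π hπ hker hv1 hvv
    obtain ⟨x, hx, e⟩ := htr v h1 h2
    exact ⟨π x, ⟨x, hx, rfl⟩, by rw [← map_inv, ← map_mul, ← map_mul, e]⟩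

end Ctx2

end Cfsg.Agent.Lib.Helper1.IA
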