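import Mathlib
import Cfsg.Agent.Lib.Helper1.InvAb5

set_option autoImplicit false
set_option linter.style.haveILetI false
set_option linter.unusedSectionVars false

/-! `C(t)` is a TI-subgroup modulo the centre (induction; strongly embedded centralisers). -/

namespace Cfsg.Agent.Lib.Helper1.IA

open Cfsg.Agent.Lib.Helper1.CT (Cn mem_Cn self_mem_Cn NN DD mem_DD)

universe v

theorem HI.subgroup {G : Type*} [Group G] (h : HI G) (H : Subgroup G) : HI H := by
  intro z a b hz1 hzz ha hb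
  have h1 : (z : G) ≠ 1 := fun e => hz1 (Subtype.ext e)
  have h2 : (z : G) * z = 1 := congrArg Subtype.val hzz
  have h3 : Commute (a : G) z := congrArg Subtype.val ha.eq
  have h4 : Commute (b : G) z := congrArg Subtype.val hb.eq
  exact Subtype.ext (h z a b h1 h2 h3 h4).eq

/-- the property to be proved -/
def TIZ (G : Type v) [Group G] : Prop :=
  ∀ t u s : G, Ctx2 t u → s ∈ Cn t → s ≠ 1 → s * s = 1 → s ≠ t →
    ∀ a ∈ Cn t, ∀ g : G, g ∉ NN t → g * a * g⁻¹ ∈ Cn t → a ∈ Subgroup.center G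

theorem tiz_step {G : Type v} [Group G] [Finite G] {t u s : G} (C : Ctx2 t u) (hs : s ∈ Cn t)
    (hs1 : s ≠ 1) (hss : s * s = 1) (hst : s ≠ t) {w : G} (hw : w ∈ Cn t) {g : G}
    (hg : g ∉ NN t) (hgw : g * w * g⁻¹ ∈ Cn t) (hM : TIZ (Cn w)) : w ∈ Subgroup.center G := by
  have hi := C.hi
  set M := Cn w with hMdef
  have htM : t ∈ M := mem_Cn.2 (mem_Cn.1 hw).symm
  set t₂ := g⁻¹ * t * g⁻¹⁻¹ with ht₂
  have ht₂1 : t₂ ≠ 1 := Ctx.conj_ne_one C.t1
  have ht₂s : t₂ * t₂ = 1 := Ctx.conj_sq C.tt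
  have ht₂M : t₂ ∈ M := by
    rw [hMdef, mem_Cn]
    have e : g * w * g⁻¹ * t = t * (g * w * g⁻¹) := (mem_Cn.1 hgw).eq
    show t₂ * w = w * t₂
    calc t₂ * w = g⁻¹ * (t * (g * w * g⁻¹)) * g := by rw [ht₂]; group
      _ = g⁻¹ * (g * w * g⁻¹ * t) * g := by rw [e]
      _ = w * t₂ := by rw [ht₂]; group
  have ht₂A : ¬ Commute t₂ t := by
    intro h
    apply hg
    have := C.toCtx.mem_N_of (self_mem_Cn t) C.t1 C.tt (g := g⁻¹) (mem_Cn.2 h)
    simpa using inv_mem this
  obtain ⟨u', hu's, hu't, hu'c⟩ := exists_invol_conj hi C.tt ht₂s ht₂A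
  have hu'M : u' ∈ M := by
    have : Subgroup.closure {t, t₂} ≤ M := by
      rw [Subgroup.closure_le]
      rintro x (rfl | rfl)
      · exact htM
      · exact ht₂M
    exact this hu'c
  -- (a)
  have hCle : ∀ r ∈ M, r ≠ 1 → r * r = 1 → Cn r ≤ M := by
    intro r hr hr1 hrr y hy
    exact mem_Cn.2 (hi r y w hr1 hrr (mem_Cn.1 hy) (mem_Cn.1 hr).symm)
  have hAM : Cn t ≤ M := hCle t htM C.t1 C.tt
  -- (b)
  have hconj : ∀ r ∈ M, r ≠ 1 → r * r = 1 → ∃ m ∈ M, m * t * m⁻¹ = r := by
    intro r hr hr1 hrr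
    by_cases hc : Commute r t
    · have hc2 : ¬ Commute r t₂ := by
        intro h
        exact ht₂A (hi r t₂ t hr1 hrr h.symm hc.symm)
      obtain ⟨y, -, hy, hyc⟩ := exists_invol_conj hi ht₂s hrr hc2
      have hyM : y ∈ M := by
        have : Subgroup.closure {t₂, r} ≤ M := by
          rw [Subgroup.closure_le]
          rintro x (rfl | rfl)
          · exact ht₂M
          · exact hr
        exact this hyc
      refine ⟨y * u', mul_mem hyM hu'M, ?_⟩
      calc y * u' * t * (y * u')⁻¹ = y * (u' * t * u'⁻¹) * y⁻¹ := by group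
        _ = r := by rw [hu't, hy]
    · obtain ⟨y, -, hy, hyc⟩ := exists_invol_conj hi C.tt hrr hc
      have hyM : y ∈ M := by
        have : Subgroup.closure {t, r} ≤ M := by
          rw [Subgroup.closure_le]
          rintro x (rfl | rfl)
          · exact htM
          · exact hr
        exact this hyc
      exact ⟨y, hyM, hy⟩
  -- all involutions lie in `M`
  have hall : ∀ v : G, v * v = 1 → v ∈ M := by
    intro v hvv
    by_contra hvM
    have hvinv : v⁻¹ = v := inv_eq_of_mul_eq_one_left hvv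
    -- (c)
    have hc : ∀ r ∈ M, r ≠ 1 → r * r = 1 → v * r * v⁻¹ ∉ M := by
      intro r hr hr1 hrr hr'
      obtain ⟨m, hm, e⟩ := hconj r hr hr1 hrr
      obtain ⟨m', hm', e'⟩ := hconj _ hr' (Ctx.conj_ne_one hr1) (Ctx.conj_sq hrr)
      have h1 : m'⁻¹ * v * m ∈ Cn t := by
        rw [mem_Cn]
        show m'⁻¹ * v * m * t = t * (m'⁻¹ * v * m)
        have e2 : m' * t = v * r * v⁻¹ * m' := mul_inv_eq_iff_eq_mul.1 e'
        have e3 : m * t = r * m := mul_inv_eq_iff_eq_mul.1 e
        calc m'⁻¹ * v * m * t = m'⁻¹ * v * (m * t) := by group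
          _ = m'⁻¹ * v * (r * m) := by rw [e3]
          _ = m'⁻¹ * (v * r * v⁻¹ * m') * (m'⁻¹ * v * m) := by group
          _ = m'⁻¹ * (m' * t) * (m'⁻¹ * v * m) := by rw [e2]
          _ = t * (m'⁻¹ * v * m) := by group
      apply hvM
      have : v = m' * (m'⁻¹ * v * m) * m⁻¹ := by group
      rw [this]
      exact mul_mem (mul_mem hm' (hAM h1)) (inv_mem hm)
    have CM : Ctx2 (⟨t, htM⟩ : M) ⟨u', hu'M⟩ :=
      { hi := hi.subgroup M
        t1 := fun e => C.t1 (congrArg Subtype.val e)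
        tt := Subtype.ext C.tt
        uu := Subtype.ext hu's
        uN := by
          intro h
          have h1 := (Subgroup.mem_normalizer_iff.1 h (⟨t, htM⟩ : M)).1 (self_mem_Cn _)
          have h2 := congrArg Subtype.val (mem_Cn.1 h1).eq
          apply ht₂A
          rw [← hu't]
          exact h2 }
    let X : Subgroup M := (M.comap (MulAut.conj v).toMonoidHom).subgroupOf M
    have hX : ∀ x : M, x ∈ X ↔ v * x * v⁻¹ ∈ M := by
      intro x
      rw [Subgroup.mem_subgroupOf, Subgroup.mem_comap]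
      rfl
    refine CM.no_odd_trans (hM _ _ ⟨s, hAM hs⟩ CM
      (mem_Cn.2 (Subtype.ext (mem_Cn.1 hs).eq)) (fun e => hs1 (congrArg Subtype.val e))
      (Subtype.ext hss) (fun e => hst (congrArg Subtype.val e)))
      (s := ⟨s, hAM hs⟩)
      (mem_Cn.2 (Subtype.ext (mem_Cn.1 hs).eq)) (fun e => hs1 (congrArg Subtype.val e))
      (Subtype.ext hss) (fun e => hst (congrArg Subtype.val e)) X ?_ ?_
    · intro x hx hxx
      by_contra hx1
      exact hc x x.2 (fun e => hx1 (Subtype.ext e)) (congrArg Subtype.val hxx) ((hX x).1 hx)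
    · intro r hr1 hrr
      have hr1' : (r : G) ≠ 1 := fun e => hr1 (Subtype.ext e)
      have hrr' : (r : G) * r = 1 := congrArg Subtype.val hrr
      have h1 : v * t * v⁻¹ ∉ M := hc t htM C.t1 C.tt
      have h2 : ¬ Commute (r : G) (v * t * v⁻¹) := by
        intro h
        exact h1 (hCle r r.2 hr1' hrr' (mem_Cn.2 h.symm))
      obtain ⟨y, hyy, hy, -⟩ := exists_invol_conj hi (Ctx.conj_sq C.tt) hrr' h2
      have hyinv : y⁻¹ = y := inv_eq_of_mul_eq_one_left hyy
      have e1 : y * v * t * (y * v)⁻¹ = r := by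
        calc y * v * t * (y * v)⁻¹ = y * (v * t * v⁻¹) * y⁻¹ := by group
          _ = r := hy
      obtain ⟨m, hm, e⟩ := hconj r r.2 hr1' hrr'
      have h3 : m⁻¹ * (y * v) ∈ Cn t := by
        rw [mem_Cn]
        show m⁻¹ * (y * v) * t = t * (m⁻¹ * (y * v))
        have e2 : y * v * t = r * (y * v) := mul_inv_eq_iff_eq_mul.1 e1
        have e3 : m * t = r * m := mul_inv_eq_iff_eq_mul.1 e
        calc m⁻¹ * (y * v) * t = m⁻¹ * (y * v * t) := by group
          _ = m⁻¹ * (r * (y * v)) := by rw [e2]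
          _ = m⁻¹ * (r * m) * (m⁻¹ * (y * v)) := by group
          _ = m⁻¹ * (m * t) * (m⁻¹ * (y * v)) := by rw [e3]
          _ = t * (m⁻¹ * (y * v)) := by group
      have hxM : y * v ∈ M := by
        have : y * v = m * (m⁻¹ * (y * v)) := by group
        rw [this]
        exact mul_mem hm (hAM h3)
      refine ⟨⟨y * v, hxM⟩, ?_, Subtype.ext e1⟩
      rw [hX]
      have : v * (y * v) * v⁻¹ = (y * v)⁻¹ := by
        rw [mul_inv_rev, hyinv, hvinv]
        calc v * (y * v) * v = v * y * (v * v) := by group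
          _ = v * y := by rw [hvv, mul_one]
      show v * (y * v) * v⁻¹ ∈ M
      rw [this]
      exact inv_mem hxM
  have htop : ∀ x : G, x ∈ M := by
    intro x
    by_cases hx : x ∈ NN t
    · obtain ⟨y, hyy, -, h⟩ := C.N_eq hx
      have : x = u * y * ((u * y)⁻¹ * x) := by group
      rw [this]
      exact mul_mem (mul_mem (hall u C.uu) (hall y hyy)) (hAM h)
    · obtain ⟨y, hyy, -, h, -⟩ := C.toCtx.exists_invol_coset hx
      have : x = y * (x⁻¹ * y)⁻¹ := by group
      rw [this]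
      exact mul_mem (hall y hyy) (inv_mem (hAM h))
  rw [Subgroup.mem_center_iff]
  intro x
  exact (mem_Cn.1 (htop x)).eq

theorem tiz_aux (n : ℕ) : ∀ (G : Type v) [Group G] [Finite G], Nat.card G = n → TIZ G := by
  induction n using Nat.strong_induction_on with
  | _ n ih =>
    intro G _ _ hn t u s C hs hs1 hss hst w hw g hg hgw
    by_cases htop : Cn w = ⊤
    · rw [Subgroup.mem_center_iff]
      intro x
      have : x ∈ Cn w := by rw [htop]; exact Subgroup.mem_top x
      exact (mem_Cn.1 this).eq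
    · have hlt : Nat.card (Cn w) < n := by
        rw [← hn]
        by_contra hge
        exact htop (Subgroup.eq_top_of_le_card _ (not_lt.1 hge))
      exact tiz_step C hs hs1 hss hst hw hg hgw (ih _ hlt (Cn w) rfl)

theorem tiz (G : Type v) [Group G] [Finite G] : TIZ G := tiz_aux _ G rfl

end Cfsg.Agent.Lib.Helper1.IA
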