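import Mathlib
import Cfsg.Agent.Lib.Helper1.InvAb6
import Cfsg.Agent.Lib.Helper1.CTGroup3
import Cfsg.Agent.Lib.Helper5.SL2Sylow
import Cfsg.Agent.S0102

set_option autoImplicit false
set_option linter.style.haveILetI false
set_option linter.unusedSectionVars false

/-! Splitting of an odd central extension of a perfect group with cyclic odd Sylow subgroups. -/

namespace Cfsg.Agent.Lib.Helper1.IA

open Cfsg.Agent.Lib.Helper1.CT (Cn mem_Cn self_mem_Cn NN DD mem_DD)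
open scoped commutatorElement

theorem split_of_central {G S : Type*} [Group G] [Finite G] [Group S] [Finite S] (p : G →* S)
    (hp : Function.Surjective p) (hker : ∀ z, p z = 1 ↔ z ∈ Subgroup.center G)
    (hS : commutator S = ⊤) (hodd : Odd (Nat.card (Subgroup.center G)))
    (hcyc : ∀ (r : ℕ) [Fact r.Prime], r ≠ 2 → ∀ R : Sylow r S, IsCyclic R) :
    Nonempty (G ≃* S × Subgroup.center G) := by
  set H := commutator G with hH
  set Z := Subgroup.center G with hZ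
  let σ : H →* S := p.comp H.subtype
  have hmap : H.map p = ⊤ := by
    rw [hH, commutator_def, Subgroup.map_commutator, ← MonoidHom.range_eq_map,
      MonoidHom.range_eq_top.2 hp, ← commutator_def, hS]
  have hσ : Function.Surjective σ := by
    intro y
    have : y ∈ H.map p := by rw [hmap]; exact Subgroup.mem_top y
    obtain ⟨x, hx, e⟩ := this
    exact ⟨⟨x, hx⟩, e⟩
  have hdec : ∀ g : G, ∃ h ∈ H, h⁻¹ * g ∈ Z := by
    intro g
    obtain ⟨h, e⟩ := hσ (p g)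
    refine ⟨h, h.2, ?_⟩
    rw [← hker, map_mul, map_inv]
    have : p (h : G) = p g := e
    rw [this, inv_mul_cancel]
  have hz : σ.ker ≤ Subgroup.center H := by
    intro x hx
    have h1 : p (x : G) = 1 := hx
    have h2 := (hker _).1 h1
    rw [Subgroup.mem_center_iff]
    intro y
    exact Subtype.ext (Subgroup.mem_center_iff.1 h2 y)
  have hHH : ⁅H, H⁆ = H := by
    apply le_antisymm
    · exact Subgroup.commutator_le_left H H
    · conv_lhs => rw [hH, commutator_def]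
      rw [Subgroup.commutator_le]
      intro g₁ _ g₂ _
      obtain ⟨h₁, hh₁, hz₁⟩ := hdec g₁
      obtain ⟨h₂, hh₂, hz₂⟩ := hdec g₂
      have c₁ := Subgroup.mem_center_iff.1 hz₁
      have c₂ := Subgroup.mem_center_iff.1 hz₂
      set z₁ := h₁⁻¹ * g₁ with hz₁d
      set z₂ := h₂⁻¹ * g₂ with hz₂d
      have e₁ : g₁ = h₁ * z₁ := by rw [hz₁d]; group
      have e₂ : g₂ = h₂ * z₂ := by rw [hz₂d]; group
      have : ⁅g₁, g₂⁆ = ⁅h₁, h₂⁆ := by
        rw [commutatorElement_def, commutatorElement_def, e₁, e₂]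
        calc h₁ * z₁ * (h₂ * z₂) * (h₁ * z₁)⁻¹ * (h₂ * z₂)⁻¹
            = h₁ * (z₁ * (h₂ * z₂ * z₁⁻¹ * h₁⁻¹ * z₂⁻¹ * h₂⁻¹)) := by group
          _ = h₁ * ((h₂ * z₂ * z₁⁻¹ * h₁⁻¹ * z₂⁻¹ * h₂⁻¹) * z₁) := by rw [c₁]
          _ = h₁ * h₂ * (z₂ * (z₁⁻¹ * h₁⁻¹ * z₂⁻¹ * h₂⁻¹ * z₁)) := by group
          _ = h₁ * h₂ * ((z₁⁻¹ * h₁⁻¹ * z₂⁻¹ * h₂⁻¹ * z₁) * z₂) := by rw [c₂]
          _ = h₁ * h₂ * z₁⁻¹ * h₁⁻¹ * z₂⁻¹ * (h₂⁻¹ * z₁) * z₂ := by group
          _ = h₁ * h₂ * z₁⁻¹ * h₁⁻¹ * z₂⁻¹ * (z₁ * h₂⁻¹) * z₂ := by rw [c₁]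
          _ = h₁ * h₂ * z₁⁻¹ * (h₁⁻¹ * z₂⁻¹ * z₁) * h₂⁻¹ * z₂ := by group
          _ = h₁ * h₂ * z₁⁻¹ * (z₁ * (h₁⁻¹ * z₂⁻¹)) * h₂⁻¹ * z₂ := by rw [c₁ (h₁⁻¹ * z₂⁻¹)]
          _ = h₁ * h₂ * h₁⁻¹ * z₂⁻¹ * (h₂⁻¹ * z₂) := by group
          _ = h₁ * h₂ * h₁⁻¹ * z₂⁻¹ * (z₂ * h₂⁻¹) := by rw [c₂]
          _ = h₁ * h₂ * h₁⁻¹ * h₂⁻¹ := by group
      rw [this]
      exact Subgroup.commutator_mem_commutator hh₁ hh₂
  have hperf : commutator H = ⊤ := by
    apply Subgroup.map_injective H.subtype_injective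
    rw [commutator_def, Subgroup.map_commutator, ← MonoidHom.range_eq_map, Subgroup.range_subtype,
      hHH]
  have hkerbot : σ.ker = ⊥ := by
    by_contra hne
    have hcard : Nat.card σ.ker ≠ 1 := by
      intro h
      exact hne (Subgroup.card_eq_one.1 h)
    have hdvd : Nat.card σ.ker ∣ Nat.card Z := by
      have h1 : σ.ker.map H.subtype ≤ Z := by
        rintro _ ⟨x, hx, rfl⟩
        exact (hker _).1 hx
      have h2 := Subgroup.card_dvd_of_le h1
      rwa [Subgroup.card_map_of_injective H.subtype_injective] at h2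
    set r := (Nat.card σ.ker).minFac with hr
    haveI : Fact r.Prime := ⟨Nat.minFac_prime hcard⟩
    have hrd : r ∣ Nat.card σ.ker := Nat.minFac_dvd _
    have hr2 : r ≠ 2 := by
      intro h
      have : 2 ∣ Nat.card Z := h ▸ (hrd.trans hdvd)
      exact (Nat.not_even_iff_odd.2 hodd) (even_iff_two_dvd.2 this)
    exact Cfsg.Agent.S0102.result hS (hcyc r hr2) σ hσ hz hperf hrd
  have hσi : Function.Injective σ := (MonoidHom.ker_eq_bot_iff σ).1 hkerbot
  let e1 : H ≃* S := MulEquiv.ofBijective σ ⟨hσi, hσ⟩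
  let Ψ : H × Z →* G := MonoidHom.noncommCoprod H.subtype Z.subtype
    (fun m n => (Subgroup.mem_center_iff.1 n.2 m))
  have hΨ : ∀ x : H × Z, Ψ x = (x.1 : G) * (x.2 : G) := fun x => rfl
  have hΨb : Function.Bijective Ψ := by
    constructor
    · rw [injective_iff_map_eq_one]
      rintro ⟨h, z⟩ e
      rw [hΨ] at e
      change (h : G) * (z : G) = 1 at e
      have h1 : (h : G) = (z : G)⁻¹ := eq_inv_of_mul_eq_one_left e
      have h2 : σ h = 1 := by
        show p (h : G) = 1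
        rw [hker, h1]
        exact inv_mem z.2
      have h3 : h = 1 := hσi (h2.trans (map_one σ).symm)
      have h4 : (z : G) = 1 := by
        rw [h3] at e
        simpa using e
      exact Prod.ext h3 (Subtype.ext h4)
    · intro g
      obtain ⟨h, hh, hz'⟩ := hdec g
      refine ⟨(⟨h, hh⟩, ⟨h⁻¹ * g, hz'⟩), ?_⟩
      rw [hΨ]
      show h * (h⁻¹ * g) = g
      group
  exact ⟨(MulEquiv.ofBijective Ψ hΨb).symm.trans (MulEquiv.prodCongr e1 (MulEquiv.refl Z))⟩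

end Cfsg.Agent.Lib.Helper1.IA
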