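import Mathlib
import Cfsg.Agent.Lib.Helper1.InvAb7
import Cfsg.Agent.Lib.Helper52.FPF

set_option autoImplicit false
set_option linter.style.haveILetI false
set_option linter.unusedSectionVars false

/-! Finite groups in which the centralisers of involutions are abelian. -/

namespace Cfsg.Agent.Lib.Helper1.IA

open Cfsg.Agent.Lib.Helper1.CT (Cn mem_Cn self_mem_Cn NN DD mem_DD)

variable {G : Type*} [Group G] [Finite G]

theorem Ctx2.odd_card_center {t u : G} (C : Ctx2 t u) : Odd (Nat.card (Subgroup.center G)) := by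
  by_contra hne
  rw [Nat.not_odd_iff_even, even_iff_two_dvd] at hne
  haveI : Fact (Nat.Prime 2) := ⟨Nat.prime_two⟩
  obtain ⟨x, hx⟩ := exists_prime_orderOf_dvd_card' 2 hne
  have h1 : x ^ 2 = 1 := by rw [← hx]; exact pow_orderOf_eq_one x
  have h2 : (x : G) * x = 1 := by
    have := congrArg Subtype.val h1
    rw [pow_two] at this
    exact this
  have h3 := C.center_sq x.2 h2
  have h4 : x = 1 := Subtype.ext h3
  rw [h4, orderOf_one] at hx
  omega

theorem main {t u s : G} (C : Ctx2 t u) (hs : s ∈ Cn t) (hs1 : s ≠ 1) (hss : s * s = 1)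
    (hst : s ≠ t) :
    ∃ (F : Type) (_ : Field F) (_ : Fintype F) (A : Type) (_ : CommGroup A) (_ : Finite A),
      CharP F 2 ∧ Odd (Nat.card A) ∧
        Nonempty (G ≃* Matrix.SpecialLinearGroup (Fin 2) F × A) := by
  classical
  set π := QuotientGroup.mk' (Subgroup.center G) with hπdef
  have hπ : Function.Surjective π := QuotientGroup.mk'_surjective _
  have hker : ∀ z, π z = 1 ↔ z ∈ Subgroup.center G := fun z => QuotientGroup.eq_one_iff z
  have CQ := C.map_Ctx2T π hπ hker (tiz G t u s C hs hs1 hss hst)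
  obtain ⟨F, iF, iFt, f, hf, hcard, ⟨φ⟩⟩ := main_TI CQ ((C.comm_of_map π hker C.tt).2 hs)
    (C.map_ne_one π hker hs1 hss) (by rw [← map_mul, hss, map_one]) (C.map_ne π hker hs hss hst)
  have h2 : (2 : F) = 0 := Cfsg.Agent.Lib.Helper1.CT.two_eq_zero_of_card hcard
  have hc := Cfsg.Agent.Lib.Helper1.CT.SL2_center_eq_bot h2
  haveI hchar : CharP F 2 := CharTwo.of_one_ne_zero_of_two_eq_zero one_ne_zero h2
  let e : Matrix.ProjectiveSpecialLinearGroup (Fin 2) F ≃* Matrix.SpecialLinearGroup (Fin 2) F :=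
    (QuotientGroup.quotientMulEquivOfEq hc).trans QuotientGroup.quotientBot
  let p : G →* Matrix.SpecialLinearGroup (Fin 2) F :=
    ((φ.trans e).toMonoidHom).comp π
  have hp : Function.Surjective p := (φ.trans e).surjective.comp hπ
  have hker' : ∀ z, p z = 1 ↔ z ∈ Subgroup.center G := by
    intro z
    rw [← hker]
    show (φ.trans e) (π z) = 1 ↔ _
    exact (φ.trans e).map_eq_one_iff
  obtain ⟨a, ha⟩ : ∃ a : F, a ∉ ({0, 1} : Finset F) := by
    by_contra hcon
    push Not at hcon
    have h3 : Fintype.card F ≤ ({0, 1} : Finset F).card := by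
      rw [← Finset.card_univ]
      exact Finset.card_le_card (fun x _ => hcon x)
    have h4 : ({0, 1} : Finset F).card ≤ 2 := Finset.card_le_two
    have h5 : 2 ^ 2 ≤ 2 ^ f := Nat.pow_le_pow_right (by norm_num) hf
    omega
  rw [Finset.mem_insert, Finset.mem_singleton, not_or] at ha
  have hS : commutator (Matrix.SpecialLinearGroup (Fin 2) F) = ⊤ := by
    refine Matrix.SL2.commutator_eq_top ha.1 ?_
    intro h
    rw [pow_two] at h
    exact ha.2 (Cfsg.Agent.Lib.Helper1.CT.sq_eq_one_char_two h2 h)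
  obtain ⟨ψ⟩ := split_of_central p hp hker' hS C.odd_card_center
    (fun r _ hr R => Cfsg.Agent.Lib.Helper5.sylow_SL2_isCyclic 2 r hr hr R)
  let e' : Shrink.{0} (Subgroup.center G) ≃* Subgroup.center G := Shrink.mulEquiv
  let iA : CommGroup (Shrink.{0} (Subgroup.center G)) :=
    { (inferInstance : Group (Shrink.{0} (Subgroup.center G))) with
      mul_comm := fun a b => e'.injective (by
        rw [map_mul, map_mul]
        exact Subtype.ext (Subgroup.mem_center_iff.1 (e' b).2 (e' a))) }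
  refine ⟨F, iF, iFt, Shrink.{0} (Subgroup.center G), iA, Finite.of_equiv _ e'.symm.toEquiv,
    hchar, ?_, ⟨ψ.trans (MulEquiv.prodCongr (MulEquiv.refl _) e'.symm)⟩⟩
  rw [Nat.card_congr e'.toEquiv]
  exact C.odd_card_center

theorem final (h : HI G) :
    (∀ P : Sylow 2 G, IsCyclic ↥P) ∨ (∀ P : Sylow 2 G, (P : Subgroup G).Normal) ∨
    (∃ (F : Type) (_ : Field F) (_ : Fintype F) (A : Type) (_ : CommGroup A) (_ : Finite A),
      CharP F 2 ∧ Odd (Nat.card A) ∧
        Nonempty (G ≃* Matrix.SpecialLinearGroup (Fin 2) F × A)) := by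
  classical
  haveI : Fact (Nat.Prime 2) := ⟨Nat.prime_two⟩
  by_cases hcyc : ∀ P : Sylow 2 G, IsCyclic ↥P
  · exact Or.inl hcyc
  by_cases hnor : ∀ P : Sylow 2 G, (P : Subgroup G).Normal
  · exact Or.inr (Or.inl hnor)
  refine Or.inr (Or.inr ?_)
  push Not at hcyc hnor
  obtain ⟨P₂, hP₂⟩ := hcyc
  obtain ⟨P, hPn⟩ := hnor
  have hPc : ¬ IsCyclic ↥P := by
    intro hc
    exact hP₂ (isCyclic_of_surjective (Sylow.equiv P P₂) (Sylow.equiv P P₂).surjective)
  -- `P` is nontrivial
  haveI hnt : Nontrivial ↥P := by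
    by_contra hnt
    rw [not_nontrivial_iff_subsingleton] at hnt
    exact hPc inferInstance
  -- central involution
  have hPp : IsPGroup 2 ↥P := P.2
  haveI := hPp.center_nontrivial
  obtain ⟨k, hk⟩ := IsPGroup.iff_card.1 (hPp.to_subgroup (Subgroup.center ↥P))
  have hk0 : k ≠ 0 := by
    intro h0
    rw [h0, pow_zero] at hk
    have := Finite.one_lt_card_iff_nontrivial.2 (inferInstance : Nontrivial (Subgroup.center ↥P))
    omega
  have hdvd : 2 ∣ Nat.card (Subgroup.center ↥P) := by
    rw [hk]; exact dvd_pow_self 2 hk0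
  obtain ⟨z, hz⟩ := exists_prime_orderOf_dvd_card' 2 hdvd
  have hz1 : ((z : ↥P) : G) ≠ 1 := by
    intro e
    have : z = 1 := Subtype.ext (Subtype.ext e)
    rw [this, orderOf_one] at hz
    omega
  have hzz : ((z : ↥P) : G) * ((z : ↥P) : G) = 1 := by
    have h1 := pow_orderOf_eq_one z
    rw [hz, pow_two] at h1
    exact congrArg (fun w : Subgroup.center ↥P => ((w : ↥P) : G)) h1
  have hPcomm : ∀ a b : ↥P, a * b = b * a := by
    intro a b
    have ha : Commute (a : G) ((z : ↥P) : G) :=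
      congrArg Subtype.val (Subgroup.mem_center_iff.1 z.2 a)
    have hb : Commute (b : G) ((z : ↥P) : G) :=
      congrArg Subtype.val (Subgroup.mem_center_iff.1 z.2 b)
    exact Subtype.ext (h _ _ _ hz1 hzz ha hb).eq
  let iC : CommGroup ↥P := { (inferInstance : Group ↥P) with mul_comm := hPcomm }
  obtain ⟨r, c, d, hr, hcr, hd, hcd⟩ := @Cfsg.Agent.Lib.Helper52.exists_rank_two ↥P iC _ hPc
  have hr2 : r = 2 := by
    obtain ⟨j, hj⟩ := hPp.exists_orderOf_eq_pow d
    rw [hd] at hj
    have : r ∣ 2 ^ j := by rw [← hj]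
    exact (Nat.prime_dvd_prime_iff_eq hr Nat.prime_two).1 (hr.dvd_of_dvd_pow this)
  subst hr2
  have hc1 : c ≠ 1 := fun e => hcd (e ▸ one_mem _)
  have hd1 : d ≠ 1 := by
    intro e
    rw [e, orderOf_one] at hd
    omega
  have hdd : d * d = 1 := by
    have h1 := pow_orderOf_eq_one d
    rwa [hd, pow_two] at h1
  have hcc : c * c = 1 := by rwa [pow_two] at hcr
  have hcd' : c ≠ d := fun e => hcd (e ▸ Subgroup.mem_zpowers d)
  set t : G := (d : G) with ht
  set s : G := (c : G) with hs
  have ht1 : t ≠ 1 := fun e => hd1 (Subtype.ext e)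
  have htt : t * t = 1 := congrArg Subtype.val hdd
  have hs1 : s ≠ 1 := fun e => hc1 (Subtype.ext e)
  have hss : s * s = 1 := congrArg Subtype.val hcc
  have hst : s ≠ t := fun e => hcd' (Subtype.ext e)
  have hPA : (P : Subgroup G) ≤ Cn t := by
    intro x hx
    exact mem_Cn.2 (congrArg Subtype.val (hPcomm ⟨x, hx⟩ d))
  have C0 : Ctx t := ⟨h, ht1, htt⟩
  by_cases hu : ∃ u : G, u * u = 1 ∧ u ∉ NN t
  · obtain ⟨u, huu, huN⟩ := hu
    exact main (t := t) (u := u) (s := s) ⟨C0, huu, huN⟩ (hPA c.2) hs1 hss hst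
  · exfalso
    push Not at hu
    apply hPn
    have hN : ∀ g : G, g ∈ NN t := by
      intro g
      apply C0.mem_N_of (self_mem_Cn t) ht1 htt
      exact C0.invol_mem_A (Ctx.conj_sq htt) (hu _ (Ctx.conj_sq htt))
    constructor
    intro x hx g
    set Q := (P : Subgroup G).map (MulAut.conj g).toMonoidHom with hQ
    have hQp : IsPGroup 2 Q := P.2.map _
    have hQA : Q ≤ Cn t := by
      rintro _ ⟨y, hy, rfl⟩
      exact C0.conj_mem (hN g) (hPA hy)
    have hQN : Q ≤ Subgroup.normalizer ((P : Subgroup G) : Set G) := by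
      intro y hy
      rw [Subgroup.mem_normalizer_iff]
      intro w
      constructor
      · intro hw
        have : y * w = w * y := (C0.comm (hQA hy) (hPA hw)).eq
        rw [this]
        simpa using hw
      · intro hw
        have h1 : y * w * y⁻¹ ∈ Cn t := hPA hw
        have h2 : w ∈ Cn t := by
          have : w = y⁻¹ * (y * w * y⁻¹) * y := by group
          rw [this]
          exact mul_mem (mul_mem (inv_mem (hQA hy)) h1) (hQA hy)
        have : y * w = w * y := (C0.comm (hQA hy) h2).eq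
        rw [this] at hw
        simpa using hw
    have h3 := hQp.inf_normalizer_sylow P
    have h4 : g * x * g⁻¹ ∈ Q ⊓ (P : Subgroup G) := by
      rw [← h3]
      exact ⟨⟨x, hx, rfl⟩, hQN ⟨x, hx, rfl⟩⟩
    exact h4.2

end Cfsg.Agent.Lib.Helper1.IA
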