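import Mathlib
import Cfsg.Agent.Lib.Helper1.QdCore
import Cfsg.Agent.Lib.Helper46.Qd2
import Cfsg.Agent.Lib.Helper46.Qd3
import Cfsg.Agent.Lib.Helper9.NPStable
import Cfsg.Agent.S2763

/-!
# `Qd(p)` is not `p`-stable and no characteristic functor controls strong fusion in it
-/

set_option autoImplicit false

universe u

namespace Cfsg.Agent.Lib.Helper1.QdFree

open Cfsg Matrix Cfsg.Agent.Lib.Helper34 Cfsg.Agent.Lib.Helper46.Qd Cfsg.Agent.Lib.Helper46.SL2Nat
  Cfsg.Agent.Lib.Helper1.QuadSL2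
open scoped commutatorElement

section qd

variable {F : Type*} [Field F]

/-- the translation subgroup is self-centralizing -/
theorem centralizer_ker_le :
    Subgroup.centralizer (((blkHom F).ker : Subgroup ↥(qdOver F)) : Set ↥(qdOver F)) ≤ (blkHom F).ker := by
  intro c hc
  rw [MonoidHom.mem_ker, blkHom_apply]
  apply eq_one_of_mulVec_eq
  intro v
  have h1 : mk 1 v ∈ (blkHom F).ker := by rw [MonoidHom.mem_ker, blkHom_apply, blk_mk]
  have h2 := Subgroup.mem_centralizer_iff.1 hc _ h1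
  have h3 : c * mk 1 v * c⁻¹ = mk 1 v := by rw [← h2]; group
  have h4 := tr_conj c (mk 1 v) (blk_mk _ _)
  rw [h3, tr_mk] at h4
  exact h4.symm

theorem commutator_ker_U3 (x z : ↥(qdOver F)) (hx : blk x = 1) (hz : blk z ∈ U F) :
    blk ⁅x, z⁆ = 1 ∧ tr ⁅x, z⁆ 1 = 0 := by
  have hx' : blk x⁻¹ = 1 := by rw [blk_inv, hx, inv_one]
  have e1 : ⁅x, z⁆ = x * (z * x⁻¹ * z⁻¹) := by rw [commutatorElement_def]; group
  constructor
  · rw [e1, blk_mul, blk_mul, blk_mul, hx, hx', blk_inv]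
    group
  · rw [e1, tr_mul, tr_conj z x⁻¹ hx', hx, tr_inv, hx, inv_one, one_mulVec', Matrix.neg_mulVec, one_mulVec',
      Matrix.mulVec_neg]
    simp only [Pi.add_apply, Pi.neg_apply]
    rw [mulVec_1, (mem_U.1 hz).2, mem_U_11 hz]
    ring

theorem commute_of_tr (c h : ↥(qdOver F)) (hc : blk c = 1) (hc1 : tr c 1 = 0) (hh : blk h ∈ U F) :
    h * c = c * h := by
  apply ext'
  · rw [blk_mul, blk_mul, hc, mul_one, one_mul]
  · rw [tr_mul, tr_mul, hc, one_mulVec']
    apply vec_ext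
    · simp only [Pi.add_apply]
      rw [mulVec_0, (mem_U.1 hh).1, hc1]
      ring
    · simp only [Pi.add_apply]
      rw [mulVec_1, (mem_U.1 hh).2, hc1]
      ring

theorem not_isNormalizerPStable_qdOver [Finite F] (p : ℕ) [Fact p.Prime] [CharP F p] :
    ¬ IsNormalizerPStable p ↥(qdOver F) := by
  intro hst
  rw [Cfsg.Agent.Lib.Helper9.isNormalizerPStable_iff] at hst
  set P : Subgroup ↥(qdOver F) := (blkHom F).ker with hP
  set g : ↥(qdOver F) := mk (u 1) 0 with hg
  have hN : Subgroup.normalizer (P : Set ↥(qdOver F)) = ⊤ := Subgroup.normalizer_eq_top P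
  have hZ : ∀ z ∈ Subgroup.zpowers g, blk z ∈ U F := by
    intro z hz
    have h1 : Subgroup.zpowers g ≤ (U F).comap (blkHom F) := by
      rw [Subgroup.zpowers_le]
      show blk g ∈ U F
      rw [hg, blk_mk]
      exact u_mem 1
    exact h1 hz
  have hquad : ⁅⁅P, Subgroup.zpowers g⁆, Subgroup.zpowers g⁆ = ⊥ := by
    rw [Subgroup.commutator_eq_bot_iff_le_centralizer, Subgroup.commutator_le]
    intro x hx z hz
    obtain ⟨h1, h2⟩ := commutator_ker_U3 x z hx (hZ z hz)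
    rw [Subgroup.mem_centralizer_iff]
    intro h hh
    exact commute_of_tr _ h h1 h2 (hZ h hh)
  obtain ⟨D, hgD, -, hND, hD⟩ := hst P (isPGroup_ker p) g (hN ▸ Subgroup.mem_top g) hquad
  have hDn : D.Normal := by
    rw [← Subgroup.normalizer_eq_top_iff, eq_top_iff, ← hN]
    exact hND
  have hDn' : (D.map (blkHom F)).Normal := hDn.map _ blkHom_surjective
  have hDp : IsPGroup p (D.map (blkHom F)) := by
    rintro ⟨_, d, hd, rfl⟩
    obtain ⟨k, hk⟩ := hD d hd
    refine ⟨k, Subtype.ext ?_⟩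
    show (blkHom F d) ^ (p ^ k) = 1
    rw [← map_pow]
    exact centralizer_ker_le hk
  have h1 := normal_pgroup_eq_bot p _ hDp
  have h2 : blkHom F g ∈ D.map (blkHom F) := ⟨g, hgD, rfl⟩
  rw [h1, Subgroup.mem_bot, blkHom_apply, hg, blk_mk, u_eq_one_iff] at h2
  exact one_ne_zero h2

end qd

theorem not_isNormalizerPStable_qd (p : ℕ) [Fact p.Prime] : ¬ IsNormalizerPStable p ↥(qd p) :=
  not_isNormalizerPStable_qdOver (F := ZMod p) p

theorem isNormalizerPStable_of_qd_free {p : ℕ} [hp : Fact p.Prime] (hD : DicksonHyp.{u} p) (hp2 : p ≠ 2)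
    {X : Type u} [Group X] [Finite X] (h : ¬ Involves ↥(qd p) X) : IsNormalizerPStable p X :=
  fun P hP g hg hquad =>
    QStable.mk_mem_pCore_normalizer P
      (QdCore.qStable_of_qd_free hD hp2 (fun hc => h (Cfsg.Agent.Lib.Helper33.involves_subgroup _ hc)))
      hP g hg (quadOn_of_commutator hquad)

section transport

variable {p : ℕ} [hp : Fact p.Prime] {X : Type u} [Group X] [Finite X]

/-- transport of S2763 -/
theorem not_normal_of_characteristic (e : X ≃* ↥(qd p)) (T : Sylow p X) (T₀ : Subgroup ↥(T : Subgroup X))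
    (hT₀ : T₀ ≠ ⊥) (hc : T₀.Characteristic) : ¬ (T₀.map (T : Subgroup X).subtype).Normal := by
  intro hn
  let S' : Sylow p ↥(qd p) := T.mapSurjective (f := e.toMonoidHom) e.surjective
  let ι : ↥(T : Subgroup X) ≃* ↥(S' : Subgroup ↥(qd p)) :=
    (T : Subgroup X).equivMapOfInjective e.toMonoidHom e.injective
  have hι : ∀ t, ((ι t : ↥(S' : Subgroup ↥(qd p))) : ↥(qd p)) = e (t : X) := fun t => rfl
  let T₀' : Subgroup ↥(S' : Subgroup ↥(qd p)) := T₀.map ι.toMonoidHom
  have hT₀' : T₀' ≠ ⊥ := by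
    intro h
    apply hT₀
    exact (Subgroup.map_eq_bot_iff_of_injective _ ι.injective).1 h
  have hc' : T₀'.Characteristic := by
    rw [Subgroup.characteristic_iff_map_le]
    rintro φ' _ ⟨_, ⟨t, ht, rfl⟩, rfl⟩
    have h1 := (Subgroup.characteristic_iff_map_le.1 hc) ((ι.trans φ').trans ι.symm)
    have h2 : ((ι.trans φ').trans ι.symm) t ∈ T₀ := h1 ⟨t, ht, rfl⟩
    refine ⟨_, h2, ?_⟩
    simp
  obtain ⟨h1, h2⟩ := Cfsg.Agent.S2763.result S' T₀' hT₀' hc'
  apply h2
  rw [← h1]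
  have h3 : T₀'.map (S' : Subgroup ↥(qd p)).subtype = (T₀.map (T : Subgroup X).subtype).map e.toMonoidHom := by
    ext z
    constructor
    · rintro ⟨_, ⟨t, ht, rfl⟩, rfl⟩
      exact ⟨_, ⟨t, ht, rfl⟩, rfl⟩
    · rintro ⟨_, ⟨t, ht, rfl⟩, rfl⟩
      exact ⟨_, ⟨t, ht, rfl⟩, rfl⟩
  rw [h3]
  have : ((T₀.map (T : Subgroup X).subtype).map e.toMonoidHom).Normal := hn.map _ e.surjective
  exact Subgroup.normalizer_eq_top _

omit [Finite X] in
theorem exists_selfCentralizing (e : X ≃* ↥(qdOver (ZMod p))) :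
    ∃ V : Subgroup X, V.Normal ∧ IsPGroup p V ∧ Subgroup.centralizer (V : Set X) ≤ V ∧ V ≠ ⊥ := by
  let V : Subgroup X := ((blkHom (ZMod p)).ker).comap e.toMonoidHom
  have hVn : V.Normal := Subgroup.Normal.comap inferInstance _
  have hVp : IsPGroup p V := by
    rintro ⟨v, hv⟩
    obtain ⟨k, hk⟩ := isPGroup_ker (F := ZMod p) p ⟨e v, hv⟩
    refine ⟨k, Subtype.ext ?_⟩
    apply e.injective
    have : (e v) ^ (p ^ k) = 1 := congrArg Subtype.val hk
    show e (v ^ (p ^ k)) = e 1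
    rw [map_pow, this, map_one]
  have hCV : Subgroup.centralizer (V : Set X) ≤ V := by
    intro c hc
    show e c ∈ (blkHom (ZMod p)).ker
    apply centralizer_ker_le
    rw [Subgroup.mem_centralizer_iff]
    intro w hw
    have h1 : e.symm w ∈ V := by
      show e (e.symm w) ∈ (blkHom (ZMod p)).ker
      rw [e.apply_symm_apply]; exact hw
    have h2 := Subgroup.mem_centralizer_iff.1 hc _ h1
    have h3 := congrArg e h2
    rwa [map_mul, map_mul, e.apply_symm_apply] at h3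
  refine ⟨V, hVn, hVp, hCV, ?_⟩
  intro hbot
  have h1 : e.symm (mk 1 ![1, 0]) ∈ V := by
    show e (e.symm (mk 1 ![1, 0])) ∈ (blkHom (ZMod p)).ker
    rw [e.apply_symm_apply, MonoidHom.mem_ker, blkHom_apply, blk_mk]
  rw [hbot, Subgroup.mem_bot, map_eq_one_iff _ e.symm.injective] at h1
  have h3 := congrArg (fun M => tr M 0) h1
  simp only [tr_mk, tr_one] at h3
  simp at h3

theorem not_controlsStrongFusion_of_characteristic (e : X ≃* ↥(qd p)) (T : Sylow p X)
    (T₀ : Subgroup ↥(T : Subgroup X)) (hT₀ : T₀ ≠ ⊥) (hc : T₀.Characteristic) :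
    ¬ ControlsStrongFusion p (T₀.map (T : Subgroup X).subtype) := by
  rintro ⟨T', -, hctl⟩
  apply not_normal_of_characteristic e T T₀ hT₀ hc
  set U := T₀.map (T : Subgroup X).subtype with hU
  obtain ⟨V, hVn, hVp, hCV, -⟩ := exists_selfCentralizing (p := p) (X := X) e
  have hVle : ∀ Q : Sylow p X, V ≤ Q := fun Q =>
    (Cfsg.Agent.Lib.Helper1.le_pCore hVn hVp).trans (Cfsg.Agent.Lib.Helper1.pCore_le_sylow Q)
  have hTN : (T : Subgroup X) ≤ Subgroup.normalizer (U : Set X) := by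
    have hn : T₀.Normal := inferInstance
    intro t ht
    rw [Subgroup.mem_normalizer_iff]
    intro x
    constructor
    · rintro ⟨y, hy, rfl⟩
      exact ⟨⟨t, ht⟩ * y * ⟨t, ht⟩⁻¹, hn.conj_mem y hy _, rfl⟩
    · rintro ⟨y, hy, hyx⟩
      refine ⟨⟨t, ht⟩⁻¹ * y * ⟨t, ht⟩, by simpa using hn.conj_mem y hy ⟨t, ht⟩⁻¹, ?_⟩
      show t⁻¹ * (y : X) * t = x
      have : (y : X) = t * x * t⁻¹ := hyx
      rw [this]; group
  rw [← Subgroup.normalizer_eq_top_iff, eq_top_iff]
  intro g _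
  obtain ⟨x, hx, hxa⟩ := (hctl (V : Set X) (hVle T')).2 g (by
    rintro _ ⟨a, ha, rfl⟩
    exact hVle T' (hVn.conj_mem a ha g))
  have h1 : x⁻¹ * g ∈ Subgroup.centralizer (V : Set X) := by
    rw [Subgroup.mem_centralizer_iff]
    intro a ha
    have h2 := hxa a ha
    calc a * (x⁻¹ * g) = x⁻¹ * (x * a * x⁻¹) * g := by group
      _ = x⁻¹ * (g * a * g⁻¹) * g := by rw [h2]
      _ = x⁻¹ * g * a := by group
  have h2 : x⁻¹ * g ∈ Subgroup.normalizer (U : Set X) := hTN (hVle T (hCV h1))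
  have h3 := (Subgroup.normalizer (U : Set X)).mul_mem hx h2
  rwa [mul_inv_cancel_left] at h3

theorem not_controlsStrongFusion_inducedFunctor (W : ∀ (Q : Type u) [Group Q], Subgroup Q)
    (hW : IsCharPFunctor.{u} p W) (e : X ≃* ↥(qd p)) (T : Sylow p X) :
    ¬ ControlsStrongFusion p (inducedFunctor W (T : Subgroup X)) := by
  apply not_controlsStrongFusion_of_characteristic e T (W ↥(T : Subgroup X))
  · apply hW.1 _ T.2
    obtain ⟨V, hVn, hVp, -, hVne⟩ := exists_selfCentralizing (p := p) (X := X) e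
    have hVle : V ≤ T :=
      (Cfsg.Agent.Lib.Helper1.le_pCore hVn hVp).trans (Cfsg.Agent.Lib.Helper1.pCore_le_sylow T)
    rw [Subgroup.nontrivial_iff_ne_bot]
    intro h
    exact hVne (eq_bot_iff.2 (h ▸ hVle))
  · rw [Subgroup.characteristic_iff_map_eq]
    intro φ
    exact hW.2 _ _ T.2 φ

end transport

end Cfsg.Agent.Lib.Helper1.QdFree
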