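import Mathlib
import Cfsg.Agent.Lib.Helper1.QuadSL2
import Cfsg.Agent.Lib.Helper46.SL2Nat
import Cfsg.Agent.Lib.Helper84.ChainStab
import Cfsg.Agent.Lib.Helper33.Frattini

/-!
# `SL₂(p)`-free groups: linear `p`-stability (given the Dickson-type statement S0274)
-/

set_option autoImplicit false

universe u

namespace Cfsg.Agent.Lib.Helper1.SL2Free

open Cfsg Matrix Cfsg.Agent.Lib.Helper34 Cfsg.Agent.Lib.Helper33 Cfsg.Agent.Lib.Helper1.QuadSL2

/-- the section produced by a surjection from a subgroup -/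
theorem exists_section_of_surjective {G : Type*} [Group G] {X : Type*} [Group X] (K : Subgroup G)
    (f : ↥K →* X) (hf : Function.Surjective f) :
    ∃ (L : Subgroup G) (_ : (L.subgroupOf K).Normal), Nonempty ((↥K ⧸ L.subgroupOf K) ≃* X) := by
  have e : (f.ker.map K.subtype).subgroupOf K = f.ker :=
    Subgroup.comap_map_eq_self_of_injective (Subgroup.subtype_injective _) _
  have hn : ((f.ker.map K.subtype).subgroupOf K).Normal := by rw [e]; infer_instance
  exact ⟨f.ker.map K.subtype, hn,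
    ⟨(QuotientGroup.quotientMulEquivOfEq e).trans (QuotientGroup.quotientKerEquivOfSurjective f hf)⟩⟩

/-- a section of the subgroup `H`, seen in the ambient group -/
theorem exists_section_le_of_involves {G : Type*} [Group G] {X : Type*} [Group X] (H : Subgroup G)
    (h : Involves X ↥H) :
    ∃ (K L : Subgroup G) (_ : (L.subgroupOf K).Normal), K ≤ H ∧ Nonempty ((↥K ⧸ L.subgroupOf K) ≃* X) := by
  obtain ⟨K, f, hf⟩ := exists_surjective_of_involves h
  let e : ↥K ≃* ↥(K.map H.subtype) := K.equivMapOfInjective H.subtype (Subgroup.subtype_injective _)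
  obtain ⟨L, hL, hN⟩ := exists_section_of_surjective (K.map H.subtype) (f.comp e.symm.toMonoidHom)
    (hf.comp e.symm.surjective)
  exact ⟨K.map H.subtype, L, hL, Subgroup.map_subtype_le K, hN⟩

theorem involves_of_section_le {G : Type*} [Group G] {X : Type*} [Group X] (H K L : Subgroup G)
    (hL : (L.subgroupOf K).Normal) (hKH : K ≤ H) (e : (↥K ⧸ L.subgroupOf K) ≃* X) : Involves X ↥H := by
  let ι : ↥(K.subgroupOf H) ≃* ↥K := Subgroup.subgroupOfEquivOfLe hKH
  exact involves_of_surjective (K.subgroupOf H)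
    ((e.toMonoidHom.comp (QuotientGroup.mk' (L.subgroupOf K))).comp ι.toMonoidHom)
    ((e.surjective.comp (QuotientGroup.mk'_surjective _)).comp ι.surjective)

/-- a normal `p`-subgroup is irrelevant for involving `SL₂(p)` -/
theorem involves_sl2_quotient {X : Type*} [Group X] {p : ℕ} [Fact p.Prime] (N : Subgroup X) [hN : N.Normal]
    (hNp : IsPGroup p N) (h : Involves (SpecialLinearGroup (Fin 2) (ZMod p)) X) :
    Involves (SpecialLinearGroup (Fin 2) (ZMod p)) (X ⧸ N) := by
  obtain ⟨K, f, hf⟩ := exists_surjective_of_involves h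
  have hn : ((N.subgroupOf K).map f).Normal := (hN.subgroupOf K).map f hf
  have hp : IsPGroup p ((N.subgroupOf K).map f) :=
    (hNp.comap_of_injective _ K.subtype_injective).map f
  have hbot := Cfsg.Agent.Lib.Helper46.SL2Nat.normal_pgroup_eq_bot p _ hp
  let π : ↥K →* ↥(K.map (QuotientGroup.mk' N)) := (QuotientGroup.mk' N).subgroupMap K
  have hπ : Function.Surjective π := (QuotientGroup.mk' N).subgroupMap_surjective K
  have hker : π.ker ≤ f.ker := by
    intro k hk
    have h1 : (QuotientGroup.mk' N) (k : X) = 1 := congrArg Subtype.val (MonoidHom.mem_ker.1 hk)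
    have h2 : (k : X) ∈ N := (QuotientGroup.eq_one_iff _).1 h1
    have h3 : f k ∈ (N.subgroupOf K).map f := ⟨k, Subgroup.mem_subgroupOf.2 h2, rfl⟩
    rw [hbot, Subgroup.mem_bot] at h3
    exact h3
  refine involves_of_surjective (K.map (QuotientGroup.mk' N)) (π.liftOfSurjective hπ ⟨f, hker⟩) ?_
  intro s
  obtain ⟨k, rfl⟩ := hf s
  exact ⟨π k, MonoidHom.liftOfRightInverse_comp_apply _ _ _ ⟨f, hker⟩ k⟩

/-- **Linear `p`-stability of `SL₂(p)`-free groups.** -/
theorem mem_pCore_of_quadratic {G : Type u} [Group G] [Finite G] {p : ℕ} [Fact p.Prime]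
    (hD : DicksonHyp.{u} p) (V H : Subgroup G)
    (hV : IsElementaryAbelian p V) (hHV : H ≤ Subgroup.normalizer (V : Set G))
    (hf : H ⊓ Subgroup.centralizer (V : Set G) = ⊥)
    (hfree : ¬ Involves (SpecialLinearGroup (Fin 2) (ZMod p)) ↥H) (a : G) (haH : a ∈ H)
    (hq : ⁅⁅V, Subgroup.zpowers a⁆, Subgroup.zpowers a⁆ = ⊥) : a ∈ (pCore p H).map H.subtype := by
  set X := H ⊔ V with hX
  have hVX : V ≤ X := le_sup_right
  have hHX : H ≤ X := le_sup_left
  have hVp : IsPGroup p V := fun v => ⟨1, Subtype.ext (by rw [pow_one]; exact hV.2 v v.2)⟩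
  have hVn : (V.subgroupOf X).Normal :=
    (Subgroup.normal_subgroupOf_iff_le_normalizer hVX).mpr (sup_le hHV Subgroup.le_normalizer)
  have hVXp : IsPGroup p (V.subgroupOf X) := hVp.comap_of_injective _ X.subtype_injective
  have hsurj : Function.Surjective ((QuotientGroup.mk' (V.subgroupOf X)).comp (Subgroup.inclusion hHX)) := by
    intro q
    obtain ⟨⟨x, hx⟩, rfl⟩ := QuotientGroup.mk'_surjective _ q
    obtain ⟨h, hh, v, hv, rfl⟩ := Cfsg.Agent.Lib.Helper84.mem_sup_of_le_normalizer hHV hx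
    refine ⟨⟨h, hh⟩, ?_⟩
    rw [MonoidHom.comp_apply, QuotientGroup.mk'_eq_mk']
    exact ⟨⟨v, hVX hv⟩, Subgroup.mem_subgroupOf.mpr hv, rfl⟩
  have hXfree : ¬ Involves (SpecialLinearGroup (Fin 2) (ZMod p)) ↥X := by
    intro hc
    apply hfree
    have h1 := involves_sl2_quotient (V.subgroupOf X) hVXp hc
    have h2 : Involves (↥X ⧸ V.subgroupOf X) ↥H := involves_of_surjective ⊤
      (((QuotientGroup.mk' (V.subgroupOf X)).comp (Subgroup.inclusion hHX)).comp
        (Subgroup.topEquiv (G := ↥H)).toMonoidHom) (hsurj.comp (Subgroup.topEquiv (G := ↥H)).surjective)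
    exact involves_trans h1 h2
  obtain ⟨M, hMn, haM, hM⟩ := qStable_of_sl2_free hD hXfree (V.subgroupOf X) ⟨a, hHX haH⟩ hVn hVXp
    (fun x hx => Subtype.ext (quadOn_of_commutator hq x (Subgroup.mem_subgroupOf.mp hx)))
  have hDle : M.comap (Subgroup.inclusion hHX) ≤ pCore p ↥H := by
    apply Cfsg.Agent.Lib.Helper1.le_pCore (hMn.comap _)
    rintro ⟨d, hd⟩
    obtain ⟨k, hk⟩ := hM _ hd
    refine ⟨k, Subtype.ext (Subtype.ext ?_)⟩
    have h1 : ((d : G)) ^ (p ^ k) ∈ H ⊓ Subgroup.centralizer (V : Set G) := by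
      refine Subgroup.mem_inf.mpr ⟨Subgroup.pow_mem _ d.2 _, ?_⟩
      rw [Subgroup.mem_centralizer_iff]
      intro v hv
      have h2 := Subgroup.mem_centralizer_iff.mp hk ⟨v, hVX hv⟩ (Subgroup.mem_subgroupOf.mpr hv)
      exact congrArg Subtype.val h2
    rw [hf, Subgroup.mem_bot] at h1
    simpa using h1
  exact ⟨⟨a, haH⟩, hDle haM, rfl⟩

open scoped Pointwise in
theorem exists_pSubgroup_cover {X S : Type*} [Group X] [Finite X] [Group S] {p : ℕ} [Fact p.Prime]
    (π : X →* S) (hπ : Function.Surjective π) (Q : Subgroup S) (hQ : IsPGroup p Q) :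
    ∃ P : Subgroup X, IsPGroup p P ∧ P.map π = Q ∧
      ∀ s ∈ Subgroup.normalizer (Q : Set S), ∃ n ∈ Subgroup.normalizer (P : Set X), π n = s := by
  set N := Q.comap π with hN
  obtain ⟨P₀⟩ : Nonempty (Sylow p ↥N) := inferInstance
  set P := (P₀ : Subgroup ↥N).map N.subtype with hP
  have hrel : RelSyl p P N := relSyl_of_sylow P₀
  let π' : ↥N →* ↥Q := π.subgroupComap Q
  have hπ' : Function.Surjective π' := π.subgroupComap_surjective_of_surjective Q hπ
  have htop : (⊤ : Subgroup ↥Q) = (P₀ : Subgroup ↥N).map π' :=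
    (P₀.mapSurjective hπ').3 (hQ.to_subgroup ⊤) le_top
  have hmap : P.map π = Q := by
    ext q
    constructor
    · rintro ⟨_, ⟨y, -, rfl⟩, rfl⟩
      exact y.2
    · intro hq
      have h1 : (⟨q, hq⟩ : ↥Q) ∈ (P₀ : Subgroup ↥N).map π' := htop ▸ Subgroup.mem_top _
      obtain ⟨y, hy, hyq⟩ := h1
      exact ⟨y, ⟨y, hy, rfl⟩, congrArg Subtype.val hyq⟩
  refine ⟨P, hrel.2.1, hmap, ?_⟩
  intro s hs
  obtain ⟨g, rfl⟩ := hπ s
  have hg : MulAut.conj g • N = N := by
    ext x
    rw [Subgroup.mem_pointwise_smul_iff_inv_smul_mem, MulAut.smul_def, ← map_inv, MulAut.conj_apply, hN,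
      Subgroup.mem_comap, Subgroup.mem_comap, map_mul, map_mul, map_inv, inv_inv]
    have h1 := Subgroup.mem_normalizer_iff.1 (Subgroup.inv_mem _ hs) (π x)
    rw [inv_inv] at h1
    exact h1.symm
  obtain ⟨c, hc, n, hn, rfl⟩ := frattini hrel g hg
  have hc' : π c ∈ P.map π := by rw [hmap]; exact hc
  obtain ⟨x, hx, hxc⟩ := hc'
  exact ⟨x * n, Subgroup.mul_mem _ (Subgroup.le_normalizer hx) hn, by rw [map_mul, map_mul, hxc]⟩

theorem involves_of_injective {A B Y : Type*} [Group A] [Group B] [Group Y] (j : A →* B)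
    (hj : Function.Injective j) (h : Involves Y A) : Involves Y B := by
  obtain ⟨K, f, hf⟩ := exists_surjective_of_involves h
  exact involves_of_surjective (K.map j) (f.comp (K.equivMapOfInjective j hj).symm.toMonoidHom)
    (hf.comp (K.equivMapOfInjective j hj).symm.surjective)

/-- the normalizer of a non-trivial `p`-subgroup of a section is involved in the normalizer of a non-trivial `p`-subgroup -/
theorem exists_involves_normalizer {G : Type*} [Group G] [Finite G] {p : ℕ} [Fact p.Prime] (K R : Subgroup G)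
    [hR : (R.subgroupOf K).Normal] (Q : Subgroup (↥K ⧸ R.subgroupOf K)) (hQ : IsPGroup p Q) (hne : Q ≠ ⊥) :
    ∃ P : Subgroup G, IsPGroup p P ∧ P ≠ ⊥ ∧
      Involves ↥(Subgroup.normalizer (Q : Set (↥K ⧸ R.subgroupOf K))) ↥(Subgroup.normalizer (P : Set G)) := by
  obtain ⟨P₁, hP₁, hmap, hcov⟩ := exists_pSubgroup_cover (QuotientGroup.mk' (R.subgroupOf K))
    (QuotientGroup.mk'_surjective _) Q hQ
  refine ⟨P₁.map K.subtype, hP₁.map _, ?_, ?_⟩
  · intro h
    rw [Subgroup.map_eq_bot_iff_of_injective _ K.subtype_injective] at h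
    rw [h, Subgroup.map_bot] at hmap
    exact hne hmap.symm
  · let A := Subgroup.normalizer (P₁ : Set ↥K)
    let j : ↥A →* ↥(Subgroup.normalizer ((P₁.map K.subtype : Subgroup G) : Set G)) :=
      (K.subtype.comp A.subtype).codRestrict _ (fun x => Subgroup.le_normalizer_map _ ⟨x.1, x.2, rfl⟩)
    have hj : Function.Injective j := by
      intro x y hxy
      have h1 : ((x : ↥K) : G) = ((y : ↥K) : G) :=
        congrArg (fun z : ↥(Subgroup.normalizer ((P₁.map K.subtype : Subgroup G) : Set G)) => (z : G)) hxy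
      exact Subtype.ext (Subtype.ext h1)
    apply involves_of_injective j hj
    let f : ↥A →* (↥K ⧸ R.subgroupOf K) := (QuotientGroup.mk' (R.subgroupOf K)).comp A.subtype
    refine involves_of_surjective ((Subgroup.normalizer (Q : Set (↥K ⧸ R.subgroupOf K))).comap f)
      (f.subgroupComap _) ?_
    rintro ⟨s, hs⟩
    obtain ⟨n, hn, hns⟩ := hcov s hs
    have hmem : (⟨n, hn⟩ : ↥A) ∈ (Subgroup.normalizer (Q : Set (↥K ⧸ R.subgroupOf K))).comap f := by
      rw [Subgroup.mem_comap, show f ⟨n, hn⟩ = s from hns]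
      exact hs
    exact ⟨⟨⟨n, hn⟩, hmem⟩, Subtype.ext hns⟩

end Cfsg.Agent.Lib.Helper1.SL2Free
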