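import Mathlib
import Cfsg.Agent.S0654
import Cfsg.Agent.S0624
import Cfsg.Agent.Lib.Helper11.ZJ
import Cfsg.Agent.Lib.Helper11.Thompson
import Cfsg.Agent.Lib.Helper1.OmegaLemma

/-!
# The ZJ-theorem for the elementary abelian version of the Thompson subgroup

For odd `p`, in a `p`-stable group `G` with `C_G(O_p(G)) ≤ O_p(G)` the subgroup `Z(J_e(S))` itself
(not only its `Ω₁`) is normal.
-/

set_option autoImplicit false

namespace Cfsg.Agent.Lib.Helper1.ZJE

open Subgroup Cfsg
open scoped commutatorElement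
open Cfsg.Agent.Lib.Lead Cfsg.Agent.Lib.Helper11

variable {G : Type*} [Group G]

theorem commutator_pow_left (c a : G) (h2 : Commute ⁅c, a⁆ c) (m : ℕ) :
    ⁅c ^ m, a⁆ = ⁅c, a⁆ ^ m := by
  induction m with
  | zero => simp
  | succ m ih =>
    have e : ⁅c ^ (m + 1), a⁆ = c * ⁅c ^ m, a⁆ * c⁻¹ * ⁅c, a⁆ := by
      simp only [commutatorElement_def, pow_succ']; group
    rw [e, ih]
    have h3 : Commute (⁅c, a⁆ ^ m) c := h2.pow_left m
    rw [← h3.eq, mul_inv_cancel_right, pow_succ]

/-- in a group of class at most two, `p` odd, the elements of order dividing `p` form a subgroup. -/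
theorem pow_eq_one_of_mem_omegaOne {p : ℕ} [hp : Fact p.Prime] (hp2 : p ≠ 2) (B : Subgroup G)
    (hcl : ⁅⁅B, B⁆, B⁆ = ⊥) : ∀ x ∈ omegaOne p B, x ^ p = 1 := by
  have hcomm : ∀ x ∈ B, ∀ y ∈ B, ∀ z ∈ B, Commute ⁅x, y⁆ z := by
    intro x hx y hy z hz
    have h1 : ⁅⁅x, y⁆, z⁆ ∈ ⁅⁅B, B⁆, B⁆ :=
      commutator_mem_commutator (commutator_mem_commutator hx hy) hz
    rw [hcl, mem_bot, commutatorElement_eq_one_iff_mul_comm] at h1
    exact h1
  intro x hx
  have hle := omegaOne_le p B
  unfold omegaOne at hx hle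
  induction hx using closure_induction with
  | mem x hx => exact hx.2
  | one => simp
  | mul x y hx hy ihx ihy =>
    have hxB := hle hx
    have hyB := hle hy
    rw [mul_pow_of_commute_commutator x y (hcomm y hyB x hxB x hxB) (hcomm y hyB x hxB y hyB), ihx, ihy,
      one_mul, one_mul]
    have h1 : ⁅y, x⁆ ^ p = 1 := by
      rw [← commutator_pow_left y x (hcomm y hyB x hxB y hyB), ihy]; simp
    have h2 : p ∣ p.choose 2 := by
      apply hp.out.dvd_choose_self (by norm_num)
      have := hp.out.two_le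
      omega
    obtain ⟨c, hc⟩ := h2
    rw [hc, pow_mul, h1, one_pow]
  | inv x hx ih => rw [inv_pow, ih, inv_one]

theorem omegaOne_normal (p : ℕ) (B : Subgroup G) [hB : B.Normal] : (omegaOne p B).Normal := by
  constructor
  intro x hx g
  unfold omegaOne at *
  induction hx using closure_induction with
  | mem x hx => exact subset_closure ⟨hB.conj_mem x hx.1 g, by rw [conj_pow, hx.2]; simp⟩
  | one => simp
  | mul x y _ _ ihx ihy =>
    have := mul_mem ihx ihy
    have e : g * (x * y) * g⁻¹ = g * x * g⁻¹ * (g * y * g⁻¹) := by group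
    rw [e]; exact this
  | inv x _ ih =>
    have e : g * x⁻¹ * g⁻¹ = (g * x * g⁻¹)⁻¹ := by group
    rw [e]; exact inv_mem ih

/-- `C_G(Ω₁(B)) / C_G(B)` is a `p`-group (`p` odd). -/
theorem exists_relIndex_centralizer_omegaOne [Finite G] {p : ℕ} [hp : Fact p.Prime] (hp2 : p ≠ 2)
    (B : Subgroup G) [hBn : B.Normal] (hB : IsPGroup p B) :
    ∃ k : ℕ, (centralizer (B : Set G)).relIndex (centralizer (omegaOne p B : Set G)) = p ^ k := by
  set C := centralizer (B : Set G) with hC
  set C₁ := centralizer (omegaOne p B : Set G) with hC₁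
  have hCn : C.Normal := inferInstance
  have hpg : IsPGroup p (C₁ ⧸ C.subgroupOf C₁) := by
    intro g
    obtain ⟨x, rfl⟩ := QuotientGroup.mk_surjective g
    obtain ⟨e, n', hn', hn⟩ := Nat.exists_eq_pow_mul_and_not_dvd (n := orderOf (x : G))
      (orderOf_pos (x : G)).ne' p hp.out.ne_one
    refine ⟨e, ?_⟩
    rw [← QuotientGroup.mk_pow, QuotientGroup.eq_one_iff, mem_subgroupOf]
    set y : G := (x : G) ^ (p ^ e) with hy
    have hyo : orderOf y = n' := by
      rw [hy, orderOf_pow_of_dvd (pow_ne_zero _ hp.out.ne_zero) (by rw [hn]; exact dvd_mul_right _ _), hn,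
        Nat.mul_div_cancel_left _ (pow_pos hp.out.pos _)]
    have hyC₁ : y ∈ C₁ := pow_mem x.2 _
    have h1 := Cfsg.Agent.Lib.Helper1.OmegaLemma.le_centralizer_of_centralizes_small p (zpowers y)
      (by rw [Nat.card_zpowers, hyo]; exact ((Nat.Prime.coprime_iff_not_dvd hp.out).2 hn').symm) B hB
      (by rw [normalizer_eq_top B]; exact le_top) (by
        intro b hb hsmall
        have hbp : b ^ p = 1 := by
          rcases hsmall with h | h
          · exact h
          · exact absurd h.1 hp2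
        have hb1 : b ∈ omegaOne p B := mem_omegaOne hb hbp
        rw [mem_centralizer_iff]
        rintro _ ⟨k, rfl⟩
        have hc : Commute y b := ((mem_centralizer_iff.1 hyC₁) b hb1).symm
        exact (hc.zpow_left k).eq)
    show ((x ^ (p ^ e) : C₁) : G) ∈ C
    rw [SubgroupClass.coe_pow, ← hy, hC, mem_centralizer_iff]
    intro b hb
    exact ((mem_centralizer_iff.1 (h1 hb)) y (mem_zpowers y)).symm
  obtain ⟨k, hk⟩ := hpg.exists_card_eq
  exact ⟨k, hk⟩

/-- `Z(J_e(S))`. -/
def zje (p : ℕ) (S : Subgroup G) : Subgroup G :=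
  joinMax (IsElementaryAbelian p) S ⊓ centralizer (joinMax (IsElementaryAbelian p) S : Set G)

theorem centerThompsonOf_eq_zje {G : Type*} [Group G] [Finite G] (p : ℕ) (S : Subgroup G) :
    centerThompsonOf p S = zje p S := by
  unfold centerThompsonOf zje
  rw [Cfsg.Agent.S0624.thompsonSubgroupOf_eq_joinMax]

theorem normalizer_le_normalizer_centralizer [Finite G] (J : Subgroup G) :
    normalizer (J : Set G) ≤ normalizer (centralizer (J : Set G) : Set G) := by
  intro g hg
  apply mem_normalizer_of_conj_mem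
  intro x hx
  rw [mem_centralizer_iff] at hx ⊢
  intro j hj
  have h1 : g⁻¹ * j * g⁻¹⁻¹ ∈ J := conj_mem_of_mem_normalizer (inv_mem hg) hj
  have h2 := hx _ h1
  have e1 : j * (g * x * g⁻¹) = g * ((g⁻¹ * j * g⁻¹⁻¹) * x) * g⁻¹ := by group
  have e2 : g * x * g⁻¹ * j = g * (x * (g⁻¹ * j * g⁻¹⁻¹)) * g⁻¹ := by group
  rw [e1, e2, h2]

theorem hrep_EA [Finite G] {p : ℕ} [Fact p.Prime] (hp : p ≠ 2) (S : Sylow p G) :
    ∀ B : Subgroup G, B ≤ S → (S : Subgroup G) ≤ normalizer (B : Set G) → ⁅⁅B, B⁆, B⁆ = ⊥ →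
      (∃ U, IsMaxIn (IsElementaryAbelian p) S U ∧ ⁅B, B⁆ ≤ U ∧ ¬ B ≤ U) →
      ∃ A, IsMaxIn (IsElementaryAbelian p) S A ∧ ⁅B, B⁆ ≤ A ∧ ¬ B ≤ A ∧
        B ≤ normalizer (A : Set G) := by
  apply hrep_of_type (fun A : Subgroup G => Cfsg.IsElementaryAbelian p A)
    (fun A : Subgroup ↥(S : Subgroup G) => Cfsg.IsElementaryAbelian p A) (Cfsg.Agent.S0654.isEA_iff p _)
  intro B₀ _ hcl ⟨U₀, hU₀, h1, h2⟩
  obtain ⟨A₀, hA₀, h3⟩ := Cfsg.Agent.S0652.result (S := ↥(S : Subgroup G)) S.2 hp ⊤ B₀ hcl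
    ⟨U₀, (Cfsg.Agent.S0652.mem_family_iff p ⊤ U₀).2 ⟨le_top, hU₀.1, fun C _ hC => hU₀.2 C hC⟩, h1, h2⟩
  obtain ⟨-, h4, h5⟩ := (Cfsg.Agent.S0652.mem_family_iff p ⊤ A₀).1 hA₀
  exact ⟨A₀, ⟨h4, fun C hC => h5 C le_top hC⟩, h3⟩

theorem mem_of_isMaxIn [Finite G] {p : ℕ} {S U : Subgroup G} (hU : IsMaxIn (IsElementaryAbelian p) S U)
    {x : G} (hxS : x ∈ S) (hx : ∀ a ∈ U, a * x = x * a) (hxp : x ^ p = 1) : x ∈ U := by
  have h1 := isElementaryAbelian_adjoin hU.2.1 hx hxp
  have hle : U ≤ closure ((U : Set G) ∪ {x}) := fun a ha => subset_closure (Or.inl ha)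
  have hleS : closure ((U : Set G) ∪ {x}) ≤ S := by
    rw [closure_le]
    rintro a (ha | ha)
    · exact hU.1 ha
    · rw [Set.mem_singleton_iff.mp ha]; exact hxS
  have := eq_of_le_of_card_ge hle (hU.2.2 _ hleS h1)
  rw [this]
  exact subset_closure (Or.inr rfl)


theorem normalizer_le_normalizer_zje [Finite G] (p : ℕ) (S : Subgroup G) :
    normalizer (S : Set G) ≤ normalizer (zje p S : Set G) := by
  have h1 : normalizer (S : Set G) ≤ normalizer (joinMax (IsElementaryAbelian p) S : Set G) :=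
    normalizer_le_normalizer_joinMax (Cfsg.Agent.S0624.ea_aut p) S
  exact (le_inf h1 (h1.trans (normalizer_le_normalizer_centralizer _))).trans
    inf_normalizer_le_normalizer_inf

/-- the claim for normal `p`-subgroups. -/
theorem zje_claim [Finite G] {p : ℕ} [Fact p.Prime] (hp2 : p ≠ 2)
    (hst : ∀ (P : Subgroup G) [P.Normal], IsPGroup p P → IsPStableOn p P)
    (S : Sylow p G) :
    ∀ (n : ℕ) (B : Subgroup G), B.Normal → IsPGroup p B → Nat.card B = n →
      (B ⊓ zje p (S : Subgroup G)).Normal := by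
  intro n
  induction n using Nat.strong_induction_on with
  | _ n ih =>
  intro B hBn hBp hcard
  by_contra hn
  set Q : Subgroup G → Prop := IsElementaryAbelian p with hQ
  have hQaut : ∀ (φ : MulAut G) (A : Subgroup G), Q A → Q (A.map φ.toMonoidHom) :=
    Cfsg.Agent.S0624.ea_aut p
  set J := joinMax Q (S : Subgroup G) with hJ
  set Z := zje p (S : Subgroup G) with hZ
  have hZJ : Z ≤ J := inf_le_left
  have hZC : Z ≤ centralizer (J : Set G) := inf_le_right
  set Z₁ := B ⊓ Z with hZ₁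
  have hBS : B ≤ S := hBp.le_sylow_of_normal S
  obtain ⟨A₀, hA₀⟩ := exists_isMaxIn Q (isElementaryAbelian_bot p) (S : Subgroup G)
  have hJS : J ≤ S := sSup_le fun U hU => hU.1
  have hZab : ∀ x ∈ Z, ∀ y ∈ Z, x * y = y * x := by
    intro x hx y hy
    exact (mem_centralizer_iff.1 (hZC hy)) x (hZJ hx)
  have hSZ : (S : Subgroup G) ≤ normalizer (Z : Set G) :=
    le_normalizer.trans (normalizer_le_normalizer_zje p _)
  -- B is the normal closure of Z₁
  have hB₁ : normalClosure (Z₁ : Set G) = B := by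
    have hle : normalClosure (Z₁ : Set G) ≤ B := normalClosure_le_normal inf_le_left
    by_contra hne
    have hlt : Nat.card (normalClosure (Z₁ : Set G)) < n := by
      rw [← hcard]
      by_contra hcon
      exact hne (eq_of_le_of_card_ge hle (not_lt.1 hcon))
    have h1 := ih _ hlt (normalClosure (Z₁ : Set G)) inferInstance (hBp.to_le hle) rfl
    have h2 : normalClosure (Z₁ : Set G) ⊓ Z = Z₁ := by
      apply le_antisymm
      · exact le_inf (inf_le_left.trans hle) inf_le_right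
      · exact le_inf le_normalClosure inf_le_right
    rw [h2] at h1
    exact hn h1
  have hBne : B ≠ ⊥ := by
    rintro rfl
    apply hn
    rw [hZ₁, bot_inf_eq]
    infer_instance
  have hB'n : (⁅B, B⁆ : Subgroup G).Normal := inferInstance
  have hB'B : ⁅B, B⁆ ≤ B := commutator_le_self B
  have hE : (⁅B, B⁆ ⊓ Z).Normal :=
    ih _ (hcard ▸ card_commutator_self_lt hBp hBne) ⁅B, B⁆ hB'n (hBp.to_le hB'B) rfl
  have h1 : ⁅B, B⁆ ≤ ⁅B, B⁆ ⊓ Z := by
    nth_rewrite 1 [← hB₁]
    apply commutator_normalClosure_le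
    intro z hz b hb
    obtain ⟨hzB, hzZ⟩ := mem_inf.1 hz
    refine mem_inf.2 ⟨commutator_mem_commutator hzB hb, ?_⟩
    have e : ⁅z, b⁆ = z * (b * z⁻¹ * b⁻¹) := by rw [commutatorElement_def]; group
    rw [e]
    exact mul_mem hzZ (conj_mem_of_mem_normalizer (hSZ (hBS hb)) (inv_mem hzZ))
  have hB'Z : ⁅B, B⁆ ≤ Z := h1.trans inf_le_right
  have hcl2 : ⁅⁅B, B⁆, B⁆ = ⊥ := by
    rw [commutator_comm, eq_bot_iff]
    nth_rewrite 1 [← hB₁]
    apply commutator_normalClosure_le
    intro z hz b hb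
    rw [mem_bot, commutatorElement_eq_one_iff_mul_comm]
    exact hZab z (mem_inf.1 hz).2 b (hB'Z hb)
  -- the subgroup Ω₁(B)
  set B₁ := omegaOne p B with hB₁def
  have hB₁n : B₁.Normal := omegaOne_normal p B
  have hB₁B : B₁ ≤ B := omegaOne_le p B
  have hB₁p : IsPGroup p B₁ := hBp.to_le hB₁B
  have hexp : ∀ x ∈ B₁, x ^ p = 1 := pow_eq_one_of_mem_omegaOne hp2 B hcl2
  have hcl2' : ⁅⁅B₁, B₁⁆, B₁⁆ = ⊥ := by
    rw [eq_bot_iff, ← hcl2]
    exact commutator_mono (commutator_mono hB₁B hB₁B) hB₁B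
  have hB₁'U : ∀ U, IsMaxIn Q S U → ⁅B₁, B₁⁆ ≤ U := by
    intro U hU x hx
    have hx1 : x ∈ B₁ := commutator_le_self B₁ hx
    have hx2 : x ∈ Z := hB'Z (commutator_mono hB₁B hB₁B hx)
    refine mem_of_isMaxIn hU (hBS (hB₁B hx1)) ?_ (hexp x hx1)
    intro a ha
    exact (mem_centralizer_iff.1 (hZC hx2)) a ((le_sSup hU : U ≤ J) ha)
  obtain ⟨k₀, hk₀⟩ := exists_relIndex_centralizer_omegaOne hp2 B hBp
  have hCC₁ : centralizer (B : Set G) ≤ centralizer (B₁ : Set G) := centralizer_le hB₁B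
  have hCZ₁ : centralizer (B : Set G) ≤ normalizer (Z₁ : Set G) :=
    (centralizer_le (show ((Z₁ : Subgroup G) : Set G) ⊆ B from inf_le_left)).trans
      (centralizer_le_normalizer _)
  by_cases hex : ∃ U, IsMaxIn Q S U ∧ ¬ B₁ ≤ U
  · obtain ⟨U, hU, hnU⟩ := hex
    obtain ⟨A, hA, -, hBnA, hBNA⟩ := hrep_EA hp2 S B₁ (hB₁B.trans hBS) le_normalizer_of_normal hcl2'
      ⟨U, hU, hB₁'U U hU, hnU⟩
    have hAab : IsMulCommutative A := hA.2.1.1
    obtain ⟨K, hKn, hCK, ⟨k, hk⟩, hK⟩ := exists_normal_of_isPStableOn B₁ (hst B₁ hB₁p)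
    have hAK : A ≤ K := by
      intro a ha
      apply hK
      rw [eq_bot_iff]
      have e1 : ⁅B₁, zpowers a⁆ ≤ A :=
        (commutator_mono le_rfl (zpowers_le.2 ha)).trans (le_normalizer_iff_commutator_le_right.1 hBNA)
      have e2 : ⁅A, A⁆ = ⊥ := commutator_self_eq_bot_iff.2 hAab
      rw [← e2]
      exact commutator_mono e1 (zpowers_le.2 ha)
    have hBK : B ≤ K := by
      intro b hb
      apply hK
      rw [eq_bot_iff, ← hcl2]
      exact commutator_mono (commutator_mono hB₁B (zpowers_le.2 hb)) (zpowers_le.2 hb)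
    have hrel : (centralizer (B : Set G)).relIndex K = p ^ (k₀ + k) := by
      rw [← relIndex_mul_relIndex _ _ K hCC₁ hCK, hk₀, hk, pow_add]
    set T := (S : Subgroup G) ⊓ K with hT
    have hAT : A ≤ T := le_inf hA.1 hAK
    have hTS : T ≤ S := inf_le_left
    set X := T ⊓ centralizer (joinMax Q T : Set G) with hX
    have hJT : joinMax Q T ≤ J := sSup_le fun U' hU' => le_sSup (hA.of_le' hAT hTS hU')
    have hZ₁X : Z₁ ≤ X ⊓ B := by
      intro z hz
      obtain ⟨hzB, hzZ⟩ := mem_inf.1 hz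
      exact mem_inf.2 ⟨mem_inf.2 ⟨mem_inf.2 ⟨hBS hzB, hBK hzB⟩, centralizer_le hJT (hZC hzZ)⟩, hzB⟩
    have hNX : normalizer (T : Set G) ≤ normalizer ((X ⊓ B : Subgroup G) : Set G) := by
      refine le_trans ?_ inf_normalizer_le_normalizer_inf
      refine le_inf ?_ le_normalizer_of_normal
      refine le_trans ?_ inf_normalizer_le_normalizer_inf
      exact le_inf le_rfl ((normalizer_le_normalizer_joinMax hQaut T).trans
        (normalizer_le_normalizer_centralizer _))
    have hCX : centralizer (B : Set G) ≤ normalizer ((X ⊓ B : Subgroup G) : Set G) :=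
      (centralizer_le (show ((X ⊓ B : Subgroup G) : Set G) ⊆ B from inf_le_right)).trans
        (centralizer_le_normalizer _)
    have hKle : K ≤ centralizer (B : Set G) ⊔ T := le_sup_sylow_inf_of_relIndex S K _ _ hrel
    have htop : normalizer ((X ⊓ B : Subgroup G) : Set G) = ⊤ := by
      rw [eq_top_iff, ← normalizer_sylow_inf_sup_eq_top S K]
      refine sup_le hNX (hKle.trans (sup_le hCX (le_normalizer.trans hNX)))
    have hXBn : (X ⊓ B).Normal := normalizer_eq_top_iff.1 htop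
    apply hBnA
    have hBX : normalClosure (Z₁ : Set G) ≤ X ⊓ B := normalClosure_le_normal hZ₁X
    rw [hB₁] at hBX
    intro b hb
    have hb1 : b ∈ centralizer (joinMax Q T : Set G) := (mem_inf.1 (mem_inf.1 (hBX (hB₁B hb))).1).2
    refine mem_of_isMaxIn hA (hBS (hB₁B hb)) ?_ (hexp b hb)
    intro a ha
    exact (mem_centralizer_iff.1 hb1) a ((le_sSup (hA.of_le hAT hTS) : A ≤ joinMax Q T) ha)
  · push Not at hex
    set C₁ := centralizer (B₁ : Set G) with hC₁
    have hC₁n : C₁.Normal := inferInstance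
    have hJC : J ≤ C₁ := by
      refine sSup_le fun U hU => ?_
      have hUab : IsMulCommutative U := hU.2.1.1
      intro u hu
      rw [hC₁, mem_centralizer_iff]
      intro b hb
      exact setLike_mul_comm (hex U hU hb) hu
    set T := (S : Subgroup G) ⊓ C₁ with hT
    have hjm : joinMax Q T = J := joinMax_eq_of_le inf_le_left (le_inf hJS hJC) ⟨A₀, hA₀⟩
    have hNT : normalizer (T : Set G) ≤ normalizer (Z₁ : Set G) := by
      refine le_trans ?_ inf_normalizer_le_normalizer_inf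
      refine le_inf le_normalizer_of_normal ?_
      have h2 : normalizer (T : Set G) ≤ normalizer (J : Set G) := by
        rw [← hjm]; exact normalizer_le_normalizer_joinMax hQaut T
      exact (le_inf h2 (h2.trans (normalizer_le_normalizer_centralizer _))).trans
        inf_normalizer_le_normalizer_inf
    have hCle : C₁ ≤ centralizer (B : Set G) ⊔ T := le_sup_sylow_inf_of_relIndex S C₁ _ _ hk₀
    have htop : normalizer (Z₁ : Set G) = ⊤ := by
      rw [eq_top_iff, ← normalizer_sylow_inf_sup_eq_top S C₁]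
      exact sup_le hNT (hCle.trans (sup_le hCZ₁ (le_normalizer.trans hNT)))
    exact hn (normalizer_eq_top_iff.1 htop)

/-- **ZJ-theorem, elementary abelian version, for `Z(J_e(S))` itself.** -/
theorem zje_normal [Finite G] {p : ℕ} [Fact p.Prime] (hp2 : p ≠ 2)
    (hc : centralizer (pCore p G : Set G) ≤ pCore p G)
    (hst : ∀ (P : Subgroup G) [P.Normal], IsPGroup p P → IsPStableOn p P)
    (S : Sylow p G) : (zje p (S : Subgroup G)).Normal := by
  set Z := zje p (S : Subgroup G) with hZ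
  have hZab : ⁅Z, Z⁆ = ⊥ := by
    rw [eq_bot_iff, commutator_le]
    intro x hx y hy
    rw [mem_bot, commutatorElement_eq_one_iff_mul_comm]
    exact (mem_centralizer_iff.1 (mem_inf.1 hy).2) x (mem_inf.1 hx).1
  have hSZ : (S : Subgroup G) ≤ normalizer (Z : Set G) :=
    le_normalizer.trans (normalizer_le_normalizer_zje p _)
  have hOS : pCore p G ≤ S := pCore_le_sylow S
  have hZO : Z ≤ pCore p G := by
    obtain ⟨K, hKn, hCK, ⟨k, hk⟩, hK⟩ :=
      exists_normal_of_isPStableOn (pCore p G) (hst (pCore p G) (pCore_isPGroup p G))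
    have hKp : IsPGroup p K := by
      obtain ⟨j, hj⟩ := ((pCore_isPGroup p G).to_le hc).exists_card_eq
      have h1 := relIndex_mul_relIndex ⊥ _ K bot_le hCK
      rw [relIndex_bot_left, relIndex_bot_left, hk, hj, ← pow_add] at h1
      exact IsPGroup.of_card h1.symm
    refine le_trans ?_ (le_pCore hKn hKp)
    intro z hz
    apply hK
    rw [eq_bot_iff, ← hZab]
    refine commutator_mono ?_ (zpowers_le.2 hz)
    exact (commutator_mono le_rfl (zpowers_le.2 hz)).trans
      (le_normalizer_iff_commutator_le_right.1 (hOS.trans hSZ))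
  have := zje_claim hp2 hst S _ (pCore p G) inferInstance (pCore_isPGroup p G) rfl
  rwa [inf_eq_right.2 hZO] at this

theorem centerThompsonOf_normal {G : Type*} [Group G] [Finite G] {p : ℕ} [Fact p.Prime] (hp2 : p ≠ 2)
    (hc : centralizer (pCore p G : Set G) ≤ pCore p G)
    (hst : ∀ (P : Subgroup G) [P.Normal], IsPGroup p P → IsPStableOn p P)
    (S : Sylow p G) : (centerThompsonOf p (S : Subgroup G)).Normal := by
  rw [centerThompsonOf_eq_zje]
  exact zje_normal hp2 hc hst S

end Cfsg.Agent.Lib.Helper1.ZJE
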