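import Mathlib
import Cfsg.Agent.Lib.Helper1.ZJE
import Cfsg.Agent.Lib.Lead.PStable

set_option autoImplicit false

universe u

namespace Cfsg.Agent.Lib.Helper1.ZJE

open Cfsg Cfsg.Agent.Lib.Lead

variable {p : ℕ}

/-- the functor `Q ↦ Z(J_e(Q))` (elementary abelian version of `J`) -/
def zjE (p : ℕ) (Q : Type u) [Group Q] : Subgroup Q :=
  thompsonSubgroup p Q ⊓ Subgroup.centralizer (thompsonSubgroup p Q : Set Q)

theorem thompsonSubgroup_map_le {Q R : Type u} [Group Q] [Group R] (φ : Q ≃* R) :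
    (thompsonSubgroup p Q).map φ.toMonoidHom ≤ thompsonSubgroup p R := by
  rw [Subgroup.map_le_iff_le_comap]
  apply sSup_le
  intro A hA
  rw [← Subgroup.map_le_iff_le_comap]
  apply le_sSup
  obtain ⟨hA1, hA2⟩ := hA
  refine ⟨Cfsg.Agent.Lib.Helper11.IsElementaryAbelian.map hA1 φ.toMonoidHom, ?_⟩
  intro B hB
  have h1 : IsElementaryAbelian p (B.map φ.symm.toMonoidHom) :=
    Cfsg.Agent.Lib.Helper11.IsElementaryAbelian.map hB φ.symm.toMonoidHom
  have h2 := hA2 _ h1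
  rw [Subgroup.card_map_of_injective φ.symm.injective] at h2
  rw [Subgroup.card_map_of_injective φ.injective]
  exact h2

theorem zjE_map_le {Q R : Type u} [Group Q] [Group R] (φ : Q ≃* R) :
    (zjE p Q).map φ.toMonoidHom ≤ zjE p R := by
  rintro _ ⟨x, hx, rfl⟩
  obtain ⟨hx1, hx2⟩ := Subgroup.mem_inf.mp hx
  refine Subgroup.mem_inf.mpr ⟨thompsonSubgroup_map_le φ (Subgroup.mem_map_of_mem _ hx1), ?_⟩
  rw [Subgroup.mem_centralizer_iff] at hx2 ⊢
  intro y hy
  have hy' : φ.symm y ∈ thompsonSubgroup p Q :=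
    thompsonSubgroup_map_le φ.symm (Subgroup.mem_map_of_mem φ.symm.toMonoidHom hy)
  have := congrArg φ (hx2 _ hy')
  simpa using this

theorem zjE_map {Q R : Type u} [Group Q] [Group R] (φ : Q ≃* R) :
    (zjE p Q).map φ.toMonoidHom = zjE p R := by
  apply le_antisymm (zjE_map_le φ)
  intro y hy
  exact ⟨φ.symm y, zjE_map_le φ.symm (Subgroup.mem_map_of_mem φ.symm.toMonoidHom hy), by simp⟩

theorem zjE_ne_bot [hp : Fact p.Prime] (Q : Type u) [Group Q] [Finite Q] (hQ : IsPGroup p Q) [Nontrivial Q] :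
    zjE p Q ≠ ⊥ := by
  obtain ⟨A, hA⟩ := Cfsg.Agent.Lib.Helper11.exists_mem_maxElementaryAbelianSubgroups (G := Q) p
  have hAJ : A ≤ thompsonSubgroup p Q := le_sSup hA
  -- an element of order p
  have hdvd : p ∣ Nat.card Q := by
    obtain ⟨k, hk⟩ := hQ.exists_card_eq
    rcases Nat.eq_zero_or_pos k with rfl | hpos
    · exfalso
      rw [pow_zero] at hk
      have := Finite.one_lt_card (α := Q)
      omega
    · rw [hk]; exact dvd_pow_self p hpos.ne'
  obtain ⟨x, hx⟩ := exists_prime_orderOf_dvd_card' p hdvd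
  have hz : IsElementaryAbelian p (Subgroup.zpowers x) := by
    refine ⟨inferInstance, ?_⟩
    rintro _ ⟨k, rfl⟩
    show (x ^ k) ^ p = 1
    rw [← zpow_natCast, ← zpow_mul, mul_comm, zpow_mul, zpow_natCast, ← hx, pow_orderOf_eq_one, one_zpow]
  have h1 := hA.2 _ hz
  have hJ : thompsonSubgroup p Q ≠ ⊥ := by
    intro h
    have hAb : A = ⊥ := le_bot_iff.mp (h ▸ hAJ)
    simp only [hAb, Subgroup.card_bot, Nat.card_zpowers, hx] at h1
    have := hp.out.two_le
    omega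
  have hJnt : Nontrivial (thompsonSubgroup p Q) := (Subgroup.nontrivial_iff_ne_bot _).mpr hJ
  have hJp : IsPGroup p (thompsonSubgroup p Q) := hQ.to_subgroup _
  have hZ : Nontrivial (Subgroup.center (thompsonSubgroup p Q)) := hJp.center_nontrivial
  obtain ⟨z, hz1⟩ := exists_ne (1 : Subgroup.center (thompsonSubgroup p Q))
  intro hbot
  have hzmem : ((z : thompsonSubgroup p Q) : Q) ∈ zjE p Q := by
    refine Subgroup.mem_inf.mpr ⟨(z : thompsonSubgroup p Q).2, ?_⟩
    rw [Subgroup.mem_centralizer_iff]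
    intro y hy
    have := Subgroup.mem_center_iff.mp z.2 ⟨y, hy⟩
    exact congrArg Subtype.val this
  rw [hbot, Subgroup.mem_bot] at hzmem
  exact hz1 (Subtype.ext (Subtype.ext hzmem))

theorem isCharPFunctor_zjE [Fact p.Prime] : IsCharPFunctor.{u} p (zjE p) :=
  ⟨fun Q _ _ hQ _ => zjE_ne_bot Q hQ, fun _ _ _ _ _ _ φ => zjE_map φ⟩

theorem inducedFunctor_zjE {G : Type u} [Group G] (T : Subgroup G) :
    inducedFunctor (zjE p) T = centerThompsonOf p T := by
  unfold inducedFunctor centerThompsonOf thompsonSubgroupOf zjE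
  ext x
  constructor
  · rintro ⟨y, hy, rfl⟩
    obtain ⟨hy1, hy2⟩ := Subgroup.mem_inf.mp hy
    refine Subgroup.mem_inf.mpr ⟨Subgroup.mem_map_of_mem _ hy1, ?_⟩
    rw [Subgroup.mem_centralizer_iff] at hy2 ⊢
    rintro _ ⟨w, hw, rfl⟩
    exact congrArg Subtype.val (hy2 w hw)
  · intro hx
    obtain ⟨⟨y, hy, rfl⟩, hx2⟩ := Subgroup.mem_inf.mp hx
    refine ⟨y, Subgroup.mem_inf.mpr ⟨hy, ?_⟩, rfl⟩
    rw [Subgroup.mem_centralizer_iff] at hx2 ⊢
    intro w hw
    exact Subtype.ext (hx2 _ (Subgroup.mem_map_of_mem _ hw))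

end Cfsg.Agent.Lib.Helper1.ZJE
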