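import Mathlib
import Cfsg.Agent.Lib.Helper1.ZJEFunctor
import Cfsg.Agent.Lib.Helper1.QuadSL2
import Cfsg.Agent.Lib.Helper9.SectionFusion6

/-!
# `N_G(Z(J_e(P)))` controls strong fusion in `SL₂(p)`-free groups (given the Dickson-type statement S0274)
-/

set_option autoImplicit false

namespace Cfsg.Agent.Lib.Helper1.ZJE

open scoped Pointwise
open Cfsg Cfsg.Agent.Lib.Helper33 Cfsg.Agent.Lib.Helper9 Cfsg.Agent.Lib.Helper34
open Cfsg.Agent.Lib.Helper1.QuadSL2

universe u

variable {p : ℕ} [Fact p.Prime]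

/-- version of helper9's `controlsStrongFusion_of_local` for the given Sylow subgroup. -/
theorem controlsStrongFusionOf_of_local {G : Type u} [Group G] [Finite G]
    (W : ∀ (Q : Type u) [Group Q], Subgroup Q) (hW : IsCharPFunctor.{u} p W)
    (hloc : ∀ (K R : Subgroup G) [hR : (R.subgroupOf K).Normal],
      Subgroup.centralizer ((pCore p (↥K ⧸ R.subgroupOf K) : Subgroup (↥K ⧸ R.subgroupOf K)) :
        Set (↥K ⧸ R.subgroupOf K)) ≤ pCore p (↥K ⧸ R.subgroupOf K) →
      ∀ T : Sylow p (↥K ⧸ R.subgroupOf K),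
        (inducedFunctor (G := (↥K ⧸ R.subgroupOf K)) W
          ((T : Subgroup (↥K ⧸ R.subgroupOf K)))).Normal)
    (Y : Type u) [Group Y] [Finite Y] (hY : Involves Y G) (T : Sylow p Y) (A : Set Y)
    (hA : A ⊆ (T : Subgroup Y)) :
    ControlsStrongFusionOf (Subgroup.normalizer (inducedFunctor W (T : Subgroup Y) : Set Y)) (T : Subgroup Y) A := by
  have h𝓦 : ∀ W' ∈ ({W} : Set (∀ (Q : Type u) [Group Q], Subgroup Q)), IsCharPFunctor.{u} p W' := by
    intro W' hW'
    rw [Set.mem_singleton_iff] at hW'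
    subst hW'
    exact hW
  have hall := CS_of_involves (G := G) h𝓦 (by
    intro K R _ hC
    obtain ⟨T⟩ : Nonempty (Sylow p (↥K ⧸ R.subgroupOf K)) := Sylow.nonempty
    rw [CS_iff h𝓦 T]
    intro A h _ hA hhA
    have hN := hloc K R hC T
    refine ⟨h, StepChain.single ⟨hA, hhA, _, ⟨W, rfl, rfl⟩, ⟨Subgroup.mem_top _, ?_⟩⟩, fun _ _ => rfl⟩
    show h ∈ Subgroup.normalizer ((inducedFunctor W (T : Subgroup (↥K ⧸ R.subgroupOf K)) :
      Subgroup (↥K ⧸ R.subgroupOf K)) : Set (↥K ⧸ R.subgroupOf K))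
    rw [Subgroup.normalizer_eq_top]
    exact Subgroup.mem_top _)
  have h1 := (CS_iff h𝓦 T).1 (hall _ hY)
  refine ⟨hA, fun g hgA => ?_⟩
  obtain ⟨x, hx, hx'⟩ := h1 A g (Subgroup.mem_top _) hA hgA
  have e : ind Y {W} = {inducedFunctor W} := Set.image_singleton
  rw [e] at hx
  exact ⟨x, (mem_normalizer_of_stepChain hx).2, fun a ha => (hx' a ha).symm⟩

/-- In an `SL₂(p)`-free group, `p` odd, `N_G(Z(J_e(P)))` controls strong fusion in `P`. -/
theorem controlsStrongFusionOf_centerThompsonOf (hp : p ≠ 2) (hD : DicksonHyp.{u} p)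
    {G : Type u} [Group G] [Finite G]
    (hfree : ¬ Involves (Matrix.SpecialLinearGroup (Fin 2) (ZMod p)) G) (P : Sylow p G) (A : Set G)
    (hA : A ⊆ (P : Subgroup G)) :
    ControlsStrongFusionOf (Subgroup.normalizer (centerThompsonOf p (P : Subgroup G) : Set G)) (P : Subgroup G) A := by
  rw [← inducedFunctor_zjE]
  apply controlsStrongFusionOf_of_local (G := G) (zjE p) isCharPFunctor_zjE _ G (involves_self G) P A hA
  intro K R _ hC T
  rw [inducedFunctor_zjE]
  have hq : QStable p (↥K ⧸ R.subgroupOf K) :=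
    qStable_of_sl2_free hD (fun h => hfree (involves_trans h (involves_section K R)))
  exact centerThompsonOf_normal hp hC (fun V _ hV => hq.isPStableOn V hV) T

end Cfsg.Agent.Lib.Helper1.ZJE
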